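import Cfsg.Agent.Lib.MinNonCA.TwoGroup
import Cfsg.Agent.Lib.Char.PslClassSizes.Split
import Cfsg.Agent.Lib.Fusion.Transfer

/-!
# Solvable normal subgroups of perfect groups with all proper subgroups of the given kind

They are central when the Sylow `2`-subgroups are nonabelian.
-/

set_option autoImplicit false
set_option linter.unusedSectionVars false
set_option linter.style.haveILetI false

namespace CfsgLib.MinNonCA

open Subgroup
open scoped commutatorElement Pointwise

universe u

variable {G : Type u} [Group G] [Finite G]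

/-- A perfect group, its proper subgroups with abelian centralizers of noncentral elements, and a
nonabelian Sylow `2`-subgroup. -/
structure PerfCtx (S : Sylow 2 G) : Prop where
  perf : commutator G = ⊤
  sub : SubCA G
  nonab : ∃ a ∈ (S : Subgroup G), ∃ b ∈ (S : Subgroup G), ¬ Commute a b

/-- A perfect group has no proper subgroup of index at most three. -/
theorem eq_top_of_index_le (hperf : commutator G = ⊤) (H : Subgroup G) (h : H.index ≤ 3) : H = ⊤ := by
  classical
  haveI := Fintype.ofFinite (G ⧸ H)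
  set φ := MulAction.toPermHom G (G ⧸ H)
  have hK : φ.ker.index ∣ Nat.factorial (Fintype.card (G ⧸ H)) := by
    rw [Subgroup.index_ker, ← Fintype.card_perm, ← Nat.card_eq_fintype_card]
    exact Subgroup.card_subgroup_dvd_card _
  have h3 : Fintype.card (G ⧸ H) ≤ 3 := by
    rw [← Nat.card_eq_fintype_card, ← Subgroup.index_eq_card]; exact h
  have h4 : ¬ 4 ∣ φ.ker.index := fun h4 => by
    have h6 := (h4.trans hK).trans (Nat.factorial_dvd_factorial h3)
    norm_num [Nat.factorial] at h6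
  have hker := eq_top_of_not_four hperf φ.ker h4
  refine eq_top_iff.2 fun g _ => ?_
  have hg : g ∈ φ.ker := hker ▸ mem_top g
  have := Equiv.ext_iff.1 (MonoidHom.mem_ker.1 hg) ((1 : G) : G ⧸ H)
  simp only [φ, MulAction.toPermHom_apply, MulAction.toPerm_apply, Equiv.Perm.coe_one, id_eq] at this
  rw [show g • ((1 : G) : G ⧸ H) = ((g * 1 : G) : G ⧸ H) from rfl, QuotientGroup.eq, mul_one, mul_one]
    at this
  exact inv_mem_iff.1 this

namespace PerfCtx

variable {S : Sylow 2 G} (c : PerfCtx S)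
include c

theorem S_ne_top : (S : Subgroup G) ≠ ⊤ := fun h => by
  haveI : Fact (Nat.Prime 2) := ⟨Nat.prime_two⟩
  haveI : Group.IsNilpotent G :=
    (IsPGroup.of_equiv (h ▸ S.2 : IsPGroup 2 (⊤ : Subgroup G)) Subgroup.topEquiv).isNilpotent
  obtain ⟨a, -, b, -, hab⟩ := c.nonab
  exact hab (by
    have h1 := DFunLike.congr_fun (hom_eq_one c.perf (MonoidHom.id G)) a
    rw [MonoidHom.id_apply, MonoidHom.one_apply] at h1
    rw [h1]; exact Commute.one_left b)

theorem twoCtx : TwoCtx (S : Subgroup G) := ⟨S.2, c.sub _ c.S_ne_top, c.nonab⟩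

/-- The centre of the Sylow subgroup is central in every proper subgroup containing it. -/
theorem zS_central {H : Subgroup G} (hH : H ≠ ⊤) (hSH : (S : Subgroup G) ≤ H) {z : G}
    (hz : z ∈ zS (S : Subgroup G)) {y : G} (hy : y ∈ H) : Commute z y := by
  obtain ⟨a, ha, b, hb, hab⟩ := c.nonab
  obtain ⟨hzS, hzc⟩ := mem_zS.1 hz
  exact (c.sub H hH).central (hSH hzS) (hSH ha) (hSH hb) (hzc a ha).symm (hzc b hb).symm hab hy

theorem le_of_normal_two {D : Subgroup G} [D.Normal] (hD : IsPGroup 2 D) : D ≤ (S : Subgroup G) :=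
  sup_eq_left.1 (S.3 (IsPGroup.to_sup_of_normal_right S.2 hD) le_sup_left)

/-- Abelian normal two-subgroups are central. -/
theorem abelian_two_central (V : Subgroup G) [hVn : V.Normal] (hV : IsPGroup 2 V)
    (hcomm : ∀ a ∈ V, ∀ b ∈ V, Commute a b)
    (IH : ∀ E : Subgroup G, E.Normal → E < V → E ≤ center G) : V ≤ center G := by
  haveI : Fact (Nat.Prime 2) := ⟨Nat.prime_two⟩
  classical
  by_contra hnc
  set C := centralizer (V : Set G) with hC
  have memC : ∀ {g : G}, g ∈ C ↔ ∀ v ∈ V, Commute g v := fun {g} =>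
    mem_centralizer_iff.trans ⟨fun h v hv => (h v hv).symm, fun h v hv => (h v hv).eq.symm⟩
  have hVS := c.le_of_normal_two hV
  have hCtop : C ≠ ⊤ := fun h => hnc fun v hv => mem_center_iff_commute.2 fun y =>
    (memC.1 (h ▸ mem_top y) v hv).symm
  haveI hCn : C.Normal := inferInstance
  have hVC : V ≤ C := fun v hv => memC.2 fun w hw => hcomm v hv w hw
  -- commutators of `S` centralize `V`
  have hab : ∀ a ∈ (S : Subgroup G), ∀ b ∈ (S : Subgroup G), a * b * a⁻¹ * b⁻¹ ∈ C := by
    have hnz : ¬ (S : Subgroup G) ⊓ C ≤ zS (S : Subgroup G) := fun h => hCtop (eq_top_of_sylow_le c.perf S C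
      fun s hs => memC.2 fun v hv => ((mem_zS.1 (h ⟨hVS hv, hVC hv⟩)).2 s hs).symm)
    obtain ⟨x, hx, f⟩ := c.twoCtx.exists_first _ inf_le_left (fun s hs a ha =>
      mem_inf.2 ⟨mul_mem (mul_mem hs (mem_inf.1 ha).1) (inv_mem hs), hCn.conj_mem a (mem_inf.1 ha).2 s⟩) hnz
    intro a ha b hb
    have hmem : a * b * a⁻¹ * b⁻¹ ∈ (S : Subgroup G) :=
      mul_mem (mul_mem (mul_mem ha hb) (inv_mem ha)) (inv_mem hb)
    have key : ∀ a ∈ (S : Subgroup G), ∀ b ∈ (S : Subgroup G), Commute ((b * a)⁻¹ * (a * b)) x := by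
      intro a ha b hb
      obtain ⟨p, hp, hp'⟩ : ∃ p ∈ zS (S : Subgroup G), a * x * a⁻¹ = p * x :=
        ⟨_, f.comm a ha, by group⟩
      obtain ⟨r, hr, hr'⟩ : ∃ r ∈ zS (S : Subgroup G), b * x * b⁻¹ = r * x :=
        ⟨_, f.comm b hb, by group⟩
      have h1 : a * b * x * (a * b)⁻¹ = r * p * x := by
        calc a * b * x * (a * b)⁻¹ = a * (b * x * b⁻¹) * a⁻¹ := by group
          _ = a * r * x * a⁻¹ := by rw [hr']; group
          _ = r * (a * x * a⁻¹) := by rw [show a * r = r * a from ((mem_zS.1 hr).2 a ha).eq.symm]; group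
          _ = r * p * x := by rw [hp']; group
      have h2 : b * a * x * (b * a)⁻¹ = r * p * x := by
        calc b * a * x * (b * a)⁻¹ = b * (a * x * a⁻¹) * b⁻¹ := by group
          _ = b * p * x * b⁻¹ := by rw [hp']; group
          _ = p * (b * x * b⁻¹) := by rw [show b * p = p * b from ((mem_zS.1 hp).2 b hb).eq.symm]; group
          _ = p * r * x := by rw [hr']; group
          _ = r * p * x := by rw [show p * r = r * p from ((mem_zS.1 hp).2 r (mem_zS.1 hr).1).eq]
      refine mul_inv_eq_iff_eq_mul.1 ?_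
      calc (b * a)⁻¹ * (a * b) * x * ((b * a)⁻¹ * (a * b))⁻¹
          = (b * a)⁻¹ * (a * b * x * (a * b)⁻¹) * (b * a) := by group
        _ = (b * a)⁻¹ * (b * a * x * (b * a)⁻¹) * (b * a) := by rw [h1, h2]
        _ = x := by group
    have hxc : Commute (a * b * a⁻¹ * b⁻¹) x := by
      have := key a⁻¹ (inv_mem ha) b⁻¹ (inv_mem hb)
      rwa [show (b⁻¹ * a⁻¹)⁻¹ * (a⁻¹ * b⁻¹) = a * b * a⁻¹ * b⁻¹ by group] at this
    exact memC.2 fun v hv => f.commY c.twoCtx hmem (hVS hv) hxc (memC.1 hx.2 v hv).symm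
  -- elements whose square centralizes `V`
  set I : G → Prop := fun g => g ∉ C ∧ g * g ∈ C with hI
  obtain ⟨i₀, hi₀⟩ : ∃ g, I g := by
    obtain ⟨s, hs, hsC⟩ : ∃ s ∈ (S : Subgroup G), s ∉ C := by
      by_contra hcon
      push Not at hcon
      exact hCtop (eq_top_of_sylow_le c.perf S C hcon)
    obtain ⟨k, hk⟩ := S.2 ⟨s, hs⟩
    have hk' : s ^ 2 ^ k = 1 := congrArg Subtype.val hk
    have hex : ∃ j, s ^ 2 ^ j ∈ C := ⟨k, hk' ▸ one_mem C⟩
    obtain ⟨j, hj, hj1⟩ : ∃ j, s ^ 2 ^ j ∉ C ∧ s ^ 2 ^ (j + 1) ∈ C := by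
      refine ⟨Nat.find hex - 1, ?_⟩
      have h0 : Nat.find hex ≠ 0 := fun e => hsC (by simpa [e] using Nat.find_spec hex)
      exact ⟨Nat.find_min hex (by omega),
        by rw [Nat.sub_add_cancel (Nat.pos_of_ne_zero h0)]; exact Nat.find_spec hex⟩
    exact ⟨s ^ 2 ^ j, hj, by rwa [← pow_two, ← pow_mul, ← pow_succ]⟩
  have hIconj : ∀ g, I g → ∀ k, I (k * g * k⁻¹) := fun g hg k =>
    ⟨fun h => hg.1 (by simpa [mul_assoc] using hCn.conj_mem _ h k⁻¹), by
      rw [show k * g * k⁻¹ * (k * g * k⁻¹) = k * (g * g) * k⁻¹ by group]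
      exact hCn.conj_mem _ hg.2 k⟩
  -- all of them have the same fixed points
  have hsame : ∀ g h, I g → I h → ∀ v ∈ V, Commute g v → Commute h v := by
    intro g h hg hh v hv hgv
    set H := closure ((V : Set G) ∪ {g, h}) with hH
    have hVH : ∀ {w}, w ∈ V → w ∈ H := fun hw => subset_closure (Or.inl hw)
    have hgH : g ∈ H := subset_closure (Or.inr (Or.inl rfl))
    have hhH : h ∈ H := subset_closure (Or.inr (Or.inr rfl))
    have hHtop : H ≠ ⊤ := by
      intro htop
      set π := QuotientGroup.mk' C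
      have hπC : ∀ {a}, a ∈ C → π a = 1 := fun ha => (QuotientGroup.eq_one_iff _).2 ha
      set n := π g * π h with hn
      have hg2 : π g * π g = 1 := by rw [← map_mul]; exact hπC hg.2
      have hh2 : π h * π h = 1 := by rw [← map_mul]; exact hπC hh.2
      have hgi : (π g)⁻¹ = π g := inv_eq_of_mul_eq_one_right hg2
      have hhi : (π h)⁻¹ = π h := inv_eq_of_mul_eq_one_right hh2
      have hgen : ∀ y : G ⧸ C, y ∈ closure ({π g, π h} : Set (G ⧸ C)) := by
        intro y
        obtain ⟨a, rfl⟩ := QuotientGroup.mk'_surjective C y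
        have ha : a ∈ (closure ({π g, π h} : Set (G ⧸ C))).comap π := by
          refine (closure_le _).2 ?_ (htop ▸ mem_top a : a ∈ H)
          rintro w (hw | rfl | rfl)
          · rw [SetLike.mem_coe, mem_comap, hπC (hVC hw)]; exact one_mem _
          · exact subset_closure (Or.inl rfl)
          · exact subset_closure (Or.inr rfl)
        exact ha
      have hnorm : (zpowers n).Normal := by
        refine normalizer_eq_top_iff.1 (eq_top_iff.2 fun y _ => (closure_le _).2 ?_ (hgen y))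
        rintro w (rfl | rfl)
        all_goals rw [SetLike.mem_coe, mem_normalizer_iff_map_conj_eq, MonoidHom.map_zpowers, ← zpowers_inv (g := n)]
        all_goals refine congrArg zpowers ?_
        all_goals simp only [hn, MonoidHom.coe_coe, MulAut.conj_apply, mul_inv_rev, hgi, hhi]
        · rw [← mul_assoc, hg2, one_mul]
        · rw [mul_assoc, mul_assoc, hh2, mul_one]
      haveI := hnorm
      have hsolv : Group.IsSolvable ((G ⧸ C) ⧸ zpowers n) := by
        refine Group.isSolvable_of_comm fun a b => ?_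
        have hcyc : ∀ z : (G ⧸ C) ⧸ zpowers n, z ∈ zpowers (QuotientGroup.mk' (zpowers n) (π g)) := by
          intro z
          obtain ⟨y, rfl⟩ := QuotientGroup.mk'_surjective (zpowers n) z
          refine (closure_le ((zpowers (QuotientGroup.mk' (zpowers n) (π g))).comap
            (QuotientGroup.mk' (zpowers n)))).2 ?_ (hgen y)
          rintro w (rfl | rfl)
          · exact mem_zpowers _
          · rw [SetLike.mem_coe, mem_comap, show π h = (π g)⁻¹ * n by rw [hn, inv_mul_cancel_left], map_mul,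
              show QuotientGroup.mk' (zpowers n) n = 1 from (QuotientGroup.eq_one_iff n).2 (mem_zpowers n),
              mul_one, map_inv]
            exact inv_mem (mem_zpowers _)
        obtain ⟨i, rfl⟩ := mem_zpowers_iff.1 (hcyc a)
        obtain ⟨j, rfl⟩ := mem_zpowers_iff.1 (hcyc b)
        exact zpow_mul_comm _ _ _
      have hf := hom_eq_one c.perf ((QuotientGroup.mk' (zpowers n)).comp π)
      haveI : Group.IsSolvable (G ⧸ C) := Group.isSolvable_of_comm fun a b => by
        have hz : ∀ y : G ⧸ C, y ∈ zpowers n := fun y => by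
          obtain ⟨w, rfl⟩ := QuotientGroup.mk'_surjective C y
          exact (QuotientGroup.eq_one_iff _).1 (DFunLike.congr_fun hf w)
        obtain ⟨i, rfl⟩ := mem_zpowers_iff.1 (hz a)
        obtain ⟨j, rfl⟩ := mem_zpowers_iff.1 (hz b)
        exact zpow_mul_comm _ _ _
      exact hCtop (eq_top_of_solvable_quotient c.perf C)
    by_contra hhv
    exact hg.1 (memC.2 fun w hw => (c.sub H hHtop).commute (hVH hv) hhH (fun e => hhv e.symm) hgH
      (hVH hw) hgv (hcomm w hw v hv))
  -- the common fixed points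
  set W : Subgroup G := V ⊓ centralizer {g | I g} with hW
  have memW : ∀ {v}, v ∈ W ↔ v ∈ V ∧ ∀ g, I g → Commute g v := fun {v} => by
    simp only [hW, mem_inf, mem_centralizer_iff, Set.mem_setOf_eq]
    exact Iff.rfl
  haveI : W.Normal := ⟨fun v hv k => memW.2 ⟨hVn.conj_mem v (memW.1 hv).1 k, fun g hg => by
    have h1 := ((memW.1 hv).2 _ (hIconj g hg k⁻¹)).map (MulAut.conj k).toMonoidHom
    simpa [MulAut.conj_apply, mul_assoc] using h1⟩⟩
  have hWlt : W < V := lt_of_le_of_ne inf_le_left fun e => hi₀.1 (memC.2 fun v hv =>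
    (memW.1 (e.symm ▸ hv : v ∈ W)).2 i₀ hi₀)
  have hWc : W ≤ center G := IH W inferInstance hWlt
  -- squares
  have hsqc : ∀ v ∈ V, v * v ∈ center G := by
    intro v hv
    letI : CommGroup V := { (inferInstance : Group V) with
      mul_comm := fun a b => Subtype.ext (hcomm a a.2 b b.2).eq }
    set Q : Subgroup G := (powMonoidHom 2 : V →* V).range.map V.subtype with hQ
    haveI : Q.Normal := ⟨by
      rintro _ ⟨_, ⟨w, rfl⟩, rfl⟩ k
      refine ⟨_, ⟨⟨k * w * k⁻¹, hVn.conj_mem w w.2 k⟩, rfl⟩, ?_⟩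
      simp only [powMonoidHom_apply, Subgroup.coe_subtype, SubmonoidClass.coe_pow, pow_two, Subgroup.coe_mul]
      group⟩
    have hQlt : Q < V := by
      refine lt_of_le_of_ne (map_subtype_le _) fun e => ?_
      have hsurj : Function.Surjective (powMonoidHom 2 : V →* V) := fun w => by
        have hw : (w : G) ∈ Q := e.symm ▸ w.2
        obtain ⟨u, hu, huw⟩ := hw
        obtain ⟨r, rfl⟩ := hu
        exact ⟨r, Subtype.ext huw⟩
      have hinj := Finite.injective_iff_surjective.2 hsurj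
      refine hnc fun w hw => ?_
      by_contra hwc
      have : Nontrivial V := ⟨⟨w, hw⟩, 1, fun e => hwc (by rw [show w = 1 from congrArg Subtype.val e]; exact one_mem _)⟩
      obtain ⟨j, hj0, hj⟩ := hV.nontrivial_iff_card.1 this
      obtain ⟨y, hy⟩ := exists_prime_orderOf_dvd_card' (G := V) 2 (hj ▸ dvd_pow_self 2 hj0.ne')
      have hy1 : y = 1 := hinj (by rw [powMonoidHom_apply, powMonoidHom_apply, ← hy, pow_orderOf_eq_one, one_pow])
      rw [hy1, orderOf_one] at hy
      norm_num at hy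
    refine IH Q inferInstance hQlt ⟨⟨v * v, mul_mem hv hv⟩, ⟨⟨v, hv⟩, ?_⟩, rfl⟩
    exact Subtype.ext (by simp [pow_two])
  have hsqW : ∀ v ∈ V, v * v ∈ W := fun v hv =>
    memW.2 ⟨mul_mem hv hv, fun g _ => (commute_of_center (hsqc v hv) g).symm⟩
  -- elements acting trivially modulo `W`
  let K1 : Subgroup G :=
    { carrier := {k | ∀ v ∈ V, k * v * k⁻¹ * v⁻¹ ∈ W}
      one_mem' := fun v _ => by simp
      mul_mem' := fun {k l} hk hl v hv => by
        have h1 := hk _ (hVn.conj_mem v hv l)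
        have h2 := hl v hv
        rw [show k * l * v * (k * l)⁻¹ * v⁻¹ = (k * (l * v * l⁻¹) * k⁻¹ * (l * v * l⁻¹)⁻¹) * (l * v * l⁻¹ * v⁻¹) by group]
        exact mul_mem h1 h2
      inv_mem' := fun {k} hk v hv => by
        have h1 := hk _ (hVn.conj_mem v hv k⁻¹)
        rw [inv_inv, show k * (k⁻¹ * v * k) * k⁻¹ * (k⁻¹ * v * k)⁻¹ = (k⁻¹ * v * k * v⁻¹)⁻¹ by group] at h1
        rw [inv_inv]
        exact inv_mem_iff.1 h1 }
  have memK1 : ∀ {k}, k ∈ K1 ↔ ∀ v ∈ V, k * v * k⁻¹ * v⁻¹ ∈ W := Iff.rfl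
  haveI hK1n : K1.Normal := ⟨fun k hk g => memK1.2 fun v hv => by
    have h1 := ‹W.Normal›.conj_mem _ (memK1.1 hk _ (hVn.conj_mem v hv g⁻¹)) g
    rw [inv_inv] at h1
    rwa [show g * (k * (g⁻¹ * v * g) * k⁻¹ * (g⁻¹ * v * g)⁻¹) * g⁻¹ = g * k * g⁻¹ * v * (g * k * g⁻¹)⁻¹ * v⁻¹ by group] at h1⟩
  have hIK : ∀ g, I g → g ∈ K1 := by
    intro g hg
    refine memK1.2 fun v hv => ?_
    have hgv : g * v * g⁻¹ ∈ V := hVn.conj_mem v hv g
    have hp : v * (g * v * g⁻¹) ∈ W := by
      refine memW.2 ⟨mul_mem hv hgv, fun h hh => hsame g h hg hh _ (mul_mem hv hgv) ?_⟩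
      refine mul_inv_eq_iff_eq_mul.1 ?_
      calc g * (v * (g * v * g⁻¹)) * g⁻¹ = (g * v * g⁻¹) * (g * g * v * (g * g)⁻¹) := by group
        _ = (g * v * g⁻¹) * v := by rw [(memC.1 hg.2 v hv).eq, mul_inv_cancel_right]
        _ = _ := (hcomm _ hgv v hv).eq
    rw [show g * v * g⁻¹ * v⁻¹ = (v * (g * v * g⁻¹)) * (v * v)⁻¹ by
      rw [(hcomm v hv _ hgv).eq]; group]
    exact mul_mem hp (inv_mem (hsqW v hv))
  have hK1sq : ∀ k ∈ K1, k * k ∈ C := by
    intro k hk
    refine memC.2 fun v hv => mul_inv_eq_iff_eq_mul.1 ?_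
    obtain ⟨w, hw, e⟩ : ∃ w ∈ W, k * v * k⁻¹ = w * v := ⟨_, memK1.1 hk v hv, by group⟩
    have hwc := commute_of_center (hWc hw)
    have e2 : w * v * (w * v) = v * v := by
      rw [← e, show k * v * k⁻¹ * (k * v * k⁻¹) = k * (v * v) * k⁻¹ by group,
        ← (commute_of_center (hsqc v hv) k).eq, mul_inv_cancel_right]
    have hw2 : w * w = 1 := by
      rw [show w * v * (w * v) = w * (v * w) * v by group, ← (hwc v).eq,
        show w * (w * v) * v = w * w * (v * v) by group] at e2
      exact right_eq_mul.1 e2.symm |> id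
    calc k * k * v * (k * k)⁻¹ = k * (k * v * k⁻¹) * k⁻¹ := by group
      _ = k * w * v * k⁻¹ := by rw [e]; group
      _ = w * (k * v * k⁻¹) := by rw [show k * w = w * k from (hwc k).eq.symm]; group
      _ = v := by rw [e, ← mul_assoc, hw2, one_mul]
  -- the image of `K1` modulo `C` is a central two-group: contradiction
  set π := QuotientGroup.mk' C with hπ
  have hπs : Function.Surjective π := QuotientGroup.mk'_surjective C
  set SQ : Sylow 2 (G ⧸ C) := S.mapSurjective hπs with hSQ
  have hSQe : (SQ : Subgroup (G ⧸ C)) = (S : Subgroup G).map π := Sylow.coe_mapSurjective hπs S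
  haveI hA : (K1.map π).Normal := Subgroup.Normal.map hK1n π hπs
  have hA2 : IsPGroup 2 (K1.map π) := by
    rintro ⟨_, k, hk, rfl⟩
    refine ⟨1, Subtype.ext ?_⟩
    show π k ^ 2 ^ 1 = 1
    rw [pow_one, pow_two, ← map_mul]
    exact (QuotientGroup.eq_one_iff _).2 (hK1sq k hk)
  have hAS : K1.map π ≤ (SQ : Subgroup (G ⧸ C)) :=
    sup_eq_left.1 (SQ.3 (IsPGroup.to_sup_of_normal_right SQ.2 hA2) le_sup_left)
  have hScomm : ∀ a ∈ (SQ : Subgroup (G ⧸ C)), ∀ b ∈ (SQ : Subgroup (G ⧸ C)), Commute a b := by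
    rw [hSQe]
    rintro _ ⟨a, ha, rfl⟩ _ ⟨b, hb, rfl⟩
    show π a * π b = π b * π a
    rw [← mul_inv_eq_one, mul_inv_rev, ← mul_assoc, ← map_inv, ← map_inv, ← map_mul, ← map_mul, ← map_mul]
    exact (QuotientGroup.eq_one_iff _).2 (hab a ha b hb)
  obtain ⟨k, hk, hkC⟩ : ∃ k ∈ K1, k ∉ C := ⟨i₀, hIK i₀ hi₀, hi₀.1⟩
  have hperfQ : commutator (G ⧸ C) = ⊤ := by
    rw [_root_.commutator_def, ← map_top_of_surjective π hπs, ← map_commutator, ← _root_.commutator_def, c.perf]
  have hcen : π k ∈ center (G ⧸ C) := by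
    have hN : (centralizer (K1.map π : Set (G ⧸ C))).comap π = ⊤ :=
      eq_top_of_sylow_le c.perf S _ fun s hs => mem_comap.2 (mem_centralizer_iff.2 fun a ha =>
        (hScomm a (hAS ha) (π s) (hSQe ▸ mem_map_of_mem π hs)).eq)
    refine mem_center_iff.2 fun y => ?_
    obtain ⟨g, rfl⟩ := hπs y
    have hg : g ∈ (centralizer (K1.map π : Set (G ⧸ C))).comap π := hN ▸ mem_top g
    exact (mem_centralizer_iff.1 (mem_comap.1 hg) _ (mem_map_of_mem π hk)).symm
  have hmem : π k ∈ (SQ : Subgroup (G ⧸ C)) := hAS (mem_map_of_mem π hk)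
  have h0 := CfsgLib.Char.PslSizes.central_mem_derived SQ hcen (hperfQ ▸ mem_top _) hmem
  have hbot : commutator (SQ : Subgroup (G ⧸ C)) = ⊥ := by
    rw [_root_.commutator_def, commutator_eq_bot_iff_le_centralizer]
    exact fun a _ => mem_centralizer_iff.2 fun b _ => Subtype.ext (hScomm b b.2 a a.2).eq
  rw [hbot, mem_bot] at h0
  exact hkC ((QuotientGroup.eq_one_iff k).1 (congrArg Subtype.val h0))

/-- Normal two-subgroups with central derived subgroup are central. -/
theorem two_central : ∀ (D : Subgroup G), D.Normal → IsPGroup 2 D → ⁅D, D⁆ ≤ center G →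
    D ≤ center G := by
  haveI : Fact (Nat.Prime 2) := ⟨Nat.prime_two⟩
  intro D
  induction D using WellFoundedLT.induction with
  | ind D IH =>
  intro hDn hD hder
  haveI := hDn
  have IH' : ∀ E : Subgroup G, E.Normal → E < D → E ≤ center G := fun E hE hlt =>
    IH E hlt hE (hD.to_le hlt.le) ((commutator_mono hlt.le hlt.le).trans hder)
  by_cases hcomm : ∀ a ∈ D, ∀ b ∈ D, Commute a b
  · exact c.abelian_two_central D hD hcomm IH'
  by_contra hnc
  have hDS := c.le_of_normal_two hD
  set Z : Subgroup G := D ⊓ centralizer (D : Set G) with hZdef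
  have hZ : Z ≤ center G := by
    haveI : Z.Normal := inferInstance
    refine IH' Z inferInstance (lt_of_le_of_ne inf_le_left fun e => hcomm fun a ha b hb => ?_)
    have ha' : a ∈ Z := e.symm ▸ ha
    exact (mem_centralizer_iff.1 (mem_inf.1 ha').2 b hb).symm
  have hzS : ∀ a ∈ D, a ∈ zS (S : Subgroup G) → a ∈ center G := fun a ha haz =>
    hZ (mem_inf.2 ⟨ha, mem_centralizer_iff.2 fun b hb => ((mem_zS.1 haz).2 b (hDS hb)).eq.symm⟩)
  let K2 : Subgroup G :=
    { carrier := {k | ∀ v ∈ D, k * v * k⁻¹ * v⁻¹ ∈ center G}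
      one_mem' := fun v _ => by simp
      mul_mem' := fun {k l} hk hl v hv => by
        have h1 := hk _ (hDn.conj_mem v hv l)
        have h2 := hl v hv
        rw [show k * l * v * (k * l)⁻¹ * v⁻¹ = (k * (l * v * l⁻¹) * k⁻¹ * (l * v * l⁻¹)⁻¹) * (l * v * l⁻¹ * v⁻¹) by group]
        exact mul_mem h1 h2
      inv_mem' := fun {k} hk v hv => by
        have h1 := hk _ (hDn.conj_mem v hv k⁻¹)
        rw [inv_inv, show k * (k⁻¹ * v * k) * k⁻¹ * (k⁻¹ * v * k)⁻¹ = (k⁻¹ * v * k * v⁻¹)⁻¹ by group] at h1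
        rw [inv_inv]
        exact inv_mem_iff.1 h1 }
  have memK2 : ∀ {k}, k ∈ K2 ↔ ∀ v ∈ D, k * v * k⁻¹ * v⁻¹ ∈ center G := Iff.rfl
  haveI hK2n : K2.Normal := ⟨fun k hk g => memK2.2 fun v hv => by
    have h1 := (inferInstance : (center G).Normal).conj_mem _ (memK2.1 hk _ (hDn.conj_mem v hv g⁻¹)) g
    rw [inv_inv] at h1
    rwa [show g * (k * (g⁻¹ * v * g) * k⁻¹ * (g⁻¹ * v * g)⁻¹) * g⁻¹ = g * k * g⁻¹ * v * (g * k * g⁻¹)⁻¹ * v⁻¹ by group] at h1⟩
  -- everything acts trivially modulo the centre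
  have hK2 : K2 = ⊤ := by
    obtain ⟨x, f⟩ := c.twoCtx.exists_first'
    rcases f.elementary_or_index c.twoCtx with hel | hidx
    · refine eq_top_of_sylow_le c.perf S K2 fun s hs => memK2.2 fun v hv => hzS _ ?_ (comm_of_sq hel hs (hDS hv))
      exact mul_mem (hDn.conj_mem v hv s) (inv_mem hv)
    · set A : Subgroup G := D ⊓ centralizer ({x} : Set G) with hA
      have memA : ∀ {a}, a ∈ A ↔ a ∈ D ∧ Commute a x := fun {a} => by
        rw [hA, mem_inf, mem_cent]
      have hAcomm : ∀ a ∈ A, ∀ b ∈ A, Commute a b := fun a ha b hb =>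
        f.commY c.twoCtx (hDS (memA.1 ha).1) (hDS (memA.1 hb).1) (memA.1 ha).2 (memA.1 hb).2
      obtain ⟨d₀, hd₀, hd₀x⟩ : ∃ d ∈ D, ¬ Commute d x := by
        by_contra hall
        push Not at hall
        exact hcomm fun a ha b hb => hAcomm a (memA.2 ⟨ha, hall a ha⟩) b (memA.2 ⟨hb, hall b hb⟩)
      have hprod : ∀ a ∈ D, ∀ b ∈ D, a ∉ A → b ∉ A → a * b ∈ A := fun a ha b hb haA hbA =>
        memA.2 ⟨mul_mem ha hb, hidx a (hDS ha) b (hDS hb) (fun h => haA (memA.2 ⟨ha, h⟩))
          fun h => hbA (memA.2 ⟨hb, h⟩)⟩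
      obtain ⟨g, a₀, ha₀, hga⟩ : ∃ g, ∃ a ∈ A, g * a * g⁻¹ ∉ A := by
        by_contra hall
        push Not at hall
        haveI : A.Normal := ⟨fun a ha g => hall g a ha⟩
        have hAc : A ≤ center G := IH' A inferInstance (lt_of_le_of_ne inf_le_left fun e =>
          hd₀x (memA.1 (e.symm ▸ hd₀ : d₀ ∈ A)).2)
        refine hcomm fun a ha b hb => ?_
        by_cases haA : a ∈ A
        · exact commute_of_center (hAc haA) b
        by_cases hbA : b ∈ A
        · exact (commute_of_center (hAc hbA) a).symm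
        have := commute_of_center (hAc (hprod a ha b hb haA hbA)) a
        exact mul_left_cancel (show a * (a * b) = a * (b * a) by rw [← this.eq, mul_assoc])
      set B : Subgroup G := A.map (MulAut.conj g).toMonoidHom with hB
      have hBD : B ≤ D := by
        rintro _ ⟨a, ha, rfl⟩
        exact hDn.conj_mem a (memA.1 ha).1 g
      have hb₀ : g * a₀ * g⁻¹ ∈ B := mem_map_of_mem _ ha₀
      set b₀ := g * a₀ * g⁻¹
      have hBcomm : ∀ a ∈ B, ∀ b ∈ B, Commute a b := by
        rintro _ ⟨a, ha, rfl⟩ _ ⟨b, hb, rfl⟩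
        exact (hAcomm a ha b hb).map _
      have hBprod : ∀ a ∈ D, ∀ b ∈ D, a ∉ B → b ∉ B → a * b ∈ B := fun a ha b hb haB hbB => by
        have hd : ∀ y ∈ D, y ∉ B → g⁻¹ * y * g ∈ D ∧ g⁻¹ * y * g ∉ A := fun y hy hyB =>
          ⟨by simpa using hDn.conj_mem y hy g⁻¹, fun h => hyB ⟨_, h, by simp [mul_assoc]⟩⟩
        have h := hprod _ (hd a ha haB).1 _ (hd b hb hbB).1 (hd a ha haB).2 (hd b hb hbB).2
        exact ⟨_, h, by simp [mul_assoc]⟩
      have hint : ∀ y ∈ A, y ∈ B → y ∈ center G := fun y hyA hyB => by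
        refine hZ (mem_inf.2 ⟨(memA.1 hyA).1, mem_centralizer_iff.2 fun d hd => Eq.symm ?_⟩)
        by_cases hdA : d ∈ A
        · exact (hAcomm y hyA d hdA).eq
        have h1 : Commute y (d * b₀) := hAcomm y hyA _ (hprod d hd b₀ (hBD hb₀) hdA hga)
        have h2 : Commute y (d * b₀ * b₀⁻¹) := h1.mul_right (hBcomm y hyB b₀ hb₀).inv_right
        rwa [mul_inv_cancel_right] at h2
      obtain ⟨a₁, ha₁, ha₁B⟩ : ∃ a ∈ A, a ∉ B := by
        by_contra hall
        push Not at hall
        have hle : A ≤ B := hall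
        have heq : A = B := eq_of_le_of_card_ge hle
          (le_of_eq (card_map_of_injective (MulAut.conj g).injective))
        exact hga (heq ▸ hb₀)
      refine eq_top_iff.2 fun k _ => memK2.2 fun d hd => ?_
      by_cases hdc : d ∈ center G
      · rw [← (commute_of_center hdc k).eq, mul_inv_cancel_right, mul_inv_cancel]; exact one_mem _
      -- every element of `D` is central times one of four
      have hcases : ∀ y ∈ D, y ∈ center G ∨ a₁⁻¹ * y ∈ center G ∨ b₀⁻¹ * y ∈ center G ∨
          (b₀ * a₁)⁻¹ * y ∈ center G := by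
        intro y hy
        have red : ∀ u ∈ A, u ∈ center G ∨ a₁⁻¹ * u ∈ center G := fun u hu => by
          by_cases huB : u ∈ B
          · exact Or.inl (hint u hu huB)
          · refine Or.inr (hint _ (mul_mem (inv_mem ha₁) hu) ?_)
            exact hBprod _ (inv_mem (memA.1 ha₁).1) u (memA.1 hu).1 (fun h => ha₁B (inv_mem_iff.1 h)) huB
        by_cases hyA : y ∈ A
        · rcases red y hyA with h | h
          exacts [Or.inl h, Or.inr (Or.inl h)]
        · rcases red (b₀⁻¹ * y) (hprod _ (inv_mem (hBD hb₀)) y hy (fun h => hga (inv_mem_iff.1 h)) hyA) with h | h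
          · exact Or.inr (Or.inr (Or.inl h))
          · exact Or.inr (Or.inr (Or.inr (by rwa [mul_inv_rev, mul_assoc])))
      let Hd : Subgroup G :=
        { carrier := {k | k * d * k⁻¹ * d⁻¹ ∈ center G}
          one_mem' := by simp
          mul_mem' := fun {k l} hk hl => by
            obtain ⟨z, hz, e⟩ : ∃ z ∈ center G, l * d * l⁻¹ = z * d := ⟨_, hl, by group⟩
            show k * l * d * (k * l)⁻¹ * d⁻¹ ∈ center G
            rw [show k * l * d * (k * l)⁻¹ * d⁻¹ = k * (l * d * l⁻¹) * k⁻¹ * d⁻¹ by group, e,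
              show k * (z * d) * k⁻¹ * d⁻¹ = (k * z) * d * k⁻¹ * d⁻¹ by group,
              ← (commute_of_center hz k).eq, show z * k * d * k⁻¹ * d⁻¹ = z * (k * d * k⁻¹ * d⁻¹) by group]
            exact mul_mem hz hk
          inv_mem' := fun {k} hk => by
            obtain ⟨z, hz, e⟩ : ∃ z ∈ center G, k * d * k⁻¹ = z * d := ⟨_, hk, by group⟩
            show k⁻¹ * d * k⁻¹⁻¹ * d⁻¹ ∈ center G
            have e2 : k⁻¹ * d * k⁻¹⁻¹ * d⁻¹ = z⁻¹ := by
              rw [show k⁻¹ * d * k⁻¹⁻¹ * d⁻¹ = k⁻¹ * (z⁻¹ * (z * d)) * k * d⁻¹ by group, ← e,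
                show k⁻¹ * (z⁻¹ * (k * d * k⁻¹)) * k * d⁻¹ = (k⁻¹ * z⁻¹) * k by group,
                ← ((commute_of_center hz k⁻¹).inv_left).eq, inv_mul_cancel_right]
            exact e2 ▸ inv_mem hz }
      refine (show k ∈ Hd from (eq_top_of_index_le c.perf Hd ?_).symm ▸ mem_top k)
      classical
      let θ : G ⧸ Hd → Fin 3 := fun q =>
        if a₁⁻¹ * (q.out * d * q.out⁻¹) ∈ center G then 0
        else if b₀⁻¹ * (q.out * d * q.out⁻¹) ∈ center G then 1 else 2
      have hθ : Function.Injective θ := by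
        intro p r hpr
        have hsome : ∀ q : G ⧸ Hd, ∃ u : G, u⁻¹ * (q.out * d * q.out⁻¹) ∈ center G ∧
            u = ![a₁, b₀, b₀ * a₁] (θ q) := by
          intro q
          refine ⟨_, ?_, rfl⟩
          simp only [θ]
          split_ifs with h1 h2
          · exact h1
          · exact h2
          · rcases hcases _ (hDn.conj_mem d hd q.out) with h | h | h | h
            · exact absurd (by simpa [mul_assoc] using
                (inferInstance : (center G).Normal).conj_mem _ h q.out⁻¹) hdc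
            · exact absurd h h1
            · exact absurd h h2
            · exact h
        obtain ⟨u, hu, hue⟩ := hsome p
        obtain ⟨u', hu', hue'⟩ := hsome r
        obtain rfl : u = u' := by rw [hue, hue', hpr]
        have h3 := mul_mem (inv_mem hu) hu'
        rw [show (u⁻¹ * (p.out * d * p.out⁻¹))⁻¹ * (u⁻¹ * (r.out * d * r.out⁻¹)) =
          p.out * (d⁻¹ * (p.out⁻¹ * r.out * d * (p.out⁻¹ * r.out)⁻¹)) * p.out⁻¹ by group] at h3
        have h4 : d⁻¹ * (p.out⁻¹ * r.out * d * (p.out⁻¹ * r.out)⁻¹) ∈ center G := by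
          simpa [mul_assoc] using (inferInstance : (center G).Normal).conj_mem _ h3 p.out⁻¹
        have h5 : p.out⁻¹ * r.out ∈ Hd := by
          show _ * d⁻¹ ∈ center G
          have := (inferInstance : (center G).Normal).conj_mem _ h4 d
          rwa [mul_inv_cancel_left] at this
        rw [← p.out_eq', ← r.out_eq']
        exact QuotientGroup.eq.2 h5
      rw [Subgroup.index_eq_card]
      exact (Nat.card_le_card_of_injective θ hθ).trans (by simp)
  refine hnc fun v hv => mem_center_iff_commute.2 fun g => ?_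
  have hC : (centralizer ({v} : Set G)) = ⊤ := by
    refine eq_top_iff.2 ?_
    rw [← c.perf, _root_.commutator_def, commutator_le]
    intro a _ b _
    refine mem_cent.2 (mul_inv_eq_iff_eq_mul.1 ?_)
    have hk : ∀ k : G, ∃ z ∈ center G, k * v * k⁻¹ = z * v := fun k =>
      ⟨_, memK2.1 (hK2 ▸ mem_top k) v hv, by group⟩
    obtain ⟨p, hp, hp'⟩ := hk a
    obtain ⟨r, hr, hr'⟩ := hk b
    have h1 : a * b * v * (a * b)⁻¹ = r * p * v := by
      calc a * b * v * (a * b)⁻¹ = a * (b * v * b⁻¹) * a⁻¹ := by group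
        _ = (a * r) * v * a⁻¹ := by rw [hr']; group
        _ = r * (a * v * a⁻¹) := by rw [← (commute_of_center hr a).eq]; group
        _ = r * p * v := by rw [hp']; group
    have h2 : b * a * v * (b * a)⁻¹ = r * p * v := by
      calc b * a * v * (b * a)⁻¹ = b * (a * v * a⁻¹) * b⁻¹ := by group
        _ = (b * p) * v * b⁻¹ := by rw [hp']; group
        _ = p * (b * v * b⁻¹) := by rw [← (commute_of_center hp b).eq]; group
        _ = r * p * v := by rw [hr', ← mul_assoc, (commute_of_center hp r).eq]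
    have h3 : (b * a)⁻¹ * v * (b * a) = (r * p)⁻¹ * v := by
      calc (b * a)⁻¹ * v * (b * a) = (b * a)⁻¹ * ((r * p)⁻¹ * (r * p * v)) * (b * a) := by group
        _ = ((b * a)⁻¹ * (r * p)⁻¹) * (b * a) * v := by rw [← h2]; group
        _ = _ := by rw [← ((commute_of_center (inv_mem (mul_mem hr hp)) _).eq), inv_mul_cancel_right]
    calc ⁅a, b⁆ * v * ⁅a, b⁆⁻¹ = a * b * ((b * a)⁻¹ * v * (b * a)) * (a * b)⁻¹ := by
          rw [commutatorElement_def]; group
      _ = (a * b * (r * p)⁻¹) * v * (a * b)⁻¹ := by rw [h3]; group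
      _ = (r * p)⁻¹ * (a * b * v * (a * b)⁻¹) := by
          rw [← (commute_of_center (inv_mem (mul_mem hr hp)) (a * b)).eq]; group
      _ = v := by rw [h1]; group
  exact (mem_cent.1 (hC ▸ mem_top g)).symm

/-- Normal subgroups of odd order with central derived subgroup are central. -/
theorem odd_central (O : Subgroup G) [hOn : O.Normal] (hodd : Odd (Nat.card O))
    (hder : ⁅O, O⁆ ≤ center G) : O ≤ center G := by
  haveI : Fact (Nat.Prime 2) := ⟨Nat.prime_two⟩
  set H : Subgroup G := O ⊔ (S : Subgroup G) with hH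
  have hHtop : H ≠ ⊤ := by
    intro htop
    have hsolv : Group.IsSolvable (G ⧸ O) := by
      have h2 : IsPGroup 2 (G ⧸ O) := by
        intro y
        obtain ⟨g, rfl⟩ := QuotientGroup.mk'_surjective O y
        have hg : g ∈ ((O : Set G) * ((S : Subgroup G) : Set G)) := by
          rw [← Subgroup.normal_mul, ← hH, htop]; exact mem_top g
        obtain ⟨o, ho, s, hs, rfl⟩ := hg
        obtain ⟨k, hk⟩ := S.2 ⟨s, hs⟩
        refine ⟨k, ?_⟩
        have hk' : s ^ 2 ^ k = 1 := congrArg Subtype.val hk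
        have ho' : QuotientGroup.mk' O o = 1 := (QuotientGroup.eq_one_iff o).2 ho
        rw [map_mul, ho', one_mul, ← map_pow, hk', map_one]
      haveI : Group.IsNilpotent (G ⧸ O) := h2.isNilpotent
      infer_instance
    haveI := hsolv
    have hO := eq_top_of_solvable_quotient c.perf O
    rw [hO, card_top] at hodd
    obtain ⟨a, ha, b, -, hab⟩ := c.nonab
    have h1 : orderOf a = 1 := by
      refine Nat.eq_one_of_dvd_coprimes (?_ : Nat.Coprime (2 ^ (S.2 ⟨a, ha⟩).choose) (Nat.card G)) ?_ (orderOf_dvd_natCard a)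
      · exact Nat.Coprime.pow_left (S.2 ⟨a, ha⟩).choose (Nat.coprime_two_left.2 hodd)
      · exact orderOf_dvd_of_pow_eq_one (congrArg Subtype.val (S.2 ⟨a, ha⟩).choose_spec)
    exact hab (by rw [orderOf_eq_one_iff.1 h1]; exact Commute.one_left b)
  have hOH : O ≤ H := le_sup_left
  have hSH : (S : Subgroup G) ≤ H := le_sup_right
  have hca := c.sub H hHtop
  have hzO : ∀ z ∈ zS (S : Subgroup G), ∀ v ∈ O, Commute z v := fun z hz v hv =>
    c.zS_central hHtop hSH hz (hOH hv)
  set O0 : Subgroup G := O ⊓ centralizer (H : Set G) with hO0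
  have memO0 : ∀ {v}, v ∈ O0 ↔ v ∈ O ∧ ∀ y ∈ H, Commute v y := fun {v} => by
    rw [hO0, mem_inf, mem_centralizer_iff]
    exact and_congr_right fun _ => ⟨fun h y hy => (h y hy).symm, fun h y hy => (h y hy).eq.symm⟩
  have hcen0 : ∀ {z}, z ∈ O → z ∈ center G → z ∈ O0 := fun hz hzc =>
    memO0.2 ⟨hz, fun y _ => commute_of_center hzc y⟩
  have hcomO : ∀ u ∈ O, ∀ v ∈ O, u * v * u⁻¹ * v⁻¹ ∈ O0 := fun u hu v hv =>
    hcen0 (mul_mem (mul_mem (mul_mem hu hv) (inv_mem hu)) (inv_mem hv))
      (hder (by rw [← commutatorElement_def]; exact commutator_mem_commutator hu hv))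
  have hsq1 : ∀ {w : G}, w ∈ O → w * w = 1 → w = 1 := fun {w} hw h2 =>
    orderOf_eq_one_iff.1 (Nat.eq_one_of_dvd_coprimes (Nat.coprime_two_left.2 hodd)
      (orderOf_dvd_of_pow_eq_one ((pow_two w).trans h2)) (Subgroup.orderOf_dvd_natCard O hw))
  have hsq0 : ∀ {v : G}, v ∈ O → v * v ∈ O0 → v ∈ O0 := by
    intro v hv h2
    obtain ⟨i, hi⟩ := (hodd.of_dvd_nat (Subgroup.orderOf_dvd_natCard O hv))
    have : v = (v * v) ^ (i + 1) := by
      rw [← pow_two, ← pow_mul, show 2 * (i + 1) = orderOf v + 1 by omega, pow_succ, pow_orderOf_eq_one,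
        one_mul]
    rw [this]; exact pow_mem h2 _
  -- four elements
  have four : ∀ a ∈ (S : Subgroup G), ∀ b ∈ (S : Subgroup G), a * a ∈ zS (S : Subgroup G) →
      b * b ∈ zS (S : Subgroup G) → a * b * a⁻¹ * b⁻¹ ∈ zS (S : Subgroup G) →
      (∀ v ∈ O, Commute a v) ∨ (∀ v ∈ O, Commute b v) ∨ ∀ v ∈ O, Commute (a * b) v := by
    intro a ha b hb ha2 hb2 hab2
    by_contra hnone
    push Not at hnone
    obtain ⟨hna, hnb, hnab⟩ := hnone
    set e : G → G → G := fun s v => s * v * s⁻¹ with he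
    have heO : ∀ s, ∀ v ∈ O, e s v ∈ O := fun s v hv => hOn.conj_mem v hv s
    have hconj0 : ∀ s ∈ H, ∀ z ∈ O0, e s z = z := fun s hs z hz => by
      show s * z * s⁻¹ = z
      rw [← ((memO0.1 hz).2 s hs).eq, mul_inv_cancel_right]
    have hee : ∀ s ∈ (S : Subgroup G), s * s ∈ zS (S : Subgroup G) → ∀ v ∈ O, e s (e s v) = v := by
      intro s hs hs2 v hv
      calc e s (e s v) = s * s * v * (s * s)⁻¹ := by simp only [he]; group
        _ = v := by rw [(hzO _ hs2 v hv).eq, mul_inv_cancel_right]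
    have hexact : ∀ s ∈ (S : Subgroup G), s * s ∈ zS (S : Subgroup G) → ∀ v ∈ O,
        v⁻¹ * e s v ∈ O0 → Commute s v := by
      intro s hs hs2 v hv hz
      set z := v⁻¹ * e s v with hz'
      have h1 : e s v = v * z := by rw [hz', mul_inv_cancel_left]
      have h2 : e s (e s v) = v * z * z := by
        calc e s (e s v) = e s (v * z) := by rw [h1]
          _ = e s v * e s z := by simp only [he]; group
          _ = v * z * z := by rw [hconj0 s (hSH hs) z hz, h1]
      rw [hee s hs hs2 v hv, mul_assoc] at h2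
      have h3 := hsq1 (memO0.1 hz).1 (left_eq_mul.1 h2)
      rw [h3, mul_one] at h1
      exact mul_inv_eq_iff_eq_mul.1 h1
    have habS : a * b ∈ (S : Subgroup G) := mul_mem ha hb
    have hab_sq : a * b * (a * b) ∈ zS (S : Subgroup G) := by
      have e1 : a * b * (a * b) = (a * b * a⁻¹ * b⁻¹) * (b * (a * a) * b) := by group
      rw [e1, show b * (a * a) = a * a * b from ((mem_zS.1 ha2).2 b hb).eq.symm, mul_assoc (a * a)]
      exact mul_mem hab2 (mul_mem ha2 hb2)
    -- fixed points of a moved element commute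
    have hF : ∀ s ∈ (S : Subgroup G), (∃ v ∈ O, ¬ Commute s v) → ∀ u ∈ O, ∀ v ∈ O,
        Commute s u → Commute s v → Commute u v := fun s hs ⟨w, hw, hsw⟩ u hu v hv hu' hv' =>
      hca.commute (hSH hs) (hOH hw) hsw (hOH hu) (hOH hv) hu'.symm hv'.symm
    have hFv : ∀ s ∈ (S : Subgroup G), ∀ u ∈ O, u ∉ O0 → Commute s u → ∀ w ∈ O, Commute w u →
        Commute s w := by
      intro s hs u hu hu0 hsu w hw hwu
      have : ∃ y ∈ H, ¬ Commute u y := by
        by_contra hh
        push Not at hh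
        exact hu0 (memO0.2 ⟨hu, hh⟩)
      obtain ⟨y, hy, huy⟩ := this
      exact hca.commute (hOH hu) hy huy (hSH hs) (hOH hw) hsu hwu
    -- products with images are exactly fixed
    have hpfix : ∀ s ∈ (S : Subgroup G), s * s ∈ zS (S : Subgroup G) → ∀ v ∈ O,
        Commute s (v * e s v) := by
      intro s hs hs2 v hv
      refine hexact s hs hs2 _ (mul_mem hv (heO s v hv)) ?_
      have h1 : e s (v * e s v) = e s v * v := by
        calc e s (v * e s v) = e s v * e s (e s v) := by simp only [he]; group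
          _ = _ := by rw [hee s hs hs2 v hv]
      rw [h1, show (v * e s v)⁻¹ * (e s v * v) = (e s v)⁻¹ * v⁻¹ * (e s v)⁻¹⁻¹ * v⁻¹⁻¹ by group]
      exact hcomO _ (inv_mem (heO s v hv)) _ (inv_mem hv)
    by_cases hall : (∀ v ∈ O, Commute a v → v ∈ O0) ∧ (∀ v ∈ O, Commute b v → v ∈ O0) ∧
        ∀ v ∈ O, Commute (a * b) v → v ∈ O0
    · obtain ⟨h1, h2, h3⟩ := hall
      obtain ⟨w, hw, haw⟩ := hna
      refine haw ((memO0.1 (?_ : w ∈ O0)).2 a (hSH ha)).symm
      refine hsq0 hw ?_
      set p := w * e b w with hp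
      have hp0 : p ∈ O0 := h2 _ (mul_mem hw (heO b w hw)) (hpfix b hb hb2 w hw)
      have hq0 : e b w * e a (e b w) ∈ O0 :=
        h1 _ (mul_mem (heO b w hw) (heO a _ (heO b w hw))) (hpfix a ha ha2 _ (heO b w hw))
      have hr0 : w * e (a * b) w ∈ O0 := h3 _ (mul_mem hw (heO _ w hw)) (hpfix _ habS hab_sq w hw)
      have e1 : e (a * b) w = e a (e b w) := by simp only [he]; group
      rw [e1] at hr0
      have hwz : ∀ {z}, z ∈ O0 → ∀ y ∈ O, Commute z y := fun hz y hy => (memO0.1 hz).2 y (hOH hy)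
      -- `w ≡ (e b w)⁻¹`, `e b w ≡ (e a (e b w))⁻¹`, `e a (e b w) ≡ w⁻¹`
      have k1 : e b w = w⁻¹ * p := by rw [hp, inv_mul_cancel_left]
      have k2 : e a (e b w) = (e b w)⁻¹ * (e b w * e a (e b w)) := by rw [inv_mul_cancel_left]
      generalize e b w * e a (e b w) = qq at hq0 k2
      rw [k2, k1, mul_inv_rev, inv_inv] at hr0
      have k3 : w * (p⁻¹ * w * qq) = (w * w) * (p⁻¹ * qq) := by
        rw [show p⁻¹ * w = w * p⁻¹ from (hwz (inv_mem hp0) w hw).eq]
        group
      rw [k3] at hr0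
      exact (mul_mem_cancel_right (mul_mem (inv_mem hp0) hq0)).1 hr0
    · -- one of the three has a noncentral fixed point: it centralizes `O`
      have main : ∀ a ∈ (S : Subgroup G), ∀ b ∈ (S : Subgroup G), a * a ∈ zS (S : Subgroup G) →
          b * b ∈ zS (S : Subgroup G) → a * b * a⁻¹ * b⁻¹ ∈ zS (S : Subgroup G) →
          a * b * (a * b) ∈ zS (S : Subgroup G) → (∃ v ∈ O, ¬ Commute a v) → (∃ v ∈ O, ¬ Commute b v) →
          (∃ v ∈ O, ¬ Commute (a * b) v) → (∃ u ∈ O, Commute a u ∧ u ∉ O0) → False := by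
        intro a ha b hb ha2 hb2 hab2 hc2 hna hnb hnab ⟨u, hu, hau, hu0⟩
        have habS : a * b ∈ (S : Subgroup G) := mul_mem ha hb
        -- fixed points of the others are fixed by `a`
        have hsub : ∀ s ∈ (S : Subgroup G), a * s * a⁻¹ * s⁻¹ ∈ zS (S : Subgroup G) →
            (∃ w ∈ O, ¬ Commute s w) → ∀ v ∈ O, Commute s v → Commute a v := by
          intro s hs has hns v hv hsv
          set v' := e a v with hv'
          set w := v⁻¹ * v' with hw
          have hwO : w ∈ O := mul_mem (inv_mem hv) (heO a v hv)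
          have hfix : u * v * u⁻¹ * v⁻¹ = u * v' * u⁻¹ * v'⁻¹ := by
            have h1 := hconj0 a (hSH ha) _ (hcomO u hu v hv)
            calc u * v * u⁻¹ * v⁻¹ = a * (u * v * u⁻¹ * v⁻¹) * a⁻¹ := h1.symm
              _ = (a * u * a⁻¹) * (a * v * a⁻¹) * (a * u * a⁻¹)⁻¹ * (a * v * a⁻¹)⁻¹ := by group
              _ = _ := by rw [hau.eq, mul_inv_cancel_right]
          have huw : Commute w u := by
            have hvw : v' = v * w := by rw [hw, mul_inv_cancel_left]
            rw [hvw] at hfix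
            have h0 := (memO0.1 (hcomO u hu w hwO)).2 v⁻¹ (hOH (inv_mem hv))
            have e3 : u * (v * w) * u⁻¹ * (v * w)⁻¹ =
                (u * v * u⁻¹) * ((u * w * u⁻¹ * w⁻¹) * v⁻¹) := by group
            rw [e3, h0.eq, ← mul_assoc] at hfix
            exact (mul_inv_eq_iff_eq_mul.1 (mul_inv_eq_one.1 (left_eq_mul.1 hfix))).symm
          have haw : Commute a w := hFv a ha u hu hu0 hau w hwO huw
          have h5 : e a w = v'⁻¹ * v := by
            calc e a w = (e a v)⁻¹ * e a v' := by rw [hw]; simp only [he]; group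
              _ = _ := by rw [hv', hee a ha ha2 v hv]
          have h6 : e a w = w := by show a * w * a⁻¹ = w; rw [haw.eq, mul_inv_cancel_right]
          have h7 : w * w = 1 := by
            nth_rw 1 [← h6, h5]
            rw [hw]; group
          have h8 := hsq1 hwO h7
          rw [hw, inv_mul_eq_one] at h8
          exact mul_inv_eq_iff_eq_mul.1 h8.symm
        obtain ⟨v, hv, hav⟩ := hna
        refine hav ?_
        set w := v⁻¹ * e a v with hw
        have hwO : w ∈ O := mul_mem (inv_mem hv) (heO a v hv)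
        refine hexact a ha ha2 v hv ?_
        have haw : e a w = w⁻¹ := by
          calc e a w = (e a v)⁻¹ * e a (e a v) := by rw [hw]; simp only [he]; group
            _ = w⁻¹ := by rw [hee a ha ha2 v hv, hw]; simp only [he]; group
        -- both products are fixed by `a`
        have hr := hsub b hb hab2 hnb _ (mul_mem hwO (heO b w hwO)) (hpfix b hb hb2 w hwO)
        have hab3 : a * (a * b) * a⁻¹ * (a * b)⁻¹ ∈ zS (S : Subgroup G) := by
          have : a * (a * b) * a⁻¹ * (a * b)⁻¹ = a * (a * b * a⁻¹ * b⁻¹) * a⁻¹ := by group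
          rw [this, ← ((mem_zS.1 hab2).2 a ha).eq, mul_inv_cancel_right]
          exact hab2
        have hr' := hsub (a * b) habS hab3 hnab _ (mul_mem hwO (heO _ w hwO)) (hpfix _ habS hc2 w hwO)
        -- compute modulo `O0`
        set y := e b w with hy
        have hyO : y ∈ O := heO b w hwO
        have hwz : ∀ {z}, z ∈ O0 → ∀ y ∈ O, Commute z y := fun hz y hy => (memO0.1 hz).2 y (hOH hy)
        have hay : e (a * b) w = e a y := by rw [hy]; simp only [he]; group
        rw [hay] at hr'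
        have hba : e a y = y⁻¹ := by
          have hz : a * b * a⁻¹ * b⁻¹ ∈ zS (S : Subgroup G) := hab2
          calc e a y = (a * b * a⁻¹ * b⁻¹) * (e b (e a w)) * (a * b * a⁻¹ * b⁻¹)⁻¹ := by
                rw [hy]; simp only [he]; group
            _ = e b (e a w) := by rw [(hzO _ hz _ (heO b _ (heO a w hwO))).eq, mul_inv_cancel_right]
            _ = y⁻¹ := by rw [haw, hy]; simp only [he]; group
        rw [hba] at hr'
        have f1 : e a (w * y) = w * y := by
          show a * (w * y) * a⁻¹ = w * y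
          rw [hr.eq, mul_inv_cancel_right]
        have f2 : e a (w * y⁻¹) = w * y⁻¹ := by
          show a * (w * y⁻¹) * a⁻¹ = w * y⁻¹
          rw [hr'.eq, mul_inv_cancel_right]
        have g1 : w * y = w⁻¹ * y⁻¹ := by
          calc w * y = e a (w * y) := f1.symm
            _ = e a w * e a y := by simp only [he]; group
            _ = _ := by rw [haw, hba]
        have g2 : w * y⁻¹ = w⁻¹ * y := by
          calc w * y⁻¹ = e a (w * y⁻¹) := f2.symm
            _ = e a w * (e a y)⁻¹ := by simp only [he]; group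
            _ = _ := by rw [haw, hba, inv_inv]
        have g3 : w * w = y⁻¹ * y⁻¹ := by
          calc w * w = w * (w * y) * y⁻¹ := by group
            _ = _ := by rw [g1]; group
        have g4 : w * w = y * y := by
          calc w * w = w * (w * y⁻¹) * y := by group
            _ = _ := by rw [g2]; group
        have g5 : (w * w) * (w * w) = 1 := by
          nth_rw 1 [g3]; rw [g4]; group
        have g6 := hsq1 hwO (hsq1 (mul_mem hwO hwO) g5)
        show w ∈ O0
        rw [g6]; exact one_mem _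
      have hba2 : b * a * b⁻¹ * a⁻¹ ∈ zS (S : Subgroup G) := by
        rw [show b * a * b⁻¹ * a⁻¹ = (a * b * a⁻¹ * b⁻¹)⁻¹ by group]; exact inv_mem hab2
      simp only [not_and_or] at hall
      push Not at hall
      rcases hall with ⟨u, hu, h1, h2⟩ | ⟨u, hu, h1, h2⟩ | ⟨u, hu, h1, h2⟩
      · exact main a ha b hb ha2 hb2 hab2 hab_sq hna hnb hnab ⟨u, hu, h1, h2⟩
      · have hsq' : b * a * (b * a) ∈ zS (S : Subgroup G) := by
          rw [show b * a * (b * a) = a⁻¹ * (a * b * (a * b)) * a by group,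
            (((mem_zS.1 hab_sq).2 a⁻¹ (inv_mem ha))).symm.eq, mul_assoc, inv_mul_cancel, mul_one]
          exact hab_sq
        refine main b hb a ha hb2 ha2 hba2 hsq' hnb hna ?_ ⟨u, hu, h1, h2⟩
        obtain ⟨v, hv, hnv⟩ := hnab
        refine ⟨v, hv, fun hc => hnv ?_⟩
        rw [show a * b = (a * b * a⁻¹ * b⁻¹) * (b * a) by group]
        exact (hzO _ hab2 v hv).mul_left hc
      · have hcomm' : a * b * a * (a * b)⁻¹ * a⁻¹ ∈ zS (S : Subgroup G) := by
          have : a * b * a * (a * b)⁻¹ * a⁻¹ = a * (b * a * b⁻¹ * a⁻¹) * a⁻¹ := by group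
          rw [this, ← ((mem_zS.1 hba2).2 a ha).eq, mul_inv_cancel_right]
          exact hba2
        have hsq' : a * b * a * (a * b * a) ∈ zS (S : Subgroup G) := by
          have : a * b * a * (a * b * a) = a * (b * (a * a) * b) * a := by group
          rw [this, show b * (a * a) = a * a * b from ((mem_zS.1 ha2).2 b hb).eq.symm,
            mul_assoc (a * a), show a * ((a * a) * (b * b)) = (a * a) * (b * b) * a from
              ((mem_zS.1 (mul_mem ha2 hb2)).2 a ha).eq.symm, mul_assoc]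
          exact mul_mem (mul_mem ha2 hb2) ha2
        refine main (a * b) habS a ha hab_sq ha2 hcomm' hsq' hnab hna ?_ ⟨u, hu, h1, h2⟩
        obtain ⟨v, hv, hnv⟩ := hnb
        refine ⟨v, hv, fun hc => hnv ?_⟩
        have k1 : a * b * a = (a * b * a⁻¹ * b⁻¹) * (b * (a * a)) := by group
        rw [k1, show b * (a * a) = a * a * b from ((mem_zS.1 ha2).2 b hb).eq.symm, ← mul_assoc] at hc
        have h' := (hzO _ (inv_mem (mul_mem hab2 ha2)) v hv).mul_left hc
        rwa [inv_mul_cancel_left] at h'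
  -- the centralizer of `O`
  set C := centralizer (O : Set G) with hC
  have memC : ∀ {g : G}, g ∈ C ↔ ∀ v ∈ O, Commute g v := fun {g} =>
    mem_centralizer_iff.trans ⟨fun h v hv => (h v hv).symm, fun h v hv => (h v hv).eq.symm⟩
  set S0 : Subgroup G := (S : Subgroup G) ⊓ C with hS0
  have h2 := c.twoCtx
  obtain ⟨x₀, f₀⟩ := h2.exists_first'
  obtain ⟨s₁, hs₁, hsx⟩ : ∃ s ∈ (S : Subgroup G), ¬ Commute s x₀ := by
    by_contra hh
    push Not at hh
    exact f₀.not_mem (mem_zS.2 ⟨f₀.mem, fun y hy => (hh y hy).symm⟩)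
  have hS0z : ¬ S0 ≤ zS (S : Subgroup G) := by
    intro hle
    have hf := four x₀ f₀.mem s₁ hs₁ f₀.sq (f₀.sq_mem h2 hs₁ hsx) (by
      rw [show x₀ * s₁ * x₀⁻¹ * s₁⁻¹ = (s₁ * x₀ * s₁⁻¹ * x₀⁻¹)⁻¹ by group]
      exact inv_mem (f₀.comm s₁ hs₁))
    rcases hf with h | h | h
    · exact f₀.not_mem (hle (mem_inf.2 ⟨f₀.mem, memC.2 h⟩))
    · exact hsx ((mem_zS.1 (hle (mem_inf.2 ⟨hs₁, memC.2 h⟩))).2 x₀ f₀.mem)
    · have h' := (mem_zS.1 (hle (mem_inf.2 ⟨mul_mem f₀.mem hs₁, memC.2 h⟩))).2 x₀ f₀.mem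
      exact hsx (by
        have := (Commute.refl x₀).inv_left.mul_left h'
        rwa [inv_mul_cancel_left] at this)
  obtain ⟨x, hx, f⟩ := h2.exists_first S0 inf_le_left (fun s hs a ha => mem_inf.2
    ⟨mul_mem (mul_mem hs (mem_inf.1 ha).1) (inv_mem hs),
      (inferInstance : C.Normal).conj_mem a (mem_inf.1 ha).2 s⟩) hS0z
  have hY : ∀ s ∈ (S : Subgroup G), Commute s x → s ∈ C := fun s hs hsx => by
    obtain ⟨y, hy, hxy⟩ : ∃ y ∈ (S : Subgroup G), ¬ Commute x y := by
      by_contra hh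
      push Not at hh
      exact f.not_mem (mem_zS.2 ⟨f.mem, hh⟩)
    exact memC.2 fun v hv => hca.commute (hSH f.mem) (hSH hy) hxy (hSH hs) (hOH hv) hsx
      (memC.1 (mem_inf.1 hx).2 v hv).symm
  have hprod : ∀ s ∈ (S : Subgroup G), ∀ s' ∈ (S : Subgroup G), s ∉ C → s' ∉ C → s * s' ∈ C := by
    intro s hs s' hs' hsC hsC'
    by_contra hss
    rcases f.elementary_or_index h2 with hel | hidx
    · rcases four s hs s' hs' (hel s hs) (hel s' hs') (comm_of_sq hel hs hs') with h | h | h
      exacts [hsC (memC.2 h), hsC' (memC.2 h), hss (memC.2 h)]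
    · exact hss (hY _ (mul_mem hs hs')
        (hidx s hs s' hs' (fun h => hsC (hY s hs h)) fun h => hsC' (hY s' hs' h)))
  have hrel : C.relIndex (S : Subgroup G) ∣ 2 := by
    rw [relIndex_dvd_two_iff]
    by_cases hh : ∀ s ∈ (S : Subgroup G), s ∈ C
    · exact ⟨1, one_mem _, fun b hb => Or.inr (hh b hb)⟩
    push Not at hh
    obtain ⟨s, hs, hsC⟩ := hh
    exact ⟨s, hs, fun b hb => (em (b ∈ C)).symm.imp_left fun hb' => hprod b hb s hs hb' hsC⟩
  have h4 : ¬ 4 ∣ C.index := by
    intro h4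
    have hd : C.index ∣ C.relIndex (S : Subgroup G) * (S : Subgroup G).index := by
      rw [← inf_relIndex_right, relIndex_mul_index inf_le_right]
      exact index_dvd_of_le inf_le_left
    have hodd' : Nat.Coprime 4 (S : Subgroup G).index :=
      Nat.Coprime.pow_left 2 ((Nat.prime_two.coprime_iff_not_dvd).2 S.not_dvd_index)
    have h42 := (hodd'.dvd_of_dvd_mul_right (h4.trans hd)).trans hrel
    norm_num at h42
  have hCtop := eq_top_of_not_four c.perf C h4
  exact fun v hv => mem_center_iff_commute.2 fun g => (memC.1 (hCtop ▸ mem_top g) v hv).symm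

/-- Solvable normal subgroups are central. -/
theorem solvable_central (R : Subgroup G) [hRn : R.Normal] [Group.IsSolvable R] : R ≤ center G := by
  haveI : Fact (Nat.Prime 2) := ⟨Nat.prime_two⟩
  have step : ∀ D : Subgroup G, D.Normal → ⁅D, D⁆ ≤ center G → D ≤ center G := by
    intro D hDn hder
    haveI := hDn
    obtain ⟨P⟩ : Nonempty (Sylow 2 D) := inferInstance
    haveI hnil : Group.IsNilpotent D := by
      refine Group.of_quotient_center_nilpotent ((Group.isNilpotent_iff _).2 ⟨1, ?_⟩)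
      rw [Subgroup.upperCentralSeries_one, eq_top_iff]
      rintro y -
      obtain ⟨a, rfl⟩ := QuotientGroup.mk'_surjective (center D) y
      refine mem_center_iff.2 fun z => ?_
      obtain ⟨b, rfl⟩ := QuotientGroup.mk'_surjective (center D) z
      rw [← map_mul, ← map_mul]
      refine QuotientGroup.eq.2 (mem_center_iff.2 fun w => Subtype.ext ?_)
      have hz : ((b : G) * (a : G))⁻¹ * ((a : G) * (b : G)) ∈ center G := by
        refine hder ?_
        rw [show ((b : G) * a)⁻¹ * ((a : G) * b) = ⁅(a : G)⁻¹, (b : G)⁻¹⁆ by rw [commutatorElement_def]; group]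
        exact commutator_mem_commutator (inv_mem a.2) (inv_mem b.2)
      push_cast
      exact ((commute_of_center hz w).eq).symm
    haveI hPn : (P : Subgroup D).Normal := inferInstance
    haveI : (P : Subgroup D).Characteristic := Sylow.characteristic_of_normal P hPn
    have hP2 : IsPGroup 2 ((P : Subgroup D).map D.subtype) := P.2.map _
    haveI : ((P : Subgroup D).map D.subtype).Normal := inferInstance
    have hPc := c.two_central _ inferInstance hP2 ((commutator_mono (map_subtype_le _) (map_subtype_le _)).trans hder)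
    obtain ⟨Q, hQn, hcompl⟩ : ∃ Q : Subgroup D, Q.Normal ∧ Q.IsComplement' (P : Subgroup D) := by
      obtain ⟨P', Q, hQn, hQ⟩ := Fusion.hasNormalPComplement_of_normalizer_le_centralizer P (fun x _ =>
        mem_centralizer_iff.2 fun y hy => Subtype.ext
          ((commute_of_center (hPc (mem_map_of_mem _ hy)) (x : G)).eq))
      have : P' = P := Sylow.ext (by
        obtain ⟨d, hd⟩ := MulAction.exists_smul_eq D P P'
        rw [← hd, Sylow.smul_eq_of_normal])
      exact ⟨Q, hQn, this ▸ hQ⟩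
    haveI := hQn
    have hQodd : Odd (Nat.card Q) := by
      rw [← hcompl.index_eq_card, ← Nat.not_even_iff_odd, even_iff_two_dvd]
      exact P.not_dvd_index
    haveI : Q.Characteristic := by
      refine characteristic_iff_map_le.2 fun φ => ?_
      rintro _ ⟨a, ha, rfl⟩
      have ho : Odd (orderOf (φ a)) := by
        rw [MulEquiv.orderOf_eq]; exact hQodd.of_dvd_nat (Subgroup.orderOf_dvd_natCard Q ha)
      have hidx : Q.index = Nat.card (P : Subgroup D) := hcompl.symm.index_eq_card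
      obtain ⟨k, hk⟩ := P.2.exists_card_eq
      have h1 : orderOf (QuotientGroup.mk' Q (φ a)) = 1 := Nat.eq_one_of_dvd_coprimes
        ((Nat.coprime_two_left.2 ho).pow_left k)
        (by rw [← hk, ← hidx, Subgroup.index_eq_card]; exact orderOf_dvd_natCard _)
        (orderOf_map_dvd _ _)
      exact (QuotientGroup.eq_one_iff _).1 (orderOf_eq_one_iff.1 h1)
    haveI : (Q.map D.subtype).Normal := inferInstance
    have hQc := c.odd_central (Q.map D.subtype) (by rwa [card_map_of_injective D.subtype_injective])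
      ((commutator_mono (map_subtype_le _) (map_subtype_le _)).trans hder)
    intro d hd
    obtain ⟨⟨u, v⟩, huv, -⟩ := hcompl.existsUnique ⟨d, hd⟩
    rw [show d = (u : D).1 * (v : D).1 from (congrArg Subtype.val huv).symm]
    exact mul_mem (hQc (mem_map_of_mem _ u.2)) (hPc (mem_map_of_mem _ v.2))
  obtain ⟨n, hn⟩ := Group.IsSolvable.solvable (G := R)
  have main : ∀ k, (derivedSeries R k).map R.subtype ≤ center G → R ≤ center G := by
    intro k
    induction k with
    | zero => intro h; rwa [derivedSeries_zero, ← MonoidHom.range_eq_map, range_subtype] at h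
    | succ k ih =>
      intro h
      refine ih (step _ inferInstance ?_)
      rwa [← map_commutator, ← derivedSeries_succ]
  exact main n (by rw [hn, Subgroup.map_bot]; exact bot_le)

end PerfCtx

end CfsgLib.MinNonCA
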