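import Cfsg.Agent.Lib.MinNonCA.Model
import Cfsg.Agent.Lib.MinNonCA.Radical
import Cfsg.Agent.Lib.Block.HomocyclicTwo
import Cfsg.Agent.Lib.Coprime.Action
import Cfsg.Agent.Lib.GW.Final
import Cfsg.Agent.Lib.Invol.AbelianCent.Main
import Cfsg.Agent.Lib.Classical.SLNormalized
import Cfsg.Agent.S0074
import Cfsg.Agent.S0483

/-!
# Perfect groups with abelian Sylow two-subgroups
-/

set_option autoImplicit false
set_option linter.unusedSectionVars false
set_option linter.style.haveILetI false

namespace CfsgLib.MinNonCA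

open Subgroup

universe u

variable {G : Type u} [Group G] [Finite G]

/-- The possible perfect groups. -/
def PerfectType (G : Type u) [Group G] : Prop :=
  (∃ (F : Type) (_ : Field F) (_ : Fintype F), Odd (Fintype.card F) ∧ 3 < Fintype.card F ∧
    ∃ φ : G →* Matrix.ProjectiveSpecialLinearGroup (Fin 2) F, Function.Surjective φ ∧ φ.ker = center G) ∨
  (∃ φ : G →* alternatingGroup (Fin 7), Function.Surjective φ ∧ φ.ker = center G) ∨
  (∃ (F : Type) (_ : Field F) (_ : Fintype F), CharP F 2 ∧ 4 ≤ Fintype.card F ∧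
    Nonempty (G ≃* Matrix.SpecialLinearGroup (Fin 2) F))

theorem eq_one_of_perfect_comm (hperf : commutator G = ⊤) (h : ∀ a b : G, Commute a b) (g : G) : g = 1 := by
  haveI : Group.IsSolvable G := Group.isSolvable_of_comm fun a b => (h a b).eq
  exact DFunLike.congr_fun (hom_eq_one hperf (MonoidHom.id G)) g

theorem center_le_ker {Q : Type*} [Group Q] [IsSimpleGroup Q] (hperf : commutator G = ⊤) (φ : G →* Q)
    (hsur : Function.Surjective φ) : center G ≤ φ.ker := by
  intro z hz
  have hzc : φ z ∈ center Q := mem_center_iff.2 fun q => by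
    obtain ⟨g, rfl⟩ := hsur q
    rw [← map_mul, ← map_mul, mem_center_iff.1 hz g]
  rcases (inferInstance : (center Q).Normal).eq_bot_or_eq_top with h | h
  · rw [h, mem_bot] at hzc
    exact hzc
  · haveI : Group.IsSolvable Q :=
      Group.isSolvable_of_comm fun a b => mem_center_iff.1 (h ▸ mem_top b) a
    exact DFunLike.congr_fun (hom_eq_one hperf φ) z

/-- A four group normalizing a subgroup of odd order. -/
theorem four_le {K W : Subgroup G} (hK : Odd (Nat.card K)) {u v : G} (hu1 : u ≠ 1) (hv1 : v ≠ 1)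
    (huv : u ≠ v) (hu : u * u = 1) (hv : v * v = 1) (hc : Commute u v)
    (huK : u ∈ normalizer (K : Set G)) (hvK : v ∈ normalizer (K : Set G))
    (h1 : ∀ x ∈ K, Commute x u → x ∈ W) (h2 : ∀ x ∈ K, Commute x v → x ∈ W)
    (h3 : ∀ x ∈ K, Commute x (u * v) → x ∈ W) : K ≤ W := by
  classical
  set V : Subgroup G := closure {u, v} with hV
  have hcomm : IsMulCommutative V := by
    rw [hV]
    exact Subgroup.isMulCommutative_closure (by
      rintro a (rfl | rfl) b (rfl | rfl)
      exacts [rfl, hc.eq, hc.eq.symm, rfl])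
  have hel : ∀ a ∈ V, a = 1 ∨ a = u ∨ a = v ∨ a = u * v := by
    intro a ha
    rw [hV] at ha
    induction ha using closure_induction with
    | mem x hx =>
      rcases hx with rfl | rfl
      · exact Or.inr (Or.inl rfl)
      · exact Or.inr (Or.inr (Or.inl rfl))
    | one => exact Or.inl rfl
    | mul x y _ _ hx hy =>
      have e1 : v * u = u * v := hc.eq.symm
      have e2 : u * (u * v) = v := by rw [← mul_assoc, hu, one_mul]
      have e3 : u * v * u = v := by rw [mul_assoc, e1, e2]
      have e4 : v * (u * v) = u := by rw [← mul_assoc, e1, mul_assoc, hv, mul_one]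
      have e5 : u * v * v = u := by rw [mul_assoc, hv, mul_one]
      have e6 : u * v * (u * v) = 1 := by rw [← mul_assoc, e3, hv]
      rcases hx with rfl | rfl | rfl | rfl <;> rcases hy with rfl | rfl | rfl | rfl <;>
        simp [hu, hv, e1, e2, e3, e4, e5, e6]
    | inv x _ hx =>
      rcases hx with rfl | rfl | rfl | rfl
      · exact Or.inl inv_one
      · exact Or.inr (Or.inl (inv_eq_of_mul_eq_one_right hu))
      · exact Or.inr (Or.inr (Or.inl (inv_eq_of_mul_eq_one_right hv)))
      · exact Or.inr (Or.inr (Or.inr (by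
          rw [_root_.mul_inv_rev, inv_eq_of_mul_eq_one_right hu, inv_eq_of_mul_eq_one_right hv, hc.eq])))
  haveI := hcomm
  have hsq : ∀ a ∈ V, a * a = 1 := by
    intro a ha
    rcases hel a ha with rfl | rfl | rfl | rfl
    exacts [one_mul 1, hu, hv, by rw [← pow_two, hc.mul_pow, pow_two, pow_two, hu, hv, one_mul]]
  refine Coprime.le_of_centralizers_le (A := V) (fun hcy => ?_) ?_ ?_ fun a ha ha1 => ?_
  · obtain ⟨g, hg⟩ := hcy.exists_generator
    have hall : ∀ b : V, b = 1 ∨ b = g := by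
      intro b
      obtain ⟨i, rfl⟩ := mem_zpowers_iff.1 (hg b)
      have hg2 : g * g = 1 := Subtype.ext (hsq g g.2)
      rcases Int.even_or_odd' i with ⟨j, rfl | rfl⟩
      · left; rw [zpow_mul, zpow_two, hg2, one_zpow]
      · right; rw [zpow_add, zpow_mul, zpow_two, hg2, one_zpow, one_mul, zpow_one]
    have hu' := hall ⟨u, subset_closure (by simp)⟩
    have hv' := hall ⟨v, subset_closure (by simp)⟩
    simp only [Subtype.ext_iff, OneMemClass.coe_one] at hu' hv'
    exact huv ((hu'.resolve_left hu1).trans (hv'.resolve_left hv1).symm)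
  · rw [hV, closure_le]
    rintro a (rfl | rfl) <;> assumption
  · have hp : IsPGroup 2 V := fun a => ⟨1, Subtype.ext (by
      simpa [pow_one, pow_two] using hsq a a.2)⟩
    haveI : Fact (Nat.Prime 2) := ⟨Nat.prime_two⟩
    obtain ⟨k, hk⟩ := hp.exists_card_eq
    rw [hk]
    exact Nat.Coprime.pow_left k (Nat.coprime_two_left.2 hK)
  · intro x hx
    obtain ⟨hxK, hxa⟩ := mem_inf.1 hx
    rcases hel a ha with rfl | rfl | rfl | rfl
    exacts [absurd rfl ha1, h1 x hxK (mem_cent.1 hxa), h2 x hxK (mem_cent.1 hxa), h3 x hxK (mem_cent.1 hxa)]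

/-- A perfect group, its proper subgroups as required, with abelian Sylow `2`-subgroup. -/
structure AbCtx (S : Sylow 2 G) : Prop where
  perf : commutator G = ⊤
  sub : SubCA G
  ab : ∀ a ∈ (S : Subgroup G), ∀ b ∈ (S : Subgroup G), Commute a b
  nontriv : ∃ g : G, g ≠ 1

namespace AbCtx

variable {S : Sylow 2 G} (c : AbCtx S)
include c

theorem not_odd : ¬ Odd (Nat.card G) := fun h => by
  haveI : Group.IsSolvable G := Cfsg.Agent.S0205.result h
  obtain ⟨g, hg⟩ := c.nontriv
  exact hg (DFunLike.congr_fun (hom_eq_one c.perf (MonoidHom.id G)) g)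

theorem exists_ne_one : ∃ s ∈ (S : Subgroup G), s ≠ 1 := by
  haveI : Fact (Nat.Prime 2) := ⟨Nat.prime_two⟩
  by_contra h
  push Not at h
  refine c.not_odd (Nat.not_even_iff_odd.1 fun he => ?_)
  have hS : (S : Subgroup G) = ⊥ := (eq_bot_iff_forall _).2 h
  have h1 := S.not_dvd_index
  rw [hS, index_bot] at h1
  exact h1 (even_iff_two_dvd.1 he)

theorem normalizer_ne_top : normalizer ((S : Subgroup G) : Set G) ≠ ⊤ := fun h => by
  haveI : (S : Subgroup G).Normal := normalizer_eq_top_iff.1 h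
  have hS := eq_top_of_sylow_le c.perf S (S : Subgroup G) le_rfl
  obtain ⟨g, hg⟩ := c.nontriv
  exact hg (eq_one_of_perfect_comm c.perf
    (fun a b => c.ab a (hS ▸ mem_top a) b (hS ▸ mem_top b)) g)

theorem zero_fix {u : G} (hu : u ∈ (S : Subgroup G))
    (hc : ∀ n ∈ normalizer ((S : Subgroup G) : Set G), Commute u n) : u = 1 := by
  haveI : Fact (Nat.Prime 2) := ⟨Nat.prime_two⟩
  haveI hab : IsMulCommutative (S : Subgroup G) := ⟨⟨fun a b => Subtype.ext (c.ab a a.2 b b.2)⟩⟩
  set N := normalizer ((S : Subgroup G) : Set G)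
  have h1 : u ∈ ⁅N, N⁆ := by
    have := Cfsg.Agent.S0074.result S hab
    rw [c.perf, top_inf_eq] at this
    exact (mem_inf.1 (this ▸ hu)).1
  rw [← Subgroup.map_subtype_commutator] at h1
  obtain ⟨w, hw, hwu⟩ := h1
  have hwS : w ∈ ((S.subtype le_normalizer : Sylow 2 N) : Subgroup N) := by
    rw [Sylow.coe_subtype, mem_subgroupOf]; exact (show (w : G) = u from hwu) ▸ hu
  have h2 := Char.PslSizes.central_mem_derived (S.subtype le_normalizer) (z := w)
    (mem_center_iff.2 fun y => Subtype.ext ((show (w : G) = u from hwu) ▸ (hc y y.2).eq.symm :)) hw hwS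
  have h3 : commutator ((S.subtype le_normalizer : Sylow 2 N) : Subgroup N) = ⊥ := by
    rw [commutator_def, commutator_eq_bot_iff_le_centralizer]
    rintro a -
    refine mem_centralizer_iff.2 fun b _ => Subtype.ext (Subtype.ext ?_)
    exact (c.ab _ (mem_subgroupOf.1 b.2) _ (mem_subgroupOf.1 a.2)).eq
  rw [h3, mem_bot] at h2
  rw [← hwu, show w = 1 from congrArg Subtype.val h2, map_one]

theorem cent_le_normalizer {a : G} (ha : ∀ s ∈ (S : Subgroup G), Commute a s) :
    a ∈ normalizer ((S : Subgroup G) : Set G) := by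
  refine mem_normalizer_iff.2 fun s => ⟨fun hs => ?_, fun hs => ?_⟩
  · rw [(ha s hs).eq, mul_inv_cancel_right]; exact hs
  · have := (ha _ hs).eq
    have e : a * s * a⁻¹ = s := by
      have h2 : a * (a * s * a⁻¹) * a⁻¹ = a * s * a⁻¹ := by rw [this, mul_inv_cancel_right]
      simpa using congrArg (fun x => a⁻¹ * x * a) h2
    rwa [e] at hs

/-- Elements centralizing `S` commute. -/
theorem commA {a b : G} (ha : ∀ s ∈ (S : Subgroup G), Commute a s)
    (hb : ∀ s ∈ (S : Subgroup G), Commute b s) : Commute a b := by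
  obtain ⟨s, hs, hs1⟩ := c.exists_ne_one
  obtain ⟨n, hn, hsn⟩ : ∃ n ∈ normalizer ((S : Subgroup G) : Set G), ¬ Commute s n := by
    by_contra h
    push Not at h
    exact hs1 (c.zero_fix hs h)
  exact (c.sub _ c.normalizer_ne_top).commute (le_normalizer hs) hn hsn (c.cent_le_normalizer ha)
    (c.cent_le_normalizer hb) (ha s hs) (hb s hs)

/-- In the normalizer only the centralizer of `S` centralizes a nontrivial element of `S`. -/
theorem semiregular {n u : G} (hn : n ∈ normalizer ((S : Subgroup G) : Set G))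
    (hu : u ∈ (S : Subgroup G)) (hu1 : u ≠ 1) (hnu : Commute n u) :
    ∀ s ∈ (S : Subgroup G), Commute n s := by
  obtain ⟨m, hm, hum⟩ : ∃ m ∈ normalizer ((S : Subgroup G) : Set G), ¬ Commute u m := by
    by_contra h
    push Not at h
    exact hu1 (c.zero_fix hu h)
  exact fun s hs => (c.sub _ c.normalizer_ne_top).commute (le_normalizer hu) hm hum hn (le_normalizer hs)
    hnu (c.ab s hs u hu)

theorem exists_outer : ∃ n ∈ normalizer ((S : Subgroup G) : Set G), ∀ u ∈ (S : Subgroup G), u ≠ 1 →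
    ¬ Commute n u := by
  obtain ⟨s, hs, hs1⟩ := c.exists_ne_one
  obtain ⟨n, hn, hsn⟩ : ∃ n ∈ normalizer ((S : Subgroup G) : Set G), ¬ Commute s n := by
    by_contra h
    push Not at h
    exact hs1 (c.zero_fix hs h)
  exact ⟨n, hn, fun u hu hu1 hnu => hsn (c.semiregular hn hu hu1 hnu s hs).symm⟩

theorem not_cyclic : ¬ IsCyclic (S : Subgroup G) := fun hcyc => by
  haveI : Fact (Nat.Prime 2) := ⟨Nat.prime_two⟩
  have hmin : (Nat.card G).minFac = 2 :=
    (Nat.minFac_eq_two_iff _).2 (even_iff_two_dvd.1 (Nat.not_odd_iff_even.1 c.not_odd))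
  obtain ⟨n, hn, hnS⟩ := c.exists_outer
  obtain ⟨s, hs, hs1⟩ := c.exists_ne_one
  exact hnS s hs hs1 (mem_centralizer_iff.1 (hcyc.normalizer_le_centralizer hmin hn) s hs).symm

/-- An involution with nonabelian centralizer forces a four group. -/
theorem card_four {t : G} (ht : t ∈ (S : Subgroup G)) (ht2 : t * t = 1) (ht1 : t ≠ 1)
    (hnt : NonabCent t) : Nat.card (S : Subgroup G) = 4 ∧ ∀ s ∈ (S : Subgroup G), s * s = 1 := by
  classical
  haveI : Fact (Nat.Prime 2) := ⟨Nat.prime_two⟩
  have htc : t ∉ center G := fun h => ht1 (c.zero_fix ht fun n _ => commute_of_center h n)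
  set H := centralizer ({t} : Set G) with hH
  have hHt : H ≠ ⊤ := cent_ne_top htc
  have hca := c.sub H hHt
  have hnorm := normalizer_cent c.sub hnt (cent_not_normal c.perf c.sub hnt htc)
  have hSH : (S : Subgroup G) ≤ H := fun s hs => mem_cent.2 (c.ab s hs t ht)
  -- `H` has a normal complement to `S`
  have hburn : normalizer (((S.subtype hSH : Sylow 2 H) : Subgroup H) : Set H) ≤
      centralizer (((S.subtype hSH : Sylow 2 H) : Subgroup H) : Set H) := by
    intro x hx
    have hxN : (x : G) ∈ normalizer ((S : Subgroup G) : Set G) := by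
      refine mem_normalizer_iff.2 fun s => ?_
      constructor
      · intro hs
        have := (mem_normalizer_iff.1 hx ⟨s, hSH hs⟩).1 (by rw [Sylow.coe_subtype, mem_subgroupOf]; exact hs)
        rwa [Sylow.coe_subtype, mem_subgroupOf] at this
      · intro hs
        have hsH : s ∈ H := by
          have := mul_mem (mul_mem (inv_mem x.2) (hSH hs)) x.2
          simpa [mul_assoc] using this
        have := (mem_normalizer_iff.1 hx ⟨s, hsH⟩).2 (by rw [Sylow.coe_subtype, mem_subgroupOf]; exact hs)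
        rwa [Sylow.coe_subtype, mem_subgroupOf] at this
    refine mem_centralizer_iff.2 fun y hy => Subtype.ext ?_
    exact ((c.semiregular hxN ht ht1 (mem_cent.1 x.2)) y
      (mem_subgroupOf.1 (by rw [← Sylow.coe_subtype S hSH]; exact hy))).eq.symm
  obtain ⟨P, O, hOn, hcompl⟩ := Fusion.hasNormalPComplement_of_normalizer_le_centralizer _ hburn
  haveI := hOn
  set O' : Subgroup G := O.map H.subtype with hO'
  have hOodd : Odd (Nat.card O') := by
    rw [hO', card_map_of_injective H.subtype_injective, ← hcompl.index_eq_card, ← Nat.not_even_iff_odd,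
      even_iff_two_dvd]
    exact P.not_dvd_index
  have hHO : H ≤ normalizer (O' : Set G) := by
    intro h hh
    refine mem_normalizer_iff.2 fun x => ⟨?_, ?_⟩
    · rintro ⟨o, ho, rfl⟩
      exact ⟨_, hOn.conj_mem o ho ⟨h, hh⟩, by simp⟩
    · rintro ⟨o, ho, hox⟩
      refine ⟨_, hOn.conj_mem o ho ⟨h, hh⟩⁻¹, ?_⟩
      have hox' : (o : G) = h * x * h⁻¹ := hox
      simp [hox', mul_assoc]
  -- `O` does not centralize `S`
  have hOA : ¬ ∀ o ∈ O', ∀ s ∈ (S : Subgroup G), Commute o s := by
    intro hOA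
    obtain ⟨a, b, ha, hb, hab⟩ := hnt
    obtain ⟨x, hx⟩ := MulAction.exists_smul_eq H (S.subtype hSH) P
    have hPab : ∀ p ∈ (P : Subgroup H), ∀ o ∈ O, Commute (p : G) (o : G) := by
      intro p hp o ho
      rw [← hx, Sylow.coe_subgroup_smul, mem_pointwise_smul_iff_inv_smul_mem] at hp
      rw [Sylow.coe_subtype, mem_subgroupOf] at hp
      set p' : G := (((MulAut.conj x)⁻¹ • p : H) : G)
      have h1 := hOA _ ⟨_, hOn.conj_mem o ho x⁻¹, rfl⟩ _ hp
      have h2 := h1.symm.map (MulAut.conj (x : G)).toMonoidHom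
      simpa [p', MulAut.smul_def, MulAut.conj_apply, MulAut.conj_symm_apply, MulAut.inv_def, mul_assoc] using h2
    have hPP : ∀ p ∈ (P : Subgroup H), ∀ q ∈ (P : Subgroup H), Commute (p : G) (q : G) := by
      intro p hp q hq
      rw [← hx, Sylow.coe_subgroup_smul, mem_pointwise_smul_iff_inv_smul_mem] at hp hq
      rw [Sylow.coe_subtype, mem_subgroupOf] at hp hq
      have h2 := (c.ab _ hp _ hq).map (MulAut.conj (x : G)).toMonoidHom
      simpa [MulAut.smul_def, MulAut.conj_apply, MulAut.conj_symm_apply, MulAut.inv_def, mul_assoc] using h2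
    have hOO : ∀ p ∈ O, ∀ q ∈ O, Commute (p : G) (q : G) := fun p hp q hq =>
      c.commA (hOA _ ⟨p, hp, rfl⟩) (hOA _ ⟨q, hq, rfl⟩)
    obtain ⟨⟨o₁, p₁⟩, e1, -⟩ := hcompl.existsUnique ⟨a, mem_cent.2 ha⟩
    obtain ⟨⟨o₂, p₂⟩, e2, -⟩ := hcompl.existsUnique ⟨b, mem_cent.2 hb⟩
    refine hab ?_
    rw [show a = (o₁ : H).1 * (p₁ : H).1 from (congrArg Subtype.val e1).symm,
      show b = (o₂ : H).1 * (p₂ : H).1 from (congrArg Subtype.val e2).symm]
    exact ((hOO _ o₁.2 _ o₂.2).mul_right (hPab _ p₂.2 _ o₁.2).symm).mul_left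
      ((hPab _ p₁.2 _ o₂.2).mul_right (hPP _ p₁.2 _ p₂.2))
  -- the involutions of `S` central in `H`
  let E : G → Prop := fun u => u ∈ (S : Subgroup G) ∧ u * u = 1
  let T : G → Prop := fun u => E u ∧ ∀ h ∈ H, Commute u h
  have hEmul : ∀ {u v}, E u → E v → E (u * v) := fun {u v} hu hv => ⟨mul_mem hu.1 hv.1, by
    rw [← pow_two, (c.ab u hu.1 v hv.1).mul_pow, pow_two, pow_two, hu.2, hv.2, one_mul]⟩
  have hTt : T t := ⟨⟨ht, ht2⟩, fun h hh => (mem_cent.1 hh).symm⟩
  have hTE : ∀ {u}, E u → ¬ T u → ∀ o ∈ O', Commute o u → ∀ s ∈ (S : Subgroup G), Commute o s := by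
    intro u hu hTu o ho hou s hs
    obtain ⟨y, hy, huy⟩ : ∃ y ∈ H, ¬ Commute u y := by
      by_contra h
      push Not at h
      exact hTu ⟨hu, h⟩
    obtain ⟨o', ho', rfl⟩ := ho
    exact hca.commute (hSH hu.1) hy huy o'.2 (hSH hs) hou (c.ab s hs u hu.1)
  have hprod : ∀ {u v}, E u → E v → ¬ T u → ¬ T v → T (u * v) := by
    intro u v hu hv hTu hTv
    by_contra huv
    have hne : u ≠ v := fun e => huv ⟨hEmul hu hv, fun h _ => by
      rw [e, hv.2]; exact Commute.one_left h⟩
    have h1 : ∀ {w}, ¬ T w → E w → w ≠ 1 := fun hw hEw e => hw ⟨hEw, fun h _ => by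
      rw [e]; exact Commute.one_left h⟩
    refine hOA fun o ho s hs => ?_
    exact mem_centralizer_iff.1 (four_le (W := centralizer ((S : Subgroup G) : Set G)) hOodd (h1 hTu hu)
      (h1 hTv hv) hne hu.2 hv.2 (c.ab u hu.1 v hv.1) (hHO (hSH hu.1)) (hHO (hSH hv.1))
      (fun x hx hxu => mem_centralizer_iff.2 fun s hs => (hTE hu hTu x hx hxu s hs).eq.symm)
      (fun x hx hxu => mem_centralizer_iff.2 fun s hs => (hTE hv hTv x hx hxu s hs).eq.symm)
      (fun x hx hxu => mem_centralizer_iff.2 fun s hs => (hTE (hEmul hu hv) huv x hx hxu s hs).eq.symm)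
      ho) s hs |>.symm
  have hcentT : ∀ {u}, T u → u ≠ 1 → centralizer ({u} : Set G) = H := fun {u} hu hu1 =>
    cent_eq_of_le c.sub hnt (fun h => hu1 (c.zero_fix hu.1.1 fun n _ => commute_of_center h n))
      fun h hh => mem_cent.2 (hu.2 h hh).symm
  obtain ⟨n, hn, hnS⟩ := c.exists_outer
  have hnE : ∀ {u}, E u → E (n * u * n⁻¹) := fun {u} hu =>
    ⟨(mem_normalizer_iff.1 hn u).1 hu.1, by
      rw [show n * u * n⁻¹ * (n * u * n⁻¹) = n * (u * u) * n⁻¹ by group, hu.2, mul_one, mul_inv_cancel]⟩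
  have hout : ∀ {u}, T u → u ≠ 1 → ¬ T (n * u * n⁻¹) := by
    intro u hu hu1 hu'
    have hu1' : n * u * n⁻¹ ≠ 1 := fun e => hu1 (conj_eq_one_iff.1 e)
    have hnH : n ∈ H := by
      suffices hh : n ∈ normalizer (centralizer ({t} : Set G) : Set G) from (SetLike.ext_iff.1 hnorm n).1 hh
      rw [mem_normalizer_iff]
      intro y
      have k : Commute (n * y * n⁻¹) (n * u * n⁻¹) ↔ Commute y u := by
        constructor <;> intro h
        · have := h.map (MulAut.conj n⁻¹).toMonoidHom
          simpa [MulAut.conj_apply, mul_assoc] using this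
        · exact h.map (MulAut.conj n).toMonoidHom
      show y ∈ H ↔ n * y * n⁻¹ ∈ H
      nth_rw 1 [← hcentT hu hu1]
      rw [← hcentT hu' hu1', mem_cent, mem_cent, k]
    exact hnS t ht ht1 (mem_cent.1 hnH)
  have hTonly : ∀ {u}, T u → u ≠ 1 → u = t := by
    intro u hu hu1
    by_contra hne
    have hprodT : T (u * t) := ⟨hEmul hu.1 hTt.1, fun h hh => (hu.2 h hh).mul_left (hTt.2 h hh)⟩
    have hne' : u * t ≠ 1 := fun e => hne ((eq_inv_of_mul_eq_one_left e).trans
      (inv_eq_of_mul_eq_one_right ht2))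
    refine hout hprodT hne' ?_
    have := hprod (hnE hu.1) (hnE hTt.1) (hout hu hu1) (hout hTt ht1)
    rwa [show n * u * n⁻¹ * (n * t * n⁻¹) = n * (u * t) * n⁻¹ by group] at this
  set t' := n * t * n⁻¹ with ht'
  have hTt' : ¬ T t' := hout hTt ht1
  have ht'1 : t' ≠ 1 := fun e => ht1 (conj_eq_one_iff.1 e)
  have htt : t ≠ t' := fun e => hTt' (e ▸ hTt)
  have hE : ∀ u, E u → u = 1 ∨ u = t ∨ u = t' ∨ u = t * t' := by
    intro u hu
    by_cases hTu : T u
    · exact (em (u = 1)).imp_right fun h => Or.inl (hTonly hTu h)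
    · have h := hprod hu (hnE hTt.1) hTu hTt'
      have hinv : t'⁻¹ = t' := inv_eq_of_mul_eq_one_right (hnE hTt.1).2
      by_cases h1 : u * t' = 1
      · exact Or.inr (Or.inr (Or.inl (by rw [eq_inv_of_mul_eq_one_left h1, hinv])))
      · exact Or.inr (Or.inr (Or.inr (by
          rw [← hTonly h h1, mul_assoc, (hnE hTt.1).2, mul_one])))
  have ht'S : t' ∈ (S : Subgroup G) := (hnE hTt.1).1
  have hset : {x : G | x ∈ (S : Subgroup G) ∧ x * x = 1} = {1, t, t', t * t'} := by
    ext x
    simp only [Set.mem_ofPred_eq, Set.mem_insert_iff, Set.mem_singleton_iff]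
    refine ⟨fun h => hE x h, ?_⟩
    rintro (rfl | rfl | rfl | rfl)
    exacts [⟨one_mem _, one_mul 1⟩, ⟨ht, ht2⟩, hnE hTt.1, hEmul hTt.1 (hnE hTt.1)]
  have h4 : ({1, t, t', t * t'} : Set G).ncard = 4 := by
    have n1 : (1 : G) ∉ ({t, t', t * t'} : Set G) := by
      simp only [Set.mem_insert_iff, Set.mem_singleton_iff, not_or]
      exact ⟨ht1.symm, ht'1.symm, fun e => htt ((eq_inv_of_mul_eq_one_left e.symm).trans
        (inv_eq_of_mul_eq_one_right (hnE hTt.1).2))⟩
    have n2 : t ∉ ({t', t * t'} : Set G) := by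
      simp only [Set.mem_insert_iff, Set.mem_singleton_iff, not_or]
      exact ⟨htt, fun e => ht'1 (left_eq_mul.1 e)⟩
    have n3 : t' ∉ ({t * t'} : Set G) := by
      simp only [Set.mem_singleton_iff]
      exact fun e => ht1 (right_eq_mul.1 e)
    rw [Set.ncard_insert_of_notMem n1, Set.ncard_insert_of_notMem n2, Set.ncard_insert_of_notMem n3,
      Set.ncard_singleton]
  by_cases hall : ∀ s ∈ (S : Subgroup G), s * s = 1
  · refine ⟨?_, hall⟩
    rw [← h4, ← hset, ← Nat.card_coe_set_eq]
    exact Nat.card_congr (Equiv.subtypeEquivRight fun x => ⟨fun h => ⟨h, hall x h⟩, fun h => h.1⟩)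
  -- otherwise `S` is normal modulo the odd core
  exfalso
  set R := Cfsg.oddCore G with hR
  set π := QuotientGroup.mk' R with hπ
  have hinj : ∀ x ∈ (S : Subgroup G), ∀ y ∈ (S : Subgroup G), π x = π y → x = y := by
    intro x hx y hy e
    have h1 : x⁻¹ * y ∈ R := QuotientGroup.eq.1 e
    obtain ⟨k, hk⟩ := S.2.exists_card_eq
    exact inv_mul_eq_one.1 (CfsgLib.Invol.eq_one_of_odd_of_pow_two
      ((GW.odd_oddCore G).of_dvd_nat (Subgroup.orderOf_dvd_natCard _ h1))
      (orderOf_dvd_iff_pow_eq_one.1 (hk ▸ Subgroup.orderOf_dvd_natCard _ (mul_mem (inv_mem hx) hy))))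
  set S' : Sylow 2 (G ⧸ R) := S.mapSurjective (QuotientGroup.mk'_surjective R) with hS'
  let φ : ↥(S : Subgroup G) → ↥(S' : Subgroup (G ⧸ R)) := fun x => ⟨π x, mem_map_of_mem π x.2⟩
  have hφ : Function.Bijective φ :=
    ⟨fun x y e => Subtype.ext (hinj x x.2 y y.2 (congrArg Subtype.val e)), fun y => by
      obtain ⟨x, hx, e⟩ := y.2
      exact ⟨⟨x, hx⟩, Subtype.ext e⟩⟩
  have hcard2 : Nat.card {x : (S' : Subgroup (G ⧸ R)) // x ^ 2 = 1} = 4 := by
    rw [← h4, ← hset, ← Nat.card_coe_set_eq]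
    refine (Nat.card_congr ((((Equiv.subtypeSubtypeEquivSubtypeInter
      (fun x : G => x ∈ (S : Subgroup G)) (fun x => x * x = 1)).symm).trans
        ((Equiv.ofBijective φ hφ).subtypeEquiv fun x => ?_)))).symm
    constructor
    · intro hx
      refine Subtype.ext ?_
      show π x.1 ^ 2 = 1
      rw [pow_two, ← map_mul, hx, map_one]
    · intro hx
      have := congrArg Subtype.val hx
      rw [pow_two] at this
      exact hinj _ (mul_mem x.2 x.2) 1 (one_mem _) (by rw [map_mul, map_one]; exact this)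
  have hbig : 4 < Nat.card (S' : Subgroup (G ⧸ R)) := by
    rw [← Nat.card_congr (Equiv.ofBijective φ hφ), ← h4, ← hset]
    push Not at hall
    obtain ⟨s, hs, hs2⟩ := hall
    exact Set.ncard_lt_ncard ⟨fun x hx => hx.1, fun h => hs2 (h hs).2⟩
  have hab' : ∀ a ∈ (S' : Subgroup (G ⧸ R)), ∀ b ∈ (S' : Subgroup (G ⧸ R)), a * b = b * a := by
    rintro _ ⟨a, ha, rfl⟩ _ ⟨b, hb, rfl⟩
    rw [← map_mul, ← map_mul, (c.ab a ha b hb).eq]
  obtain ⟨hS'n, -, hidx⟩ := Block.HomocyclicTwo.normal_of_fourTorsion (G ⧸ R) S' hab' hcard2 hbig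
    fun N hN hodd => le_bot_iff.1 ((GW.le_oddCore (N := N) hodd).trans
      (Coprime.pPrimeCore_quotient_eq_bot Nat.prime_two).le)
  haveI := hS'n
  have hQ : (S' : Subgroup (G ⧸ R)).comap π = ⊤ := eq_top_of_index_le c.perf _ (by
    rw [index_comap_of_surjective _ (QuotientGroup.mk'_surjective R)]
    rcases hidx with h | h <;> omega)
  haveI : Group.IsNilpotent (G ⧸ R) := by
    refine (IsPGroup.of_equiv (p := 2) (?_ : IsPGroup 2 (⊤ : Subgroup (G ⧸ R))) Subgroup.topEquiv).isNilpotent
    have : (S' : Subgroup (G ⧸ R)) = ⊤ := comap_injective (QuotientGroup.mk'_surjective R)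
      (hQ.trans (comap_top π).symm)
    exact this ▸ S'.2
  have hRtop := eq_top_of_solvable_quotient c.perf R
  have := GW.odd_oddCore G
  rw [← hR, hRtop, card_top] at this
  exact c.not_odd this

/-- The four group case. -/
theorem type_four (h4 : Nat.card (S : Subgroup G) = 4) (hsq : ∀ s ∈ (S : Subgroup G), s * s = 1) :
    ∃ (F : Type) (_ : Field F) (_ : Fintype F), Odd (Fintype.card F) ∧ 3 < Fintype.card F ∧
      Fintype.card F ≠ 9 ∧ Nonempty (G ≃* Matrix.ProjectiveSpecialLinearGroup (Fin 2) F) := by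
  classical
  haveI : Fact (Nat.Prime 2) := ⟨Nat.prime_two⟩
  haveI : Group.IsPerfect G := ⟨c.perf⟩
  have h8 : ¬ 8 ∣ Nat.card G := by
    intro h
    rw [← (S : Subgroup G).card_mul_index, h4] at h
    exact S.not_dvd_index (Nat.dvd_of_mul_dvd_mul_left (show 0 < 4 by norm_num) h)
  obtain ⟨e4⟩ : Nonempty ((S : Subgroup G) ≃* DihedralGroup 2) := by
    haveI : IsKleinFour (S : Subgroup G) := by
      refine ⟨h4, ?_⟩
      haveI : Nontrivial (S : Subgroup G) :=
        Finite.one_lt_card_iff_nontrivial.1 (by rw [h4]; norm_num)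
      exact (Monoid.exponent_eq_prime_iff Nat.prime_two).2 fun g hg =>
        orderOf_eq_prime (Subtype.ext (by simpa [pow_two] using hsq g g.2)) hg
    exact IsKleinFour.nonempty_mulEquiv
  set R := Cfsg.oddCore G with hR
  -- the odd core is central
  have hRc : R ≤ center G := by
    set X := R ⊔ (S : Subgroup G) with hX
    have hXtop : X ≠ ⊤ := by
      intro hX'
      haveI : Group.IsNilpotent (G ⧸ R) := by
        refine (IsPGroup.of_equiv (p := 2) (?_ : IsPGroup 2 (⊤ : Subgroup (G ⧸ R))) Subgroup.topEquiv).isNilpotent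
        have htop : (⊤ : Subgroup (G ⧸ R)) = (S : Subgroup G).map (QuotientGroup.mk' R) := by
          rw [← map_top_of_surjective _ (QuotientGroup.mk'_surjective R), ← hX', hX, Subgroup.map_sup,
            show R.map (QuotientGroup.mk' R) = ⊥ from QuotientGroup.map_mk'_self R, bot_sup_eq]
        rw [htop]
        exact S.2.map _
      have hRtop := eq_top_of_solvable_quotient c.perf R
      have := GW.odd_oddCore G
      rw [← hR, hRtop, card_top] at this
      exact c.not_odd this
    have key : ∀ s ∈ (S : Subgroup G), ∀ r ∈ R, Commute r s := by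
      obtain ⟨n, hn, hnS⟩ := c.exists_outer
      have mem_four : ∀ {u v : G}, u ∈ (S : Subgroup G) → v ∈ (S : Subgroup G) → u ≠ 1 → v ≠ 1 → u ≠ v →
          ∀ s ∈ (S : Subgroup G), s = 1 ∨ s = u ∨ s = v ∨ s = u * v := by
        intro u v hu hv hu1 hv1 huv s hs
        have n1 : (1 : G) ∉ ({u, v, u * v} : Set G) := by
          simp only [Set.mem_insert_iff, Set.mem_singleton_iff, not_or]
          exact ⟨hu1.symm, hv1.symm, fun e => huv ((eq_inv_of_mul_eq_one_left e.symm).trans
            (inv_eq_of_mul_eq_one_right (hsq v hv)))⟩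
        have n2 : u ∉ ({v, u * v} : Set G) := by
          simp only [Set.mem_insert_iff, Set.mem_singleton_iff, not_or]
          exact ⟨huv, fun e => hv1 (left_eq_mul.1 e)⟩
        have n3 : v ∉ ({u * v} : Set G) := by
          simp only [Set.mem_singleton_iff]
          exact fun e => hu1 (right_eq_mul.1 e)
        have heq : ({1, u, v, u * v} : Set G) = ((S : Subgroup G) : Set G) := by
          refine Set.eq_of_subset_of_ncard_le ?_ ?_
          · rintro x (rfl | rfl | rfl | rfl)
            exacts [one_mem _, hu, hv, mul_mem hu hv]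
          · rw [Set.ncard_insert_of_notMem n1, Set.ncard_insert_of_notMem n2,
              Set.ncard_insert_of_notMem n3, Set.ncard_singleton, ← Nat.card_coe_set_eq]
            exact h4.le
        have := heq ▸ (show s ∈ ((S : Subgroup G) : Set G) from hs)
        simpa using this
      by_cases hu : ∃ u ∈ (S : Subgroup G), u ≠ 1 ∧ ∀ r ∈ R, Commute r u
      · obtain ⟨u, hu, hu1, hur⟩ := hu
        set v := n * u * n⁻¹ with hv
        have hvS : v ∈ (S : Subgroup G) := (mem_normalizer_iff.1 hn u).1 hu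
        have hv1 : v ≠ 1 := fun e => hu1 (conj_eq_one_iff.1 e)
        have huv : u ≠ v := fun e => hnS u hu hu1 (show n * u = u * n from
          mul_inv_eq_iff_eq_mul.1 e.symm)
        have hvr : ∀ r ∈ R, Commute r v := fun r hr => by
          have h1 := (hur _ ((inferInstance : R.Normal).conj_mem r hr n⁻¹)).map (MulAut.conj n).toMonoidHom
          simpa [hv, MulAut.conj_apply, mul_assoc] using h1
        intro s hs r hr
        rcases mem_four hu hvS hu1 hv1 huv s hs with rfl | rfl | rfl | rfl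
        exacts [Commute.one_right r, hur r hr, hvr r hr, (hur r hr).mul_right (hvr r hr)]
      · push Not at hu
        obtain ⟨u, huS, hu1⟩ := c.exists_ne_one
        set v := n * u * n⁻¹ with hv
        have hvS : v ∈ (S : Subgroup G) := (mem_normalizer_iff.1 hn u).1 huS
        have hv1 : v ≠ 1 := fun e => hu1 (conj_eq_one_iff.1 e)
        have huv : u ≠ v := fun e => hnS u huS hu1 (mul_inv_eq_iff_eq_mul.1 e.symm)
        have huv1 : u * v ≠ 1 := fun e => huv ((eq_inv_of_mul_eq_one_left e).trans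
          (inv_eq_of_mul_eq_one_right (hsq v hvS)))
        have hcl : ∀ w ∈ (S : Subgroup G), w ≠ 1 → ∀ r ∈ R, Commute r w →
            r ∈ centralizer ((S : Subgroup G) : Set G) := by
          intro w hw hw1 r hr hrw
          obtain ⟨r', hr', hnr⟩ := hu w hw hw1
          exact mem_centralizer_iff.2 fun s hs => ((c.sub X hXtop).commute (mem_sup_right hw)
            (mem_sup_left hr') (fun h => hnr h.symm) (mem_sup_left hr) (mem_sup_right hs) hrw
            (c.ab s hs w hw)).eq.symm
        intro s hs r hr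
        exact (mem_centralizer_iff.1 (four_le (GW.odd_oddCore G) hu1 hv1 huv (hsq u huS) (hsq v hvS)
          (c.ab u huS v hvS) ((normalizer_eq_top_iff.2 (inferInstance : R.Normal)).symm ▸ mem_top _)
          ((normalizer_eq_top_iff.2 (inferInstance : R.Normal)).symm ▸ mem_top _)
          (fun r hr h => hcl u huS hu1 r hr h) (fun r hr h => hcl v hvS hv1 r hr h)
          (fun r hr h => hcl _ (mul_mem huS hvS) huv1 r hr h) hr) s hs).symm
    haveI : (centralizer (R : Set G)).Normal := inferInstance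
    have hC := eq_top_of_sylow_le c.perf S (centralizer (R : Set G))
      fun s hs => mem_centralizer_iff.2 fun r hr => (key s hs r hr).eq
    exact fun r hr => mem_center_iff.2 fun g => (mem_centralizer_iff.1 (hC ▸ mem_top g) r hr).symm
  rcases Cfsg.Agent.S0483.result S 2 le_rfl ⟨e4⟩ with ⟨F, iF, iFf, hodd, h3, ⟨e⟩⟩ | ⟨⟨e⟩⟩
  swap
  · exfalso
    refine h8 (dvd_trans ?_ (Subgroup.card_quotient_dvd_card R))
    have h := two_mul_nat_card_alternatingGroup (α := Fin 7)
    rw [Nat.card_perm, Nat.card_fin, show Nat.factorial 7 = 2 * 2520 by decide] at h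
    have h' : Nat.card (G ⧸ R) = 2520 :=
      Nat.eq_of_mul_eq_mul_left two_pos ((congrArg (2 * ·) (Nat.card_congr e.toEquiv)).trans h)
    rw [h']; norm_num
  set φ := e.toMonoidHom.comp (QuotientGroup.mk' R) with hφ
  have hsur : Function.Surjective φ := e.surjective.comp (QuotientGroup.mk'_surjective R)
  have hker : φ.ker = R := by
    ext g
    rw [hφ, MonoidHom.mem_ker, MonoidHom.comp_apply, MulEquiv.coe_toMonoidHom, MulEquiv.map_eq_one_iff,
      QuotientGroup.mk'_apply, QuotientGroup.eq_one_iff]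
  have h9 : Fintype.card F ≠ 9 := by
    intro h9
    have hc := Classical.card_psl2 (F := F)
    rw [h9] at hc
    rw [show Nat.gcd 2 (9 - 1) = 2 from rfl, show 9 * ((9 - 1) * (9 + 1)) = 2 * 360 from rfl] at hc
    refine h8 (dvd_trans ?_ (Subgroup.card_quotient_dvd_card R))
    have h' : Nat.card (G ⧸ R) = 360 :=
      Nat.eq_of_mul_eq_mul_left two_pos ((congrArg (2 * ·) (Nat.card_congr e.toEquiv)).trans hc)
    rw [h']; norm_num
  have hdvd := kernel_dvd c.perf φ hsur (hker.le.trans hRc) h3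
    (fun h => by rw [h] at hodd; exact absurd hodd (by decide)) h9
  have h1 : Nat.card φ.ker = 1 := Nat.eq_one_of_dvd_coprimes
    (Nat.coprime_two_left.2 (hker ▸ GW.odd_oddCore G)) (hdvd.trans (Nat.gcd_dvd_left _ _)) dvd_rfl
  exact ⟨F, iF, iFf, hodd, h3, h9, ⟨MulEquiv.ofBijective φ
    ⟨(MonoidHom.ker_eq_bot_iff φ).1 ((card_eq_one).1 h1), hsur⟩⟩⟩

/-- The classification with abelian Sylow `2`-subgroup. -/
theorem classify : (∃ (F : Type) (_ : Field F) (_ : Fintype F), Odd (Fintype.card F) ∧ 3 < Fintype.card F ∧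
      Fintype.card F ≠ 9 ∧ Nonempty (G ≃* Matrix.ProjectiveSpecialLinearGroup (Fin 2) F)) ∨
    (∃ (F : Type) (_ : Field F) (_ : Fintype F), CharP F 2 ∧ 4 ≤ Fintype.card F ∧
      Nonempty (G ≃* Matrix.SpecialLinearGroup (Fin 2) F)) := by
  classical
  haveI : Fact (Nat.Prime 2) := ⟨Nat.prime_two⟩
  by_cases hnt : ∃ t : G, orderOf t = 2 ∧ NonabCent t
  · obtain ⟨t, hto, hnt⟩ := hnt
    obtain ⟨P, hP⟩ : ∃ P : Sylow 2 G, zpowers t ≤ P :=
      (IsPGroup.of_card (n := 1) (by rw [Nat.card_zpowers, hto, pow_one])).exists_le_sylow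
    obtain ⟨g, hg⟩ := MulAction.exists_smul_eq G P S
    have htS : g * t * g⁻¹ ∈ (S : Subgroup G) := by
      rw [← hg, Sylow.coe_subgroup_smul]
      exact smul_mem_pointwise_smul t (MulAut.conj g) _ (hP (mem_zpowers t))
    obtain ⟨h4, hsq⟩ := c.card_four htS
      (by rw [show g * t * g⁻¹ * (g * t * g⁻¹) = g * (t * t) * g⁻¹ by group, ← pow_two,
        ← hto, pow_orderOf_eq_one, mul_one, mul_inv_cancel])
      (fun e => by rw [conj_eq_one_iff] at e; rw [e, orderOf_one] at hto; norm_num at hto)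
      (hnt.conj g)
    exact Or.inl (c.type_four h4 hsq)
  · right
    push Not at hnt
    have hd : CfsgLib.AbCent.Data S := ⟨c.not_cyclic,
      fun h => c.normalizer_ne_top (normalizer_eq_top_iff.2 h), fun t ht => ⟨⟨fun a b => Subtype.ext (by
        by_contra hne
        exact hnt t ht ⟨a, b, mem_cent.1 a.2, mem_cent.1 b.2, hne⟩)⟩⟩⟩
    obtain ⟨-, F, iF, iFf, hchar, φ, hφ, hker, hkodd⟩ :=
      CfsgLib.AbCent.target (Nat.card G) G rfl S hd
    obtain ⟨B, iB, iBf, -, ⟨e⟩⟩ := CfsgLib.AbCent.split φ hφ hker hkodd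
    haveI : Group.IsSolvable B := Group.isSolvable_of_comm mul_comm
    have hB : ∀ b : B, b = 1 := fun b => by
      have := DFunLike.congr_fun
        (hom_eq_one c.perf ((MonoidHom.snd _ B).comp e.toMonoidHom)) (e.symm (1, b))
      simpa using this
    let e' : G ≃* Matrix.SpecialLinearGroup (Fin 2) F := e.trans
      { toFun := Prod.fst
        invFun := fun x => (x, 1)
        left_inv := fun x => Prod.ext rfl (hB x.2).symm
        right_inv := fun x => rfl
        map_mul' := fun _ _ => rfl }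
    refine ⟨F, iF, iFf, hchar, ?_, ⟨e'⟩⟩
    by_contra h4
    have h2 : Fintype.card F = 2 := by
      obtain ⟨m, -, hm⟩ := FiniteField.card F 2
      rw [hm] at h4 ⊢
      rcases Nat.lt_or_ge (m : ℕ) 2 with h | h
      · rw [show (m : ℕ) = 1 by have := m.pos; omega, pow_one]
      · exact absurd (Nat.pow_le_pow_right (show 0 < 2 by norm_num) h) h4
    have hbot := eq_top_of_not_four c.perf (⊥ : Subgroup G) (by
      rw [index_bot, Nat.card_congr e'.toEquiv, Classical.card_sl2, h2]; norm_num)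
    obtain ⟨g, hg⟩ := c.nontriv
    exact hg (mem_bot.1 (hbot ▸ mem_top g))

end AbCtx

end CfsgLib.MinNonCA
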