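import Mathlib.FieldTheory.Finite.Basic
import Mathlib.Tactic.LinearCombination
import Mathlib.Tactic.FieldSimp
import Mathlib.LinearAlgebra.Matrix.Notation
import Mathlib.LinearAlgebra.Matrix.Determinant.Basic

/-!
# Small facts on finite fields and `2 × 2` matrices
-/

set_option autoImplicit false
set_option linter.unusedSectionVars false

namespace CfsgLib.MinNonCA

open Matrix

variable {F : Type} [Field F] [Fintype F]

/-- A binary form `s² + b t²` takes every value. -/
theorem exists_rep (h2 : (2 : F) ≠ 0) {b : F} (hb : b ≠ 0) (c : F) : ∃ s t : F, s * s + b * (t * t) = c := by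
  have hodd : Fintype.card F % 2 = 1 := FiniteField.odd_card_of_char_ne_two fun h => h2 (by
    have : ((2 : ℕ) : F) = 0 := h ▸ ringChar.Nat.cast_ringChar
    exact_mod_cast this)
  open Polynomial in
  obtain ⟨s, t, hst⟩ := FiniteField.exists_root_sum_quadratic (f := (X : F[X]) ^ 2)
    (g := C b * X ^ 2 - C c) (degree_X_pow 2)
    (by rw [degree_sub_eq_left_of_degree_lt (by
          rw [degree_C_mul_X_pow 2 hb]; exact lt_of_le_of_lt degree_C_le (by norm_num)),
        degree_C_mul_X_pow 2 hb]; norm_num) hodd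
  refine ⟨s, t, ?_⟩
  simp only [Polynomial.eval_pow, Polynomial.eval_X, Polynomial.eval_sub, Polynomial.eval_mul,
    Polynomial.eval_C] at hst
  linear_combination hst

/-- For a traceless invertible matrix there are anticommuting traceless matrices of every nonzero
determinant. -/
theorem exists_anticomm (h2 : (2 : F) ≠ 0) {g : Matrix (Fin 2) (Fin 2) F} (ht : g 0 0 + g 1 1 = 0)
    (hd : g.det ≠ 0) {δ : F} (hδ : δ ≠ 0) :
    ∃ h : Matrix (Fin 2) (Fin 2) F, h 0 0 + h 1 1 = 0 ∧ h.det = δ ∧ g * h = -(h * g) := by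
  rw [Matrix.det_fin_two] at hd
  have hg11 : g 1 1 = -g 0 0 := by linear_combination ht
  rw [hg11] at hd
  suffices h : ∃ u v w : F, -(u * u) - v * w = δ ∧ 2 * g 0 0 * u + g 0 1 * w + g 1 0 * v = 0 by
    obtain ⟨u, v, w, h1, h2'⟩ := h
    refine ⟨!![u, v; w, -u], by simp, by rw [Matrix.det_fin_two]; simp; linear_combination h1, ?_⟩
    rw [show g = !![g 0 0, g 0 1; g 1 0, -g 0 0] by rw [← hg11]; exact Matrix.eta_fin_two g,
      Matrix.mul_fin_two, Matrix.mul_fin_two]
    ext i j
    fin_cases i <;> fin_cases j <;> simp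
    · linear_combination h2'
    · ring
    · ring
    · linear_combination h2'
  by_cases hb : g 0 1 = 0
  · have ha : g 0 0 ≠ 0 := fun h => hd (by rw [h, hb]; ring)
    refine ⟨-g 1 0 / (2 * g 0 0), 1, -δ - (-g 1 0 / (2 * g 0 0)) * (-g 1 0 / (2 * g 0 0)), by ring, ?_⟩
    rw [hb, mul_div_cancel₀ _ (mul_ne_zero h2 ha)]
    ring
  · set D := g 0 0 * -g 0 0 - g 0 1 * g 1 0 with hD
    obtain ⟨s, v, hsv⟩ := exists_rep h2 (b := D / (g 0 1 * g 0 1)) (div_ne_zero hd (mul_ne_zero hb hb)) (-δ)
    refine ⟨s + g 0 0 * v / g 0 1, v, -(2 * g 0 0 * (s + g 0 0 * v / g 0 1) + g 1 0 * v) / g 0 1, ?_, ?_⟩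
    · rw [hD] at hsv
      field_simp at hsv ⊢
      linear_combination -hsv
    · field_simp
      ring

theorem pow_half_eq (h2 : (2 : F) ≠ 0) {a : F} (ha : a ≠ 0) :
    a ^ (Fintype.card F / 2) = 1 ∨ a ^ (Fintype.card F / 2) = -1 := by
  refine FiniteField.pow_dichotomy (fun h => h2 ?_) ha
  have : ((2 : ℕ) : F) = 0 := h ▸ ringChar.Nat.cast_ringChar
  exact_mod_cast this

theorem isSquare_iff_pow (h2 : (2 : F) ≠ 0) {a : F} (ha : a ≠ 0) :
    IsSquare a ↔ a ^ (Fintype.card F / 2) = 1 := by
  refine FiniteField.isSquare_iff (fun h => h2 ?_) ha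
  have : ((2 : ℕ) : F) = 0 := h ▸ ringChar.Nat.cast_ringChar
  exact_mod_cast this

/-- A fixed point of an involutory automorphism is a square. -/
theorem isSquare_of_fixed (h2 : (2 : F) ≠ 0) (σ : F ≃+* F) (hσ : ∀ a, σ (σ a) = a) {t : F} (ht : σ t ≠ t)
    {c : F} (hc : σ c = c) : IsSquare c := by
  classical
  by_cases hc0 : c = 0
  · exact ⟨0, by rw [hc0, mul_zero]⟩
  let F0 : Subfield F :=
    { carrier := {a | σ a = a}
      mul_mem' := fun {a b} (ha : σ a = a) (hb : σ b = b) => show σ (a * b) = a * b by rw [map_mul, ha, hb]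
      one_mem' := map_one σ
      add_mem' := fun {a b} (ha : σ a = a) (hb : σ b = b) => show σ (a + b) = a + b by rw [map_add, ha, hb]
      zero_mem' := map_zero σ
      neg_mem' := fun {a} (ha : σ a = a) => show σ (-a) = -a by rw [map_neg, ha]
      inv_mem' := fun a (ha : σ a = a) => show σ a⁻¹ = a⁻¹ by rw [map_inv₀, ha] }
  haveI : Fintype F0 := Fintype.ofFinite _
  have hne : t - σ t ≠ 0 := sub_ne_zero.2 (Ne.symm ht)
  let f : F0 × F0 → F := fun p => (p.1 : F) + (p.2 : F) * t
  have hf : Function.Bijective f := by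
    constructor
    · rintro ⟨a, b⟩ ⟨a', b'⟩ (e : (a : F) + b * t = a' + b' * t)
      have e' := congrArg σ e
      simp only [map_add, map_mul] at e'
      rw [show σ (a : F) = a from a.2, show σ (b : F) = b from b.2, show σ (a' : F) = a' from a'.2,
        show σ (b' : F) = b' from b'.2] at e'
      have hb : ((b : F) - b') * (t - σ t) = 0 := by linear_combination e - e'
      have hb' : (b : F) = b' := sub_eq_zero.1 ((mul_eq_zero.1 hb).resolve_right hne)
      refine Prod.ext (Subtype.ext ?_) (Subtype.ext hb')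
      rw [hb'] at e
      exact add_right_cancel e
    · intro a
      have hb : σ ((a - σ a) / (t - σ t)) = (a - σ a) / (t - σ t) := by
        rw [map_div₀, map_sub, map_sub, hσ, hσ, ← neg_div_neg_eq]; ring
      have ha : σ (a - (a - σ a) / (t - σ t) * t) = a - (a - σ a) / (t - σ t) * t := by
        rw [map_sub, map_mul, hb]
        field_simp
        ring
      exact ⟨(⟨_, ha⟩, ⟨_, hb⟩), sub_add_cancel _ _⟩
  have hcard : Fintype.card F = Fintype.card F0 * Fintype.card F0 := by
    rw [← Fintype.card_prod]; exact (Fintype.card_of_bijective hf).symm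
  have hodd : Fintype.card F % 2 = 1 := FiniteField.odd_card_of_char_ne_two fun h => h2 (by
    have : ((2 : ℕ) : F) = 0 := h ▸ ringChar.Nat.cast_ringChar
    exact_mod_cast this)
  rw [isSquare_iff_pow h2 hc0]
  have h1 : c ^ (Fintype.card F0 - 1) = 1 := by
    have := FiniteField.pow_card_sub_one_eq_one (⟨c, hc⟩ : F0) (fun h => hc0 (congrArg Subtype.val h))
    exact congrArg Subtype.val this
  have hdvd : Fintype.card F0 - 1 ∣ Fintype.card F / 2 := by
    have ho : Fintype.card F0 % 2 = 1 := by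
      rw [hcard, Nat.mul_mod] at hodd
      rcases Nat.mod_two_eq_zero_or_one (Fintype.card F0) with h | h
      · rw [h] at hodd; norm_num at hodd
      · exact h
    obtain ⟨j, hj⟩ : ∃ j, Fintype.card F0 = 2 * j + 1 := ⟨Fintype.card F0 / 2, by omega⟩
    rw [hcard, hj, Nat.add_sub_cancel, show (2 * j + 1) * (2 * j + 1) = 2 * (2 * j * (j + 1)) + 1 by ring]
    rw [show (2 * (2 * j * (j + 1)) + 1) / 2 = 2 * j * (j + 1) by omega]
    exact dvd_mul_right _ _
  obtain ⟨m, hm⟩ := hdvd
  rw [hm, pow_mul, h1, one_pow]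

/-- Automorphisms of the field with nine elements are involutory. -/
theorem sigma_sq_of_nine (hq : Fintype.card F = 9) [CharP F 3] (σ : F ≃+* F) (a : F) : σ (σ a) = a := by
  have h9 : a ^ 9 = a := by rw [← hq]; exact FiniteField.pow_card a
  have hfix : ∀ z : F, z ^ 3 = z → σ z = z := by
    intro z hz
    have : z * (z - 1) * (z + 1) = 0 := by linear_combination hz
    rcases mul_eq_zero.1 this with h | h
    · rcases mul_eq_zero.1 h with h | h
      · rw [h, map_zero]
      · rw [sub_eq_zero.1 h, map_one]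
    · rw [eq_neg_of_add_eq_zero_left h, map_neg, map_one]
  haveI : Fact (Nat.Prime 3) := ⟨Nat.prime_three⟩
  have hs : σ (a + a ^ 3) = a + a ^ 3 := hfix _ (by
    rw [add_pow_char, ← pow_mul, h9, add_comm])
  have hp : σ (a * a ^ 3) = a * a ^ 3 := hfix _ (by
    rw [mul_pow, ← pow_mul, h9, mul_comm])
  rw [map_add] at hs
  rw [map_mul] at hp
  have hroot : (σ a - a) * (σ a - a ^ 3) = 0 := by
    linear_combination σ a * hs - hp
  rcases mul_eq_zero.1 hroot with h | h <;> have h' := sub_eq_zero.1 h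
  · rw [h', h']
  · rw [h', map_pow, h', ← pow_mul, h9]

end CfsgLib.MinNonCA
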