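import Cfsg.Agent.Lib.MinNonCA.Outer
import Cfsg.Agent.Lib.MinNonCA.FieldFacts
import Cfsg.Agent.Lib.AutPSL.Outer
import Cfsg.Agent.Lib.AutPSL.Main

/-!
# No element outside a proper perfect normal subgroup has a nonabelian centralizer
-/

set_option autoImplicit false
set_option linter.unusedSectionVars false
set_option linter.style.haveILetI false

namespace CfsgLib.MinNonCA

open Subgroup Matrix CfsgLib.AutPSL

universe u

variable {G : Type u} [Group G] [Finite G]
variable {F : Type} [Field F]

local notation "SL" => Matrix.SpecialLinearGroup (Fin 2) F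
local notation "PSL" => Matrix.ProjectiveSpecialLinearGroup (Fin 2) F
local notation "π" => QuotientGroup.mk' (Subgroup.center (Matrix.SpecialLinearGroup (Fin 2) F))
local notation:max "↟" A:max => ((A : Matrix.SpecialLinearGroup (Fin 2) F) : Matrix (Fin 2) (Fin 2) F)

theorem pi_eq_cases {A B : SL} (h : π A = π B) : ↟B = ↟A ∨ ↟B = -↟A := by
  have hz : A⁻¹ * B ∈ Subgroup.center SL := QuotientGroup.eq.1 h
  have e : ↟B = ↟A * ↟(A⁻¹ * B) := by rw [← sl2_val_mul, mul_inv_cancel_left]
  rcases sl2_center hz with h1 | h1 <;> rw [h1] at e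
  · exact Or.inl (by rw [e, mul_one])
  · exact Or.inr (by rw [e, Matrix.mul_neg, mul_one])

theorem pi_eq_of_neg {A B : SL} (h : ↟B = -↟A) : π A = π B := by
  obtain ⟨Z, hZ, hZv⟩ := neg_one_mem_center (F := F) ⟨⟨-1, by simp [Matrix.det_neg]⟩, rfl⟩
  have : B = A * Z := Subtype.ext (by
    show ↟B = ↟A * ↟Z
    rw [h, hZv, Matrix.mul_neg, mul_one])
  rw [this, map_mul, show π Z = 1 from (QuotientGroup.eq_one_iff Z).2 hZ, mul_one]

theorem pi_ne_one_of_trace (h2 : (2 : F) ≠ 0) {M : SL} (h : (↟M).trace = 0) : π M ≠ 1 := fun e => by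
  rcases sl2_center ((QuotientGroup.eq_one_iff M).1 e) with h1 | h1 <;> rw [h1] at h <;>
    simp [Matrix.trace_fin_two] at h <;> refine h2 ?_ <;> linear_combination h

/-- Unitriangular elements. -/
def uT (t : F) : SL := ⟨!![1, t; 0, 1], by simp [Matrix.det_fin_two]⟩

theorem uT_mul (s t : F) : uT s * uT t = uT (s + t) := Subtype.ext (by
  show (!![1, s; 0, 1] : Matrix (Fin 2) (Fin 2) F) * !![1, t; 0, 1] = !![1, s + t; 0, 1]
  rw [Matrix.mul_fin_two]
  ext i j
  fin_cases i <;> fin_cases j <;> simp [add_comm])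

theorem uT_pow (t : F) (n : ℕ) : uT t ^ n = uT ((n : F) * t) := by
  induction n with
  | zero =>
    refine Subtype.ext ?_
    show (1 : Matrix (Fin 2) (Fin 2) F) = !![1, ((0 : ℕ) : F) * t; 0, 1]
    ext i j
    fin_cases i <;> fin_cases j <;> simp
  | succ n ih => rw [pow_succ, ih, uT_mul]; congr 1; push_cast; ring

theorem pi_uT_pow (p : ℕ) [CharP F p] (t : F) : (π (uT t)) ^ p = 1 := by
  rw [← map_pow, uT_pow, CharP.cast_eq_zero, zero_mul]
  have : (uT (0 : F)) = 1 := Subtype.ext (by
    show !![1, (0 : F); 0, 1] = (1 : Matrix (Fin 2) (Fin 2) F)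
    ext i j
    fin_cases i <;> fin_cases j <;> simp)
  rw [this, map_one]

theorem pi_uT_inj {s t : F} (h : π (uT s) = π (uT t)) : s = t := by
  rcases pi_eq_cases h with e | e
  · have := congrFun₂ e 0 1
    simpa [uT] using this.symm
  · have e0 := congrFun₂ e 0 0
    have e1 := congrFun₂ e 0 1
    simp [uT] at e0 e1
    rw [e1]
    linear_combination s * e0

theorem slField_uT (σ : RingAut F) (t : F) : slField σ (uT t) = uT (σ t) := Subtype.ext (by
  rw [slField_val]
  ext i j
  fin_cases i <;> fin_cases j <;> simp [uT])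

theorem sq_of_traceless {h : Matrix (Fin 2) (Fin 2) F} (ht : h 0 0 + h 1 1 = 0) : h * h = (-h.det) • 1 := by
  rw [Matrix.det_fin_two]
  ext i j
  fin_cases i <;> fin_cases j <;> simp [Matrix.mul_apply, Fin.sum_univ_two]
  · linear_combination h 0 0 * ht
  · linear_combination h 0 1 * ht
  · linear_combination h 1 0 * ht
  · linear_combination h 1 1 * ht

namespace OuterCtx

variable [Fintype F] {K : Subgroup G} (c : OuterCtx K) {φ : K →* Matrix.ProjectiveSpecialLinearGroup (Fin 2) F}
  (hsur : Function.Surjective φ) (hker : φ.ker = center K)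
include c hsur hker

theorem phi_center {z : K} (h : φ z = 1) : (z : G) ∈ center G :=
  c.centralK (hker ▸ MonoidHom.mem_ker.2 h)

theorem not_center {k : K} (h : φ k ≠ 1) : k ∉ center K := fun hk => h (MonoidHom.mem_ker.1 (hker ▸ hk))

theorem exists_aut (y : G) : ∃ β : MulAut PSL, ∀ k, β (φ k) = φ (c.cj y k) := by
  have hle : φ.ker ≤ (φ.comp (c.cj y)).ker := fun z hz => by
    have hzG := c.centralK (hker ▸ hz)
    rw [MonoidHom.mem_ker, MonoidHom.comp_apply,
      show c.cj y z = z from Subtype.ext (by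
        rw [cj_val, (commute_of_center hzG y).eq.symm, mul_inv_cancel_right])]
    exact hz
  let f : PSL →* PSL := φ.liftOfSurjective hsur ⟨φ.comp (c.cj y), hle⟩
  have hf : ∀ k, f (φ k) = φ (c.cj y k) := fun k =>
    MonoidHom.liftOfRightInverse_comp_apply φ _ _ ⟨φ.comp (c.cj y), hle⟩ k
  have hs : Function.Surjective f := fun q => by
    obtain ⟨k, rfl⟩ := hsur q
    refine ⟨φ (c.cj y⁻¹ k), ?_⟩
    rw [hf, ← cj_mul, mul_inv_cancel, cj_one]
  exact ⟨MulEquiv.ofBijective f ⟨Finite.injective_iff_surjective.2 hs, hs⟩, hf⟩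

theorem trivial_of_act {y : G} (h : ∀ k, φ (c.cj y k) = φ k) : y ∈ center G :=
  c.trivial_action fun k => by rw [← hker, MonoidHom.mem_ker, map_mul, map_inv, h, mul_inv_cancel]

theorem aut_pow {y : G} {β : MulAut PSL} (h : ∀ k, β (φ k) = φ (c.cj y k)) :
    ∀ (n : ℕ) k, (β ^ n) (φ k) = φ (c.cj (y ^ n) k)
  | 0, k => by rw [pow_zero, pow_zero, cj_one]; rfl
  | n + 1, k => by rw [pow_succ, pow_succ, MulAut.mul_apply, h, aut_pow h n, cj_mul]

/-- An element fixing a class modulo the centre moves it by an element of exponent `p`. -/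
theorem exact_step {y : G} {k : K} {p : ℕ} (hk : φ k ^ p = 1) (h : φ (c.cj y k) = φ k) :
    ∃ z : K, z ∈ center K ∧ c.cj y k = z * k ∧ z ^ p = 1 := by
  have hz : c.cj y k * k⁻¹ ∈ center K := by
    rw [← hker, MonoidHom.mem_ker, map_mul, map_inv, h, mul_inv_cancel]
  refine ⟨c.cj y k * k⁻¹, hz, by group, ?_⟩
  have h1 : c.cj y (k ^ p) = k ^ p := Subtype.ext (by
    have := c.phi_center hsur hker (z := k ^ p) (by rw [map_pow, hk])
    rw [cj_val, (commute_of_center this y).eq.symm, mul_inv_cancel_right])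
  have h2 : (c.cj y k * k⁻¹ * k) ^ p = k ^ p := by rw [inv_mul_cancel_right, ← map_pow, h1]
  rw [(commute_of_center hz k).mul_pow] at h2
  exact mul_eq_right.1 h2

theorem commute_of_coprime {y : G} {k : K} {p : ℕ} (hp : p.Prime) (hZ : ¬ p ∣ Nat.card (center K))
    (hk : φ k ^ p = 1) (h : φ (c.cj y k) = φ k) : Commute y (k : G) := by
  obtain ⟨z, hz, e, hzp⟩ := c.exact_step hsur hker hk h
  have hz1 : z = 1 := by
    refine orderOf_eq_one_iff.1 (Nat.eq_one_of_dvd_coprimes ((hp.coprime_iff_not_dvd).2 hZ)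
      (orderOf_dvd_of_pow_eq_one hzp) (Subgroup.orderOf_dvd_natCard _ hz))
  rw [hz1, one_mul] at e
  exact mul_inv_eq_iff_eq_mul.1 (congrArg Subtype.val e)

/-- No element acts as a nontrivial field automorphism. -/
theorem no_field (p : ℕ) [Fact p.Prime] [CharP F p]
    (hZ : ¬ p ∣ Nat.card (center K) ∨ Fintype.card F = 9) (hodd : Fintype.card F = 9 → (2 : F) ≠ 0)
    {y : G} {σ : RingAut F} (hy : ∀ k S, φ k = π S → φ (c.cj y k) = π (slField σ S))
    {t : F} (ht : σ t ≠ t) : False := by
  have hsl := fun (S : SL) => hsur (π S)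
  by_cases hp : ¬ p ∣ Nat.card (center K)
  · obtain ⟨u, hu⟩ := hsl (uT 1)
    obtain ⟨k, hk⟩ := hsl (uT t)
    have hu1 : φ u ^ p = 1 := by rw [hu]; exact pi_uT_pow p 1
    have hunc : u ∉ center K := c.not_center hsur hker (by
      rw [hu]
      intro e
      refine one_ne_zero (pi_uT_inj (F := F) (s := 1) (t := 0) (e.trans ?_))
      have := pi_uT_pow (F := F) p 0
      rw [← map_pow, uT_pow, mul_zero] at this
      exact this.symm)
    have h1 : Commute y (u : G) := c.commute_of_coprime hsur hker Fact.out hp hu1 (by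
      rw [hy u _ hu, slField_uT, map_one, hu])
    have h2 : Commute (k : G) (u : G) := c.commute_of_coprime hsur hker Fact.out hp hu1 (by
      rw [show c.cj (k : G) u = k * u * k⁻¹ from rfl, map_mul, map_mul, map_inv, hk, hu, ← map_mul,
        uT_mul, add_comm, ← uT_mul, map_mul, mul_inv_cancel_right])
    have h3 := c.commute_of_mem hunc h1 h2
    refine ht (pi_uT_inj ?_)
    rw [← slField_uT, ← hy k _ hk, ← hk]
    exact congrArg φ (Subtype.ext (by rw [cj_val, h3.eq, mul_inv_cancel_right]))
  · have h9 := hZ.resolve_left hp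
    have h2 := hodd h9
    obtain ⟨n, hpp, hn⟩ := FiniteField.card F p
    have hp3 : p = 3 := (Nat.prime_dvd_prime_iff_eq hpp Nat.prime_three).1 (hpp.dvd_of_dvd_pow
      (show p ∣ 3 ^ 2 by rw [show 3 ^ 2 = 9 from rfl, ← h9, hn]; exact dvd_pow_self p n.ne_zero))
    subst hp3
    have hσ := sigma_sq_of_nine h9 σ
    set i := t - σ t with hi
    have hi0 : i ≠ 0 := sub_ne_zero.2 (Ne.symm ht)
    have hsi : σ i = -i := by rw [hi, map_sub, hσ]; ring
    have hy2 : y * y ∈ center G := c.trivial_of_act hsur hker fun k => by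
      obtain ⟨S, hS⟩ := QuotientGroup.mk'_surjective (Subgroup.center SL) (φ k)
      rw [cj_mul, hy _ _ (hy k S hS.symm), ← hS]
      congr 1
      refine Subtype.ext ?_
      ext a b
      simp [slField_val, hσ]
    obtain ⟨k, hk⟩ := hsl (uT (1 + i))
    set k' := c.cj y k with hk'
    have hk'v : φ k' = π (uT (1 - i)) := by rw [hk', hy k _ hk, slField_uT, map_add, map_one, hsi, ← sub_eq_add_neg]
    have hyk' : c.cj y k' = k := by
      rw [hk', ← cj_mul]
      exact Subtype.ext (by rw [cj_val, (commute_of_center hy2 (k : G)).eq, mul_inv_cancel_right])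
    set R := k' * k with hR
    have hRv : φ R = π (uT 2) := by
      rw [hR, map_mul, hk'v, hk, ← map_mul, uT_mul, show (1 - i) + (1 + i) = (2 : F) by ring]
    obtain ⟨z, hz, e, hz3⟩ := c.exact_step hsur hker (y := y) (k := R) (p := 3)
      (by rw [hRv]; exact pi_uT_pow 3 2) (by rw [hy R _ hRv, slField_uT, map_ofNat, hRv])
    have hz2 : z * z = 1 := by
      have e1 : c.cj y (c.cj y R) = R := by
        rw [← cj_mul]
        exact Subtype.ext (by rw [cj_val, (commute_of_center hy2 (R : G)).eq, mul_inv_cancel_right])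
      rw [e, map_mul, e, show c.cj y z = z from Subtype.ext (by
        rw [cj_val, (commute_of_center (c.centralK hz) y).eq.symm, mul_inv_cancel_right]), ← mul_assoc] at e1
      exact mul_eq_right.1 e1
    have hz1 : z = 1 := by rwa [pow_three, hz2, mul_one] at hz3
    rw [hz1, one_mul] at e
    have hkk : k * k' = k' * k := by
      have e1 := e
      rw [hR, map_mul, hyk', ← hk'] at e1
      exact e1
    have hRnc : R ∉ center K := c.not_center hsur hker (by
      rw [hRv]
      intro e1
      refine h2 (pi_uT_inj (F := F) (s := 2) (t := 0) (e1.trans ?_))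
      have := pi_uT_pow (F := F) 3 0
      rw [← map_pow, uT_pow, mul_zero] at this
      exact this.symm)
    have hyR : Commute y (R : G) := mul_inv_eq_iff_eq_mul.1 (congrArg Subtype.val e)
    have hkR : Commute (k : G) (R : G) := by
      refine congrArg Subtype.val (show k * R = R * k from ?_)
      rw [hR, ← mul_assoc, hkk]
    have h3 := c.commute_of_mem hRnc hyR hkR
    have : k' = k := Subtype.ext (by rw [hk', cj_val, h3.eq, mul_inv_cancel_right])
    rw [this, hk] at hk'v
    refine hi0 ((mul_eq_zero.1 (show (2 : F) * i = 0 from ?_)).resolve_left h2)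
    linear_combination pi_uT_inj hk'v

theorem shift_commute {x : G} (hx : x ∉ center G) (hn : NonabCent x) {k : K}
    (h : φ (c.cj x k) = φ k) : Commute x (k : G) := by
  refine (c.shift_exact hx hn ?_).symm
  have hz : k * (c.cj x k)⁻¹ ∈ center K := by
    rw [← hker, MonoidHom.mem_ker, map_mul, map_inv, h, mul_inv_cancel]
  have := c.centralK hz
  rwa [Subgroup.coe_mul, Subgroup.coe_inv, cj_val,
    show (k : G) * (x * k * x⁻¹)⁻¹ = k * x * (k : G)⁻¹ * x⁻¹ by group] at this

/-- An involution acting as an outer diagonal automorphism has no nonabelian centralizer. -/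
theorem no_diag (h2 : (2 : F) ≠ 0) {x : G} (hx : x ∉ center G) (hn : NonabCent x) (hx2 : x * x ∈ center G)
    {g : GL (Fin 2) F} (hg : ∀ k S, φ k = π S → φ (c.cj x k) = π (slConj g S))
    (ht : g.1 0 0 + g.1 1 1 = 0) (hns : ¬ IsSquare g.1.det) : False := by
  classical
  have hd : g.1.det ≠ 0 := fun h => hns ⟨0, by rw [h, mul_zero]⟩
  have hg2 : g.1 * g.1 = (-g.1.det) • 1 := sq_of_traceless ht
  have hact : ∀ {k : K} {S S' : SL}, φ k = π S → g.1 * ↟S = ↟S' * g.1 → φ (c.cj x k) = π S' := by
    intro k S S' hk h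
    rw [hg k S hk]
    refine congrArg _ (Subtype.ext ?_)
    rw [slConj_val, h, mul_assoc, Units.mul_inv, mul_one]
  have hsl := fun (S : SL) => hsur (π S)
  have hneg : ∀ {A B : Matrix (Fin 2) (Fin 2) F}, g.1 * A = g.1 * B → A = B := fun {A B} h => by
    have := congrArg ((g⁻¹).1 * ·) h
    simpa [← mul_assoc] using this
  by_cases hs2 : IsSquare (2 : F)
  · obtain ⟨b, hb⟩ := hs2
    have hb0 : b ≠ 0 := fun h => h2 (by rw [hb, h, mul_zero])
    set a := b⁻¹ with ha
    have ha2 : 2 * (a * a) = 1 := by rw [hb, ha]; field_simp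
    obtain ⟨h, htr, hdet, hanti⟩ := exists_anticomm h2 ht hd (one_ne_zero (α := F))
    have hh : h * h = (-1 : F) • 1 := by rw [sq_of_traceless htr, hdet]
    let s : SL := ⟨a • (1 + h), by
      rw [Matrix.det_fin_two] at hdet
      simp [Matrix.det_fin_two]
      linear_combination (a * a) * hdet + (a * a) * htr + ha2⟩
    let hS : SL := ⟨h, hdet⟩
    have hss : s * s = hS := Subtype.ext (by
      show (a • (1 + h)) * (a • (1 + h)) = h
      rw [smul_mul_smul_comm, show (1 + h) * (1 + h) = 1 + h * h + (2 : F) • h by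
        rw [two_smul]; noncomm_ring, hh]
      rw [show (1 : Matrix (Fin 2) (Fin 2) F) + (-1 : F) • 1 = 0 by rw [neg_smul, one_smul, add_neg_cancel],
        zero_add, smul_smul, mul_comm, ha2, one_smul])
    obtain ⟨k, hk⟩ := hsl s
    have hr : φ (k * k) = π hS := by rw [map_mul, hk, ← map_mul, hss]
    have hxr : φ (c.cj x (k * k)) = φ (k * k) := by
      obtain ⟨Z, hZ, hZv⟩ := neg_one_mem_center (F := F) ⟨⟨-1, by simp [Matrix.det_neg]⟩, rfl⟩
      rw [hact hr (S' := hS * Z) (by
        show g.1 * h = (h * ↟Z) * g.1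
        rw [hZv, Matrix.mul_neg, mul_one, Matrix.neg_mul, hanti]), hr, map_mul,
        show π Z = 1 from (QuotientGroup.eq_one_iff Z).2 hZ, mul_one]
    have hxk := c.shift_commute hsur hker hx hn hxr
    have hnc : k * k ∉ center K := c.not_center hsur hker (by
      rw [hr]; exact pi_ne_one_of_trace h2 (by rw [Matrix.trace_fin_two]; exact htr))
    have h3 : Commute x (k : G) := c.commute_of_mem hnc hxk
      (show Commute (k : G) ((k * k : K) : G) from (Commute.refl (k : G)).mul_right (Commute.refl (k : G)))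
    have h4 : φ (c.cj x k) = φ k := congrArg φ (Subtype.ext (by rw [cj_val, h3.eq, mul_inv_cancel_right]))
    rw [hg k s hk, hk] at h4
    have hh0 : h ≠ 0 := fun e => by rw [e] at hdet; simp at hdet
    have ha0 : a ≠ 0 := inv_ne_zero hb0
    have hgs : g.1 * ↟s * (g⁻¹).1 * g.1 = g.1 * ↟s := by rw [mul_assoc, Units.inv_mul, mul_one]
    rcases pi_eq_cases h4 with e | e <;> rw [slConj_val] at e
    · rw [← e] at hgs
      have : g.1 * ((2 : F) • (a • h)) = g.1 * 0 := by
        rw [Matrix.mul_zero, two_smul, Matrix.mul_add]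
        have e1 : (a • (1 + h)) * g.1 = g.1 * (a • (1 + h)) := hgs
        rw [smul_mul_assoc, mul_smul_comm, add_mul, mul_add, one_mul, mul_one] at e1
        rw [mul_smul_comm]
        have e2 : h * g.1 = g.1 * h := by
          have := congrArg (a⁻¹ • ·) e1
          simpa [smul_smul, inv_mul_cancel₀ ha0] using this
        have e3 : g.1 * h + g.1 * h = 0 := by nth_rw 1 [hanti]; rw [e2, neg_add_cancel]
        rw [← smul_add, e3, smul_zero]
      have := hneg this
      simp [smul_smul, mul_ne_zero h2 ha0] at this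
      exact hh0 this
    · have : g.1 * ↟s = -(↟s * g.1) := by
        have h5 := hgs
        rw [show g.1 * ↟s * (g⁻¹).1 = -↟s from (neg_eq_iff_eq_neg.2 e).symm, Matrix.neg_mul] at h5
        exact h5.symm
      have e1 : g.1 * (a • (1 + h)) = -((a • (1 + h)) * g.1) := this
      rw [smul_mul_assoc, mul_smul_comm, add_mul, mul_add, one_mul, mul_one, ← smul_neg, neg_add, ← hanti] at e1
      have e2 := congrArg (a⁻¹ • ·) e1
      simp only [smul_smul, inv_mul_cancel₀ ha0, one_smul] at e2
      have e3 : (2 : F) • g.1 = 0 := by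
        rw [two_smul]
        have := add_right_cancel e2
        nth_rw 1 [this]; rw [neg_add_cancel]
      rw [smul_eq_zero] at e3
      rcases e3 with e3 | e3
      · exact h2 e3
      · rw [e3] at hd; simp at hd
  · set D := g.1.det with hD
    have hsq : IsSquare (1 / (2 * D)) := by
      have h2D : IsSquare (2 * D) := by
        rw [isSquare_iff_pow h2 (mul_ne_zero h2 hd), mul_pow,
          (pow_half_eq h2 h2).resolve_left (fun e => hs2 ((isSquare_iff_pow h2 h2).2 e)),
          (pow_half_eq h2 hd).resolve_left (fun e => hns ((isSquare_iff_pow h2 hd).2 e))]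
        norm_num
      obtain ⟨w, hw⟩ := h2D
      exact ⟨1 / w, by rw [hw]; simp⟩
    obtain ⟨l, hl⟩ := hsq
    have hl' : 2 * D * (l * l) = 1 := by rw [← hl, mul_one_div, div_self (mul_ne_zero h2 hd)]
    have hl0 : l ≠ 0 := fun h => by rw [h] at hl'; simp at hl'
    obtain ⟨h, htr, hdet, hanti⟩ := exists_anticomm h2 ht hd (δ := 1 / 2) (one_div_ne_zero h2)
    have h00 := congrFun₂ hanti 0 0
    simp [Matrix.mul_apply, Fin.sum_univ_two] at h00
    have hg11 : g.1 1 1 = -g.1 0 0 := by linear_combination ht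
    have hh11 : h 1 1 = -h 0 0 := by linear_combination htr
    have hcross : 2 * g.1 0 0 * h 0 0 + g.1 0 1 * h 1 0 + g.1 1 0 * h 0 1 = 0 := by
      linear_combination h00
    have hdet' := hdet
    rw [Matrix.det_fin_two, hh11] at hdet'
    have hD' : g.1 0 0 * g.1 1 1 - g.1 0 1 * g.1 1 0 = D := by rw [hD, Matrix.det_fin_two]
    rw [hg11] at hD'
    have hhalf : (2 : F) * (1 / 2) = 1 := by field_simp
    have hdet_pm : ∀ e : F, e * e = 1 → (l • g.1 + e • h).det = 1 := by
      intro e he
      simp [Matrix.det_fin_two, hg11, hh11]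
      refine mul_left_cancel₀ h2 ?_
      linear_combination (2 * (l * l)) * hD' + (2 * e * e) * hdet' - (2 * l * e) * hcross + hl' + hhalf +
        (2 * (1 / 2)) * he
    let s : SL := ⟨l • g.1 + (1 : F) • h, hdet_pm 1 (one_mul 1)⟩
    let s' : SL := ⟨l • g.1 + (-1 : F) • h, hdet_pm (-1) (by norm_num)⟩
    have e1 : g.1 * ↟s = ↟s' * g.1 := by
      show g.1 * (l • g.1 + (1 : F) • h) = (l • g.1 + (-1 : F) • h) * g.1
      rw [one_smul, neg_smul, one_smul, mul_add, add_mul, mul_smul_comm, smul_mul_assoc, Matrix.neg_mul, ← hanti]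
    have e2 : g.1 * ↟s' = ↟s * g.1 := by
      show g.1 * (l • g.1 + (-1 : F) • h) = (l • g.1 + (1 : F) • h) * g.1
      rw [one_smul, neg_smul, one_smul, mul_add, add_mul, mul_smul_comm, smul_mul_assoc, Matrix.mul_neg, hanti,
        neg_neg]
    have hcomm : ↟s' * ↟s = -(↟s * ↟s') := by
      have hb : h * h = (-(1 / 2) : F) • 1 := by rw [sq_of_traceless htr, hdet]
      have hsum : (l * l) • (g.1 * g.1) - h * h = 0 := by
        rw [hg2, hb, smul_smul, ← sub_smul,
          show l * l * -D - -(1 / 2) = 0 from mul_left_cancel₀ h2 (by linear_combination -hl' + hhalf),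
          zero_smul]
      show (l • g.1 + (-1 : F) • h) * (l • g.1 + (1 : F) • h) =
        -((l • g.1 + (1 : F) • h) * (l • g.1 + (-1 : F) • h))
      simp only [one_smul, neg_one_smul, neg_smul, smul_add, smul_neg, neg_add, neg_neg, add_mul, mul_add, Matrix.neg_mul, Matrix.mul_neg, smul_mul_assoc,
        mul_smul_comm, smul_smul]
      linear_combination (norm := abel) (2 : ℤ) • hsum
    obtain ⟨k, hk⟩ := hsl s
    set k' := c.cj x k with hk'
    have hk'v : φ k' = π s' := hact hk e1
    have hk'2 : c.cj x k' = k := by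
      rw [hk', ← cj_mul]
      exact Subtype.ext (by rw [cj_val, (commute_of_center hx2 (k : G)).eq, mul_inv_cancel_right])
    set R := k' * k with hR
    have hpc : π s' * π s = π s * π s' := by
      rw [← map_mul, ← map_mul]
      exact (pi_eq_of_neg (A := s * s') (B := s' * s) (by rw [sl2_val_mul, sl2_val_mul, hcomm])).symm
    have hxR : φ (c.cj x R) = φ R := by
      rw [hR, map_mul, map_mul, map_mul, hk'2, ← hk', hk'v, hk, hpc]
    have hxRc := c.shift_commute hsur hker hx hn hxR
    have hRnc : R ∉ center K := c.not_center hsur hker (by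
      rw [hR, map_mul, hk'v, hk, ← map_mul]
      refine pi_ne_one_of_trace h2 ?_
      have e3 := congrArg Matrix.trace hcomm
      rw [Matrix.trace_neg, Matrix.trace_mul_comm] at e3
      rw [sl2_val_mul, Matrix.trace_mul_comm]
      exact (mul_eq_zero.1 (show (2 : F) * (↟s * ↟s').trace = 0 by linear_combination e3)).resolve_left h2)
    have hkk : k * k' = k' * k := by
      have e3 : c.cj x R = R := Subtype.ext (by rw [cj_val, hxRc.eq, mul_inv_cancel_right])
      rw [hR, map_mul, hk'2, ← hk'] at e3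
      exact e3
    have hkR : Commute (k : G) (R : G) := by
      refine congrArg Subtype.val (show k * R = R * k from ?_)
      rw [hR, ← mul_assoc, hkk]
    have h3 := c.commute_of_mem hRnc hxRc hkR
    have h4 : k' = k := Subtype.ext (by rw [hk', cj_val, h3.eq, mul_inv_cancel_right])
    rw [h4, hk] at hk'v
    rcases pi_eq_cases hk'v with e | e
    · have e3 : l • g.1 + (-1 : F) • h = l • g.1 + (1 : F) • h := e
      have e4 : (2 : F) • h = 0 := by
        rw [two_smul]
        have := add_left_cancel e3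
        rw [neg_smul, one_smul] at this
        nth_rw 1 [← this]; rw [neg_add_cancel]
      rw [smul_eq_zero] at e4
      rcases e4 with e4 | e4
      · exact h2 e4
      · have h5 := hdet.symm; rw [e4, Matrix.det_fin_two] at h5; exact one_div_ne_zero h2 (by simpa using h5)
    · have e3 : l • g.1 + (-1 : F) • h = -(l • g.1 + (1 : F) • h) := e
      rw [neg_add, neg_smul, one_smul] at e3
      have e4 : ((2 : F) * l) • g.1 = 0 := by
        rw [mul_smul, two_smul]
        have := add_right_cancel e3
        nth_rw 1 [this]; rw [neg_add_cancel]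
      rw [smul_eq_zero] at e4
      rcases e4 with e4 | e4
      · exact mul_ne_zero h2 hl0 e4
      · refine hd ?_
        rw [hD, e4, Matrix.det_fin_two]
        simp

theorem no_outer (p : ℕ) [Fact p.Prime] [CharP F p]
    (hZ : ¬ p ∣ Nat.card (center K) ∨ Fintype.card F = 9)
    {x : G} {r : ℕ} (hr : r.Prime) (hxr : x ^ r ∈ center G) (hxN : x ∉ K ⊔ center G) (hn : NonabCent x) :
    False := by
  classical
  have hxc : x ∉ center G := fun h => hxN (mem_sup_right h)
  obtain ⟨β, hβ⟩ := c.exists_aut hsur hker x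
  obtain ⟨g, σ, hgσ⟩ := aut_classify (n := 2) le_rfl β
  have hβg : β = ind g σ := hgσ.resolve_right fun h => by have := h.1; omega
  have hact : ∀ k S, φ k = π S → φ (c.cj x k) = π (slConj g (slField σ S)) := fun k S h => by
    rw [← hβ k, hβg, h]; rfl
  have hodd9 : Fintype.card F = 9 → (2 : F) ≠ 0 := fun h =>
    Classical.two_ne_zero_of_odd_card (by rw [h]; decide)
  -- the square case
  have hsquare : ¬ IsSquare g.1.det := by
    rintro ⟨s, hs⟩
    have hd : g.1.det ≠ 0 := (Matrix.GeneralLinearGroup.det g).ne_zero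
    let h : SL := ⟨s • (g⁻¹).1, by
      have e : (g⁻¹).1.det * g.1.det = 1 := by rw [← Matrix.det_mul, Units.inv_mul, Matrix.det_one]
      rw [Matrix.det_smul, Fintype.card_fin, pow_two, ← hs, mul_comm, e]⟩
    obtain ⟨m, hm⟩ := hsur (π h)
    have hact1 : ∀ k S, φ k = π S → φ (c.cj ((m : G) * x) k) = π (slField σ S) := by
      intro k S hk
      rw [cj_mul, show c.cj (m : G) (c.cj x k) = m * c.cj x k * m⁻¹ from rfl, map_mul, map_mul, map_inv,
        hm, hact k S hk, ← map_inv, ← map_mul, ← map_mul]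
      congr 1
      rw [mul_inv_eq_iff_eq_mul]
      refine Subtype.ext ?_
      show (s • (g⁻¹).1) * (g.1 * ↟(slField σ S) * (g⁻¹).1) = ↟(slField σ S) * (s • (g⁻¹).1)
      rw [smul_mul_assoc, mul_smul_comm, mul_assoc g.1, ← mul_assoc (g⁻¹).1, Units.inv_mul, one_mul]
    by_cases hσ : ∀ t, σ t = t
    · refine hxN ?_
      have := c.trivial_of_act hsur hker (y := (m : G) * x) fun k => by
        obtain ⟨S, hS⟩ := QuotientGroup.mk'_surjective (Subgroup.center SL) (φ k)
        rw [hact1 k S hS.symm, ← hS]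
        congr 1
        refine Subtype.ext ?_
        ext a b
        simp [slField_val, hσ]
      rw [show x = (m : G)⁻¹ * ((m : G) * x) by group]
      exact mul_mem (mem_sup_left (inv_mem m.2)) (mem_sup_right this)
    · push Not at hσ
      obtain ⟨t, ht⟩ := hσ
      exact c.no_field hsur hker p hZ hodd9 hact1 ht
  have h2 : (2 : F) ≠ 0 := fun h => hsquare (FiniteField.isSquare_of_char_two (by
    exact CharP.ringChar_of_prime_eq_zero Nat.prime_two (by exact_mod_cast h)) _)
  have hd : g.1.det ≠ 0 := (Matrix.GeneralLinearGroup.det g).ne_zero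
  have hDe : g.1.det ^ (Fintype.card F / 2) = -1 :=
    (pow_half_eq h2 hd).resolve_left fun e => hsquare ((isSquare_iff_pow h2 hd).2 e)
  -- powers of the action
  have hpow : ∀ n : ℕ, ∃ N : GL (Fin 2) F, (ind g σ) ^ n = ind N (σ ^ n) ∧
      N.1.det ^ (Fintype.card F / 2) = (-1) ^ n := by
    intro n
    induction n with
    | zero => exact ⟨1, by rw [pow_zero, pow_zero, ind_one], by simp⟩
    | succ n ih =>
      obtain ⟨N, hN, hNd⟩ := ih
      refine ⟨N * glField (σ ^ n) g, by rw [pow_succ, hN, ind_mul, pow_succ σ], ?_⟩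
      have e : (glField (σ ^ n) g).1.det = (σ ^ n) g.1.det := by
        rw [glField_val]; exact (RingHom.map_det (σ ^ n).toRingHom g.1).symm
      rw [Units.val_mul, Matrix.det_mul, mul_pow, hNd, e, ← map_pow, hDe, map_neg, map_one, pow_succ]
  have htriv : ∀ n, x ^ n ∈ center G → ind g σ ^ n = 1 := by
    intro n hn'
    refine MulEquiv.ext fun q => ?_
    obtain ⟨k, rfl⟩ := hsur q
    rw [← hβg, c.aut_pow hsur hker hβ n k, MulAut.one_apply]
    exact congrArg φ (Subtype.ext (by
      rw [cj_val, (commute_of_center hn' (k : G)).eq, mul_inv_cancel_right]))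
  have hr2 : r = 2 := by
    rcases hr.eq_two_or_odd' with h | h
    · exact h
    exfalso
    obtain ⟨N, hN, hNd⟩ := hpow r
    rw [htriv r hxr] at hN
    obtain ⟨-, a, ha, hNa⟩ := eq_one_of_ind_eq_one le_rfl hN.symm
    rw [hNa, Matrix.det_smul, Matrix.det_one, mul_one, Fintype.card_fin, h.neg_one_pow] at hNd
    have : IsSquare (a ^ 2) := ⟨a, pow_two a⟩
    rw [isSquare_iff_pow h2 (pow_ne_zero 2 ha), hNd] at this
    exact h2 (by linear_combination -this)
  subst hr2
  have h2' := htriv 2 hxr
  rw [pow_two, ind_mul] at h2'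
  obtain ⟨hσσ, a, ha, hga⟩ := eq_one_of_ind_eq_one le_rfl h2'
  rw [Units.val_mul, glField_val] at hga
  have hσ2 : ∀ t, σ (σ t) = t := fun t => RingEquiv.congr_fun hσσ t
  by_cases hσ : ∀ t, σ t = t
  · have hg1 : g.1 * g.1 = a • 1 := by
      rw [← hga]; congr 1; ext i j; rw [Matrix.map_apply, hσ]
    have ht : g.1 0 0 + g.1 1 1 = 0 := by
      by_contra hne
      have e01 := congrFun₂ hg1 0 1
      have e10 := congrFun₂ hg1 1 0
      have e00 := congrFun₂ hg1 0 0
      have e11 := congrFun₂ hg1 1 1
      simp [Matrix.mul_apply, Fin.sum_univ_two] at e01 e10 e00 e11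
      have z01 : g.1 0 1 = 0 := (mul_eq_zero.1
        (show (g.1 0 0 + g.1 1 1) * g.1 0 1 = 0 by linear_combination e01)).resolve_left hne
      have z10 : g.1 1 0 = 0 := (mul_eq_zero.1
        (show (g.1 0 0 + g.1 1 1) * g.1 1 0 = 0 by linear_combination e10)).resolve_left hne
      have zd : g.1 0 0 = g.1 1 1 := sub_eq_zero.1 ((mul_eq_zero.1
        (show (g.1 0 0 + g.1 1 1) * (g.1 0 0 - g.1 1 1) = 0 by linear_combination e00 - e11)).resolve_left hne)
      exact hsquare ⟨g.1 0 0, by rw [Matrix.det_fin_two, z01, ← zd]; ring⟩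
    refine c.no_diag hsur hker h2 hxc hn (by rwa [← pow_two]) (g := g) (fun k S h => ?_) ht hsquare
    rw [hact k S h]
    congr 1
    have : slField σ S = S := Subtype.ext (by
      rw [slField_val]; ext i j; rw [Matrix.map_apply, hσ])
    rw [this]
  · push Not at hσ
    obtain ⟨t, ht⟩ := hσ
    have hsa : σ a = a := by
      have e1 := congrArg (fun M : Matrix (Fin 2) (Fin 2) F => M.map σ) hga
      change (g.1 * g.1.map σ).map σ = (a • (1 : Matrix (Fin 2) (Fin 2) F)).map σ at e1
      rw [show (g.1 * g.1.map σ).map σ = g.1.map σ * (g.1.map σ).map σ from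
          Matrix.map_mul (f := σ.toRingHom),
        show (g.1.map σ).map σ = g.1 by ext i j; simp [hσ2]] at e1
      have e2 : g.1.map σ = a • (g⁻¹).1 := by
        have := congrArg ((g⁻¹).1 * ·) hga
        simpa [← mul_assoc] using this
      rw [e2, smul_mul_assoc, Units.inv_mul] at e1
      have := congrFun₂ e1 0 0
      simpa using this.symm
    have hD : g.1.det * σ g.1.det = a * a := by
      have := congrArg Matrix.det hga
      rwa [Matrix.det_mul, show (g.1.map σ).det = σ g.1.det from (RingHom.map_det σ.toRingHom g.1).symm,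
        Matrix.det_smul, Matrix.det_one, mul_one, Fintype.card_fin, pow_two] at this
    set w := g.1.det / a with hw
    have hww : w * σ w = 1 := by
      rw [hw, map_div₀, hsa, div_mul_div_comm, hD, div_self (mul_ne_zero ha ha)]
    by_cases hv : 1 + w = 0
    · refine hsquare (isSquare_of_fixed h2 σ hσ2 ht ?_)
      rw [show g.1.det = -a by rw [hw] at hv; field_simp at hv; linear_combination hv, map_neg, hsa]
    · set v := 1 + w with hv'
      have hv1 : w * σ v = v := by rw [hv', map_add, map_one, mul_add, mul_one, hww, add_comm]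
      have he : a ^ (Fintype.card F / 2) = 1 := (isSquare_iff_pow h2 ha).1 (isSquare_of_fixed h2 σ hσ2 ht hsa)
      have hve : σ v ^ (Fintype.card F / 2) = v ^ (Fintype.card F / 2) := by
        rw [← map_pow]
        rcases pow_half_eq h2 hv with h | h <;> rw [h] <;> simp
      have hwe : w ^ (Fintype.card F / 2) = 1 := by
        have := congrArg (· ^ (Fintype.card F / 2)) hv1
        simp only [mul_pow, hve] at this
        exact mul_eq_right₀ (pow_ne_zero _ hv) |>.1 this
      refine hsquare ((isSquare_iff_pow h2 hd).2 ?_)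
      rw [show g.1.det = w * a by rw [hw, div_mul_cancel₀ _ ha], mul_pow, hwe, he, mul_one]

end OuterCtx

end CfsgLib.MinNonCA
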