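import Cfsg.Agent.S0205
import Cfsg.Agent.Lib.Ree.Basic

/-!
# Groups whose proper subgroups have abelian centralizers of noncentral elements

Basic notions and lemmas.
-/

set_option autoImplicit false
set_option linter.unusedSectionVars false
set_option linter.style.haveILetI false

namespace CfsgLib.MinNonCA

open Subgroup

universe u

variable {G : Type u} [Group G]

/-- In `H`, the centralizer of every element not central in `H` is commutative. -/
def CAOn (H : Subgroup G) : Prop :=
  ∀ x ∈ H, (∃ y ∈ H, ¬ Commute x y) →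
    ∀ a ∈ H, ∀ b ∈ H, Commute a x → Commute b x → Commute a b

/-- All proper subgroups have commutative centralizers of noncentral elements. -/
def SubCA (G : Type u) [Group G] : Prop := ∀ H : Subgroup G, H ≠ ⊤ → CAOn H

/-- Two noncommuting elements centralize `x`. -/
def NonabCent (x : G) : Prop := ∃ a b : G, Commute a x ∧ Commute b x ∧ ¬ Commute a b

theorem CAOn.commute {H : Subgroup G} (h : CAOn H) {x y a b : G} (hx : x ∈ H) (hy : y ∈ H)
    (hxy : ¬ Commute x y) (ha : a ∈ H) (hb : b ∈ H) (hax : Commute a x) (hbx : Commute b x) :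
    Commute a b := h x hx ⟨y, hy, hxy⟩ a ha b hb hax hbx

/-- An element centralized by two noncommuting elements of `H` is central in `H`. -/
theorem CAOn.central {H : Subgroup G} (h : CAOn H) {x a b : G} (hx : x ∈ H) (ha : a ∈ H) (hb : b ∈ H)
    (hax : Commute a x) (hbx : Commute b x) (hab : ¬ Commute a b) {y : G} (hy : y ∈ H) :
    Commute x y := by
  by_contra hxy
  exact hab (h.commute hx hy hxy ha hb hax hbx)

theorem CAOn.mono {H K : Subgroup G} (h : CAOn H) (hKH : K ≤ H) : CAOn K :=
  fun x hx ⟨y, hy, hxy⟩ a ha b hb => h x (hKH hx) ⟨y, hKH hy, hxy⟩ a (hKH ha) b (hKH hb)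

theorem mem_center_iff_commute {x : G} : x ∈ center G ↔ ∀ y : G, Commute x y :=
  mem_center_iff.trans ⟨fun h y => (h y).symm, fun h y => (h y).eq.symm⟩

theorem exists_not_commute {x : G} (hx : x ∉ center G) : ∃ y : G, ¬ Commute x y := by
  by_contra h
  push Not at h
  exact hx (mem_center_iff_commute.2 h)

theorem commute_of_center {z : G} (hz : z ∈ center G) (y : G) : Commute z y :=
  mem_center_iff_commute.1 hz y

theorem NonabCent.conj {x : G} (h : NonabCent x) (g : G) : NonabCent (g * x * g⁻¹) := by
  obtain ⟨a, b, ha, hb, hab⟩ := h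
  refine ⟨g * a * g⁻¹, g * b * g⁻¹, ha.map (MulAut.conj g).toMonoidHom,
    hb.map (MulAut.conj g).toMonoidHom, fun hc => hab ?_⟩
  have := hc.map (MulAut.conj g⁻¹).toMonoidHom
  simpa [MulAut.conj_apply, mul_assoc] using this

theorem cent_ne_top {x : G} (hx : x ∉ center G) : centralizer ({x} : Set G) ≠ ⊤ := fun h =>
  hx (mem_center_iff.2 fun y => mem_centralizer_singleton_iff.1 (h ▸ mem_top y))

theorem mem_cent {x a : G} : a ∈ centralizer ({x} : Set G) ↔ Commute a x :=
  mem_centralizer_singleton_iff

variable {x : G}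

/-- A nonabelian centralizer of a noncentral element is a maximal subgroup. -/
theorem cent_maximal (hp : SubCA G) (hn : NonabCent x) {H : Subgroup G}
    (hle : centralizer ({x} : Set G) ≤ H) (hH : H ≠ ⊤) : H ≤ centralizer ({x} : Set G) := by
  obtain ⟨a, b, ha, hb, hab⟩ := hn
  intro y hy
  exact mem_cent.2 ((hp H hH).central (hle (mem_cent.2 (Commute.refl x))) (hle (mem_cent.2 ha))
    (hle (mem_cent.2 hb)) ha hb hab hy).symm

/-- Elements with nested centralizers, the smaller nonabelian, have equal centralizers. -/
theorem cent_eq_of_le (hp : SubCA G) (hn : NonabCent x) {y : G} (hy : y ∉ center G)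
    (hle : centralizer ({x} : Set G) ≤ centralizer ({y} : Set G)) :
    centralizer ({y} : Set G) = centralizer ({x} : Set G) :=
  le_antisymm (cent_maximal hp hn hle (cent_ne_top hy)) hle

/-- A nonabelian centralizer that is not normal is self-normalizing. -/
theorem normalizer_cent (hp : SubCA G) (hn : NonabCent x)
    (hnn : ¬ (centralizer ({x} : Set G)).Normal) :
    normalizer (centralizer ({x} : Set G) : Set G) = centralizer ({x} : Set G) :=
  le_antisymm (cent_maximal hp hn le_normalizer fun h => hnn (normalizer_eq_top_iff.1 h)) le_normalizer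

/-- An element moving `x` only by a central element lies in the nonabelian centralizer of `x`. -/
theorem commute_of_shift (hp : SubCA G) (hn : NonabCent x)
    (hnn : ¬ (centralizer ({x} : Set G)).Normal) {g z : G} (hz : z ∈ center G)
    (hg : g * x * g⁻¹ = x * z) : Commute g x := by
  rw [← mem_cent, ← normalizer_cent hp hn hnn, mem_normalizer_iff]
  intro c
  have key : Commute (g * c * g⁻¹) (x * z) ↔ Commute c x := by
    constructor
    · intro h
      have := h.map (MulAut.conj g⁻¹).toMonoidHom
      rw [← hg] at this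
      simpa [MulAut.conj_apply, mul_assoc] using this
    · intro h
      rw [← hg]
      exact h.map (MulAut.conj g).toMonoidHom
  rw [mem_cent, mem_cent, ← key]
  refine ⟨fun h => ?_, fun h => h.mul_right (commute_of_center hz _).symm⟩
  have h2 : Commute (g * c * g⁻¹) (x * z * z⁻¹) :=
    h.mul_right (commute_of_center (inv_mem hz) _).symm
  rwa [mul_inv_cancel_right] at h2

section Perfect

variable (hperf : commutator G = ⊤)
include hperf

/-- A perfect group maps trivially to a solvable group. -/
theorem hom_eq_one {Q : Type*} [Group Q] [Group.IsSolvable Q] (f : G →* Q) : f = 1 := by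
  have h : ∀ n, derivedSeries G n = ⊤ := fun n => by
    induction n with
    | zero => rfl
    | succ n ih => rw [derivedSeries_succ, ih]; exact hperf
  obtain ⟨n, hn⟩ := Group.IsSolvable.solvable (G := Q)
  refine MonoidHom.ext fun g => ?_
  have h1 : f g ∈ (derivedSeries G n).map f := mem_map_of_mem f (h n ▸ mem_top g)
  have h2 := map_derivedSeries_le_derivedSeries f n h1
  rw [hn, mem_bot] at h2
  exact h2

theorem eq_top_of_solvable_quotient (N : Subgroup G) [N.Normal] [Group.IsSolvable (G ⧸ N)] : N = ⊤ :=
  eq_top_iff.2 fun g _ => (QuotientGroup.eq_one_iff g).1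
    (DFunLike.congr_fun (hom_eq_one hperf (QuotientGroup.mk' N)) g)

theorem eq_top_of_odd_index [Finite G] (N : Subgroup G) [N.Normal] (h : Odd N.index) : N = ⊤ := by
  haveI : Group.IsSolvable (G ⧸ N) := Cfsg.Agent.S0205.result (Subgroup.index_eq_card N ▸ h)
  exact eq_top_of_solvable_quotient hperf N

/-- A normal subgroup containing a Sylow `2`-subgroup is everything. -/
theorem eq_top_of_sylow_le [Finite G] (S : Sylow 2 G) (N : Subgroup G) [N.Normal]
    (h : (S : Subgroup G) ≤ N) : N = ⊤ := by
  haveI : Fact (Nat.Prime 2) := ⟨Nat.prime_two⟩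
  refine eq_top_of_odd_index hperf N ?_
  rw [← Nat.not_even_iff_odd, even_iff_two_dvd]
  exact fun hd => S.not_dvd_index (hd.trans (index_dvd_of_le h))

/-- A normal subgroup whose index is not divisible by four is everything. -/
theorem eq_top_of_not_four [Finite G] (N : Subgroup G) [N.Normal] (h : ¬ 4 ∣ N.index) : N = ⊤ := by
  by_cases h2 : 2 ∣ N.index
  · exfalso
    obtain ⟨O, -, hO, hodd, hcard, -⟩ := ReeType.exists_odd_part (⊤ : Subgroup (G ⧸ N))
      (by rw [card_top, ← Subgroup.index_eq_card]; exact h2)
      (by rw [card_top, ← Subgroup.index_eq_card]; exact h)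
    haveI : O.Normal := normalizer_eq_top_iff.1 (eq_top_iff.2 hO)
    rw [card_top] at hcard
    have hO2 : O.index = 2 := by
      have h1 := O.card_mul_index
      rw [hcard, mul_comm 2] at h1
      exact Nat.eq_of_mul_eq_mul_left Nat.card_pos h1
    haveI : Group.IsSolvable ((G ⧸ N) ⧸ O) := by
      haveI : Fact (Nat.Prime 2) := ⟨Nat.prime_two⟩
      haveI : IsCyclic ((G ⧸ N) ⧸ O) :=
        isCyclic_of_prime_card (p := 2) (by rw [← Subgroup.index_eq_card]; exact hO2)
      exact Group.isSolvable_of_comm fun a b => IsCyclic.commGroup.mul_comm a b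
    have hf := hom_eq_one hperf ((QuotientGroup.mk' O).comp (QuotientGroup.mk' N))
    have hOt : O = ⊤ := eq_top_iff.2 fun y _ => by
      obtain ⟨g, rfl⟩ := QuotientGroup.mk'_surjective N y
      exact (QuotientGroup.eq_one_iff _).1 (DFunLike.congr_fun hf g)
    rw [hOt, index_top] at hO2
    norm_num at hO2
  · exact eq_top_of_odd_index hperf N (Nat.not_even_iff_odd.1 fun he => h2 (even_iff_two_dvd.1 he))

theorem cent_not_normal [Finite G] (hp : SubCA G) (hn : NonabCent x) (hx : x ∉ center G) :
    ¬ (centralizer ({x} : Set G)).Normal := by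
  intro hN
  haveI := hN
  set N := centralizer ({x} : Set G)
  refine cent_ne_top hx (eq_top_of_not_four hperf N ?_)
  by_contra h4
  rw [Subgroup.index_eq_card] at h4
  haveI : Fact (Nat.Prime 2) := ⟨Nat.prime_two⟩
  obtain ⟨y, hy⟩ := exists_prime_orderOf_dvd_card' (G := G ⧸ N) 2 (dvd_trans (by norm_num) h4)
  have hne : (zpowers y).comap (QuotientGroup.mk' N) ≠ ⊤ := fun h => by
    have h' : zpowers y = ⊤ := by
      rw [← map_comap_eq_self_of_surjective (QuotientGroup.mk'_surjective N) (zpowers y), h,
        ← MonoidHom.range_eq_map, MonoidHom.range_eq_top.2 (QuotientGroup.mk'_surjective N)]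
    have := congrArg (fun H : Subgroup (G ⧸ N) => Nat.card H) h'
    rw [Nat.card_zpowers, hy, card_top] at this
    omega
  have hle : N ≤ (zpowers y).comap (QuotientGroup.mk' N) := fun a ha => by
    rw [mem_comap, show QuotientGroup.mk' N a = 1 from (QuotientGroup.eq_one_iff a).2 ha]
    exact one_mem _
  have h1 := cent_maximal hp hn hle hne
  obtain ⟨g, rfl⟩ := QuotientGroup.mk'_surjective N y
  have hg : g ∈ N := h1 (mem_zpowers _)
  rw [show QuotientGroup.mk' N g = 1 from (QuotientGroup.eq_one_iff g).2 hg, orderOf_one] at hy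
  norm_num at hy

end Perfect

end CfsgLib.MinNonCA
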