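import Cfsg.Agent.Lib.MinNonCA.Perfect

/-!
# Centralizers in perfect groups with abelian centralizers are not self-normalizing
-/

set_option autoImplicit false
set_option linter.unusedSectionVars false
set_option linter.style.haveILetI false

namespace CfsgLib.MinNonCA

open Subgroup

universe u

variable {K : Type u} [Group K] [Finite K]

/-- In a perfect group whose noncentral elements have abelian centralizers, no such centralizer is
self-normalizing. -/
theorem not_self_normalizing (hperf : commutator K = ⊤) (hca : CAOn (⊤ : Subgroup K)) {k : K}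
    (hk : k ∉ center K)
    (hN : normalizer ((centralizer ({k} : Set K) : Subgroup K) : Set K) ≤ centralizer ({k} : Set K)) :
    False := by
  classical
  set A := centralizer ({k} : Set K) with hA
  have hcomm : ∀ {w : K}, w ∉ center K → ∀ {a b}, Commute a w → Commute b w → Commute a b :=
    fun {w} hw {a b} ha hb => by
      obtain ⟨y, hy⟩ := exists_not_commute hw
      exact hca.commute (mem_top w) (mem_top y) hy (mem_top a) (mem_top b) ha hb
  have hAab : ∀ a ∈ A, ∀ b ∈ A, Commute a b := fun a ha b hb =>
    hcomm hk (mem_cent.1 ha) (mem_cent.1 hb)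
  have hkA : k ∈ A := mem_cent.2 (Commute.refl k)
  set π := QuotientGroup.mk' (center K) with hπ
  have hk1 : π k ≠ 1 := fun e => hk ((QuotientGroup.eq_one_iff k).1 e)
  obtain ⟨r, hr, hrd⟩ := Nat.exists_prime_and_dvd (n := orderOf (π k)) (mt orderOf_eq_one_iff.1 hk1)
  haveI := Fact.mk hr
  obtain ⟨P⟩ : Nonempty (Sylow r A) := inferInstance
  set P' := (P : Subgroup A).map A.subtype with hP'
  have hP'A : P' ≤ A := map_subtype_le _
  have hP'r : IsPGroup r P' := P.2.map _
  -- some element of `P'` is noncentral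
  obtain ⟨u, huP, huc⟩ : ∃ u ∈ P', u ∉ center K := by
    by_contra hall
    push Not at hall
    have h1 : orderOf (π k) ∣ (center K).relIndex A := by
      have e : π.ker.relIndex A = (center K).relIndex A := by rw [hπ, QuotientGroup.ker_mk']
      rw [← e, Subgroup.relIndex_ker]
      exact Subgroup.orderOf_dvd_natCard _ (mem_map_of_mem π hkA)
    have h2 : (center K).relIndex A ∣ P'.relIndex A := relIndex_dvd_of_le_left A hall
    have h3 : P'.relIndex A = (P : Subgroup A).index := by
      rw [hP', relIndex, subgroupOf, comap_map_eq_self_of_injective A.subtype_injective]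
    exact P.not_dvd_index (h3 ▸ hrd.trans (h1.trans h2))
  have hCA : ∀ {w}, w ∈ A → w ∉ center K → ∀ a, Commute a w → a ∈ A := fun {w} hwA hw a ha =>
    mem_cent.2 (hcomm hw ha (mem_cent.1 hwA).symm)
  -- the normalizer of `P'` is inside `A`
  have hNP : normalizer (P' : Set K) ≤ A := by
    intro n hn
    refine hN ?_
    have hu' : n * u * n⁻¹ ∈ P' := (mem_normalizer_iff.1 hn u).1 huP
    have hu'c : n * u * n⁻¹ ∉ center K := fun h => huc (by
      have := (inferInstance : (center K).Normal).conj_mem _ h n⁻¹
      rwa [show n⁻¹ * (n * u * n⁻¹) * n⁻¹⁻¹ = u by group] at this)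
    rw [mem_normalizer_iff]
    intro a
    constructor
    · intro ha
      exact hCA (hP'A hu') hu'c _ ((hAab a ha u (hP'A huP)).map (MulAut.conj n).toMonoidHom)
    · intro ha
      refine hCA (hP'A huP) huc _ ?_
      have := (hAab _ ha _ (hP'A hu')).map (MulAut.conj n⁻¹).toMonoidHom
      simpa [MulAut.conj_apply, mul_assoc] using this
  have hSyl : ¬ r ∣ P'.index := by
    intro hd
    obtain ⟨T, hT⟩ := hP'r.exists_le_sylow
    by_cases hle : (T : Subgroup K) ≤ P'
    · exact T.not_dvd_index (hd.trans (index_dvd_of_le hle))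
    · obtain ⟨y, hyT, hyN, hyP⟩ := Invol.exists_mem_normalizer_notMem T.2 hT hle
      have hle2 : (P : Subgroup A) ≤ (T : Subgroup K).subgroupOf A := fun v hv =>
        mem_subgroupOf.2 (hT ⟨v, hv, rfl⟩)
      have he := P.3 T.2.comap_subtype hle2
      exact hyP ⟨⟨y, hNP hyN⟩, he.le (show (⟨y, hNP hyN⟩ : A) ∈ (T : Subgroup K).subgroupOf A from
        mem_subgroupOf.2 hyT), rfl⟩
  set T : Sylow r K := hP'r.toSylow hSyl with hT
  have hburn : normalizer ((T : Subgroup K) : Set K) ≤ centralizer ((T : Subgroup K) : Set K) := fun y hy =>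
    mem_centralizer_iff.2 fun v hv => (hAab v (hP'A hv) y (hNP hy)).eq
  obtain ⟨T', N, hNn, hN'⟩ := Fusion.hasNormalPComplement_of_normalizer_le_centralizer T hburn
  haveI := hNn
  haveI : Group.IsSolvable (K ⧸ N) := by
    have hq : IsPGroup r (K ⧸ N) := by
      obtain ⟨n, hn⟩ := T'.2.exists_card_eq
      exact IsPGroup.of_card (n := n) (by rw [← Subgroup.index_eq_card, hN'.symm.index_eq_card, hn])
    haveI := hq.isNilpotent
    infer_instance
  have h1 : Nat.card (T' : Subgroup K) = 1 := by
    rw [← hN'.symm.index_eq_card, eq_top_of_solvable_quotient hperf N, index_top]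
  have h2 : Nat.card (T : Subgroup K) = 1 := by rw [Nat.card_congr (Sylow.equiv T T').toEquiv, h1]
  have h3 : P' = ⊥ := card_eq_one.1 h2
  rw [h3, mem_bot] at huP
  exact huc (huP ▸ one_mem _)

/-- In a perfect group with all proper subgroups of the given kind some proper subgroup normalizing a
Sylow `2`-subgroup is not commutative. -/
theorem normalizer_sylow_facts (hperf : commutator K = ⊤) (hp : SubCA K) (hne : ∃ g : K, g ≠ 1)
    (S : Sylow 2 K) : normalizer ((S : Subgroup K) : Set K) ≠ ⊤ ∧
      ∃ a ∈ normalizer ((S : Subgroup K) : Set K), ∃ b ∈ normalizer ((S : Subgroup K) : Set K),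
        ¬ Commute a b := by
  by_cases hab : ∀ a ∈ (S : Subgroup K), ∀ b ∈ (S : Subgroup K), Commute a b
  · have c : AbCtx S := ⟨hperf, hp, hab, hne⟩
    obtain ⟨n, hn, hnS⟩ := c.exists_outer
    obtain ⟨s, hs, hs1⟩ := c.exists_ne_one
    exact ⟨c.normalizer_ne_top, n, hn, s, le_normalizer hs, hnS s hs hs1⟩
  · push Not at hab
    have c : PerfCtx S := ⟨hperf, hp, hab⟩
    obtain ⟨a, ha, b, hb, h⟩ := hab
    refine ⟨fun h => ?_, a, le_normalizer ha, b, le_normalizer hb, h⟩
    haveI : (S : Subgroup K).Normal := normalizer_eq_top_iff.1 h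
    exact c.S_ne_top (eq_top_of_sylow_le hperf S _ le_rfl)

end CfsgLib.MinNonCA
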