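import Cfsg.Agent.Lib.MinNonCA.Radical
import Cfsg.Agent.Lib.Invol.ZStar
import Cfsg.Agent.Lib.Fusion.Sylow
import Cfsg.Agent.Lib.Invol.NormalizerCriterion
import Cfsg.Agent.Lib.GW.Setting

/-!
# The centre of a nonabelian Sylow two-subgroup is central
-/

set_option autoImplicit false
set_option linter.unusedSectionVars false
set_option linter.style.haveILetI false

namespace CfsgLib.MinNonCA

open Subgroup
open scoped Pointwise

universe u

variable {G : Type u} [Group G] [Finite G]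

/-- In a perfect group the second centre is the centre. -/
theorem central_of_commutators (hperf : commutator G = ⊤) {w : G}
    (h : ∀ g : G, g * w * g⁻¹ * w⁻¹ ∈ center G) : w ∈ center G := by
  haveI : Group.IsSolvable (center G) :=
    Group.isSolvable_of_comm fun a b => Subtype.ext (commute_of_center a.2 b).eq
  let f : G →* center G := MonoidHom.mk' (fun g => ⟨g * w * g⁻¹ * w⁻¹, h g⟩) fun a b => Subtype.ext (by
    show a * b * w * (a * b)⁻¹ * w⁻¹ = (a * w * a⁻¹ * w⁻¹) * (b * w * b⁻¹ * w⁻¹)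
    rw [(commute_of_center (h a) (b * w * b⁻¹ * w⁻¹)).eq]
    calc a * b * w * (a * b)⁻¹ * w⁻¹
        = a * (b * w * b⁻¹ * w⁻¹) * (w * a⁻¹ * w⁻¹) := by group
      _ = (b * w * b⁻¹ * w⁻¹) * a * (w * a⁻¹ * w⁻¹) := by rw [(commute_of_center (h b) a).eq]
      _ = _ := by group)
  refine mem_center_iff_commute.2 fun g => ?_
  have := congrArg Subtype.val (DFunLike.congr_fun (hom_eq_one hperf f) g)
  exact (mul_inv_eq_iff_eq_mul.1 (mul_inv_eq_one.1 (show g * w * g⁻¹ * w⁻¹ = 1 from this))).symm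

theorem center_quotient_eq_bot (hperf : commutator G = ⊤) :
    center (G ⧸ center G) = ⊥ := by
  refine (eq_bot_iff_forall _).2 fun y hy => ?_
  obtain ⟨w, rfl⟩ := QuotientGroup.mk'_surjective (center G) y
  refine (QuotientGroup.eq_one_iff w).2 (central_of_commutators hperf fun g => ?_)
  rw [← QuotientGroup.ker_mk' (center G), MonoidHom.mem_ker, map_mul, map_mul, map_mul, map_inv, map_inv,
    mem_center_iff.1 hy, mul_inv_cancel_right, mul_inv_cancel]

namespace PerfCtx

variable {S : Sylow 2 G} (c : PerfCtx S)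
include c

theorem mem_of_central_two {z : G} (hz : z ∈ center G) {k : ℕ} (hk : z ^ 2 ^ k = 1) :
    z ∈ (S : Subgroup G) := by
  haveI : (zpowers z).Normal :=
    ⟨fun n hn g => by
      rw [mem_center_iff.1 (zpowers_le.2 hz hn) g, mul_inv_cancel_right]; exact hn⟩
  refine c.le_of_normal_two (D := zpowers z) (fun x => ⟨k, Subtype.ext ?_⟩) (mem_zpowers z)
  obtain ⟨i, hi⟩ := mem_zpowers_iff.1 x.2
  rw [SubmonoidClass.coe_pow, OneMemClass.coe_one, ← hi, ← zpow_natCast, ← zpow_mul, mul_comm, zpow_mul,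
    zpow_natCast, hk, one_zpow]

/-- A noncentral element of the centre of `S` is weakly closed in `S`. -/
theorem conj_fix {w : G} (hw : w ∈ zS (S : Subgroup G)) (hwc : w ∉ center G) {g : G}
    (hg : g * w * g⁻¹ ∈ (S : Subgroup G)) : g * w * g⁻¹ = w := by
  classical
  haveI : Fact (Nat.Prime 2) := ⟨Nat.prime_two⟩
  obtain ⟨hwS, hwc'⟩ := mem_zS.1 hw
  by_contra hbad
  set bad : Set G := {g | g * w * g⁻¹ ∈ (S : Subgroup G) ∧ g * w * g⁻¹ ≠ w}
  set size : G → ℕ := fun g => Nat.card ↥((S : Subgroup G) ⊓ centralizer ({g * w * g⁻¹} : Set G))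
  obtain ⟨g, ⟨hgS, hgne⟩, hmax⟩ := Set.exists_max_image bad size (Set.toFinite _) ⟨g, hg, hbad⟩
  set w' := g * w * g⁻¹ with hw'
  by_cases hz : ∀ y ∈ (S : Subgroup G), Commute w' y
  · obtain ⟨n, hn, hne⟩ := S.conj_eq_normalizer_conj_of_mem_centralizer w g⁻¹
      (mem_centralizer_iff.2 fun y hy => (hwc' y hy).eq.symm)
      (mem_centralizer_iff.2 fun y hy => by rw [inv_inv]; exact (hz y hy).eq.symm)
    have hN : normalizer ((S : Subgroup G) : Set G) ≠ ⊤ := fun h => by
      haveI : (S : Subgroup G).Normal := normalizer_eq_top_iff.1 h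
      exact c.S_ne_top (eq_top_of_sylow_le c.perf S _ le_rfl)
    refine hgne ?_
    rw [inv_inv] at hne
    rw [hw', hne, (c.zS_central hN le_normalizer hw (inv_mem hn)).eq.symm, inv_mul_cancel_right]
  push Not at hz
  obtain ⟨y₀, hy₀, hwy₀⟩ := hz
  set Y := (S : Subgroup G) ⊓ centralizer ({w'} : Set G) with hY
  have hYne : ¬ (S : Subgroup G) ≤ Y := fun h => hwy₀ (mem_cent.1 (h hy₀).2).symm
  have hY2 : IsPGroup 2 Y := S.2.to_le inf_le_left
  have hwY : w ∈ Y := mem_inf.2 ⟨hwS, mem_cent.2 (hwc' w' hgS)⟩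
  have hw'Y : w' ∈ Y := mem_inf.2 ⟨hgS, mem_cent.2 (Commute.refl w')⟩
  set H := normalizer (Y : Set G) with hH
  have hHtop : H ≠ ⊤ := fun h => by
    haveI : Y.Normal := normalizer_eq_top_iff.1 h
    haveI : Group.IsNilpotent Y := hY2.isNilpotent
    exact hwc (c.solvable_central Y hwY)
  obtain ⟨q, hqS, hqN, hqY⟩ := Invol.exists_mem_normalizer_notMem S.2 inf_le_left hYne
  have hwH : ∀ h ∈ H, Commute w h := fun h hh =>
    (c.sub H hHtop).central (le_normalizer hwY) hqN (le_normalizer hw'Y) (hwc' q hqS).symm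
      (hwc' w' hgS).symm (fun hc => hqY (mem_inf.2 ⟨hqS, mem_cent.2 hc⟩)) hh
  -- a Sylow subgroup of the centralizer of `w'` above `Y`
  have hidx : ∀ {T C : Subgroup G}, Nat.card T = Nat.card (S : Subgroup G) → T ≤ C → ¬ 2 ∣ T.relIndex C := by
    intro T C hT hTC hd
    refine S.not_dvd_index ?_
    have h1 := T.card_mul_index
    rw [← (S : Subgroup G).card_mul_index, hT] at h1
    rw [← Nat.eq_of_mul_eq_mul_left Nat.card_pos h1, ← relIndex_mul_index hTC]
    exact dvd_mul_of_dvd_left hd _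
  set T := Fusion.conjBy g (S : Subgroup G) with hT
  have hT2 : IsPGroup 2 T := S.2.map _
  have hTC : T ≤ centralizer ({w'} : Set G) := Fusion.conjBy_le_iff.2 fun x hx =>
    mem_cent.2 (((hwc' x hx).symm).map (MulAut.conj g).toMonoidHom)
  obtain ⟨h, hh, hhY⟩ := Fusion.exists_conj_le_of_not_dvd_relIndex hT2 hTC
    (hidx (Fusion.card_conjBy g _) hTC) hY2 (inf_le_right)
  set P := Fusion.conjBy h⁻¹ T with hP
  have hP2 : IsPGroup 2 P := hT2.map _
  have hPC : P ≤ centralizer ({w'} : Set G) := Fusion.conjBy_le_iff.2 fun x hx =>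
    mul_mem (mul_mem (inv_mem hh) (hTC hx)) (inv_mem (inv_mem hh))
  have hYP : Y ≤ P := fun x hx => ⟨h * x * h⁻¹, Fusion.conjBy_le_iff.1 hhY x hx, by
    simp [MulAut.conj_apply, mul_assoc]⟩
  have hPY : ¬ P ≤ Y := fun hle => by
    have h1 : Nat.card P ≤ Nat.card Y := Subgroup.card_le_of_le hle
    rw [hP, Fusion.card_conjBy, hT, Fusion.card_conjBy] at h1
    have h2 : Y = (S : Subgroup G) := eq_of_le_of_card_ge inf_le_left h1
    exact hYne h2.ge
  obtain ⟨p, hpP, hpN, hpY⟩ := Invol.exists_mem_normalizer_notMem hP2 hYP hPY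
  set X := Y ⊔ zpowers p with hX
  have hXP : X ≤ P := sup_le hYP (zpowers_le.2 hpP)
  have hXw : X ≤ centralizer ({w} : Set G) := sup_le (fun x hx => mem_cent.2 (hwc' x hx.1).symm)
    (zpowers_le.2 (mem_cent.2 (hwH p hpN).symm))
  have hSw : (S : Subgroup G) ≤ centralizer ({w} : Set G) := fun x hx => mem_cent.2 (hwc' x hx).symm
  obtain ⟨m, hm, hmX⟩ := Fusion.exists_conj_le_of_not_dvd_relIndex S.2 hSw (hidx rfl hSw)
    (hP2.to_le hXP) hXw
  rw [Fusion.conjBy_le_iff] at hmX
  have hmw : m * w * m⁻¹ = w := mul_inv_eq_iff_eq_mul.2 (mem_cent.1 hm).eq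
  have hmg : m * g * w * (m * g)⁻¹ = m * w' * m⁻¹ := by rw [hw']; group
  have hbad' : m * g ∈ bad := ⟨by rw [hmg]; exact hmX w' (mem_sup_left hw'Y),
    fun e => hgne (by
      rw [hmg] at e
      exact mul_left_cancel (mul_right_cancel (e.trans hmw.symm)))⟩
  have hlt : Nat.card Y < Nat.card X := by
    refine lt_of_le_of_ne (Subgroup.card_le_of_le le_sup_left) fun e => hpY ?_
    have : Y = X := eq_of_le_of_card_ge le_sup_left e.ge
    rw [this]; exact mem_sup_right (mem_zpowers p)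
  have hle : Nat.card X ≤ size (m * g) := by
    rw [← Fusion.card_conjBy m X]
    refine Subgroup.card_le_of_le (Fusion.conjBy_le_iff.2 fun x hx => mem_inf.2 ⟨hmX x hx, mem_cent.2 ?_⟩)
    rw [hmg]
    exact (mem_cent.1 (hPC (hXP hx))).map (MulAut.conj m).toMonoidHom
  exact absurd (hle.trans (hmax _ hbad')) (not_le.2 hlt)

theorem oddCore_quotient : Cfsg.oddCore (G ⧸ center G) = ⊥ := by
  set O := Cfsg.oddCore (G ⧸ center G) with hO
  set π := QuotientGroup.mk' (center G) with hπ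
  set R := O.comap π with hR
  haveI : Group.IsSolvable O := FT.isSolvable_of_odd _ (GW.odd_oddCore _)
  haveI : Group.IsSolvable (center G) :=
    Group.isSolvable_of_comm fun a b => Subtype.ext (commute_of_center a.2 b).eq
  haveI : Group.IsSolvable R := by
    refine solvable_of_ker_le_range
      (inclusion (show center G ≤ R from fun z hz => by
        rw [hR, mem_comap, show π z = 1 from (QuotientGroup.eq_one_iff z).2 hz]; exact one_mem _))
      ((π.comp R.subtype).codRestrict O fun x => x.2) fun x hx => ?_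
    exact ⟨⟨x, (QuotientGroup.eq_one_iff _).1 (congrArg Subtype.val (MonoidHom.mem_ker.1 hx))⟩, rfl⟩
  have hRc := c.solvable_central R
  refine (eq_bot_iff_forall _).2 fun y hy => ?_
  obtain ⟨w, rfl⟩ := QuotientGroup.mk'_surjective (center G) y
  exact (QuotientGroup.eq_one_iff w).2 (hRc (mem_comap.2 hy))

/-- The centre of `S` is central. -/
theorem zS_le_center : zS (S : Subgroup G) ≤ center G := by
  classical
  haveI : Fact (Nat.Prime 2) := ⟨Nat.prime_two⟩
  intro x hx
  by_contra hxc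
  obtain ⟨k, hk⟩ := S.2 ⟨x, (mem_zS.1 hx).1⟩
  have hk' : x ^ 2 ^ k = 1 := congrArg Subtype.val hk
  obtain ⟨w, hw, hwc, hw2⟩ : ∃ w ∈ zS (S : Subgroup G), w ∉ center G ∧ w * w ∈ center G := by
    have hex : ∃ j, x ^ 2 ^ j ∈ center G := ⟨k, hk' ▸ one_mem _⟩
    rcases Nat.eq_zero_or_pos (Nat.find hex) with h | h
    · have := Nat.find_spec hex
      rw [h, pow_zero, pow_one] at this
      exact absurd this hxc
    · refine ⟨x ^ 2 ^ (Nat.find hex - 1), pow_mem hx _, Nat.find_min hex (by omega), ?_⟩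
      rw [← pow_add, ← two_mul, ← pow_succ', Nat.sub_add_cancel h]
      exact Nat.find_spec hex
  set π := QuotientGroup.mk' (center G) with hπ
  set P := S.mapSurjective (QuotientGroup.mk'_surjective (center G)) with hP
  have hord : orderOf (π w) = 2 := orderOf_eq_prime
    (by rw [pow_two, ← map_mul]; exact (QuotientGroup.eq_one_iff _).2 hw2)
    (fun e => hwc ((QuotientGroup.eq_one_iff w).1 e))
  have hcl : ∀ y, y * π w * y⁻¹ ∈ P → y * π w * y⁻¹ = π w := by
    intro y hy
    obtain ⟨g, rfl⟩ := QuotientGroup.mk'_surjective (center G) y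
    obtain ⟨s, hs, hsg⟩ := hy
    obtain ⟨z, hz, e⟩ : ∃ z ∈ center G, g * w * g⁻¹ = s * z := by
      refine ⟨s⁻¹ * (g * w * g⁻¹), QuotientGroup.eq.1 ?_, (mul_inv_cancel_left _ _).symm⟩
      exact hsg
    obtain ⟨n, hn⟩ := S.2.exists_card_eq
    have hpow : ∀ a ∈ (S : Subgroup G), a ^ 2 ^ n = 1 := fun a ha =>
      orderOf_dvd_iff_pow_eq_one.1 (hn ▸ Subgroup.orderOf_dvd_natCard _ ha)
    have hz2 : z ^ 2 ^ n = 1 := by
      have h1 := congrArg (· ^ 2 ^ n) e
      simp only [conj_pow, hpow w (mem_zS.1 hw).1, mul_one, mul_inv_cancel] at h1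
      rwa [((commute_of_center hz s).symm).mul_pow, hpow s hs, one_mul, eq_comm] at h1
    have hgS : g * w * g⁻¹ ∈ (S : Subgroup G) := e ▸ mul_mem hs (c.mem_of_central_two hz hz2)
    rw [← map_inv, ← map_mul, ← map_mul, c.conj_fix hw hwc hgS]
  have hzc := Invol.zstar_of_weakly_closed P hord hcl
  have hcen : π w ∈ center (G ⧸ center G) := mem_center_iff.2 fun y => by
    have h1 := hzc y
    rw [show Cfsg.pPrimeCore 2 (G ⧸ center G) = ⊥ from c.oddCore_quotient, mem_bot] at h1
    exact (mul_inv_eq_iff_eq_mul.1 (mul_inv_eq_one.1 h1)).symm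
  rw [center_quotient_eq_bot c.perf, mem_bot] at hcen
  exact hwc ((QuotientGroup.eq_one_iff w).1 hcen)

theorem mem_zS_iff {z : G} (hz : z ∈ (S : Subgroup G)) : z ∈ zS (S : Subgroup G) ↔ z ∈ center G :=
  ⟨fun h => c.zS_le_center h, fun h => mem_zS.2 ⟨hz, fun y _ => commute_of_center h y⟩⟩

end PerfCtx

end CfsgLib.MinNonCA
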