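import Cfsg.Agent.Lib.MinNonCA.Perfect
import Cfsg.Agent.Lib.MinNonCA.Action
import Cfsg.Agent.Lib.Perm.Dickson.Count
import Cfsg.Agent.S0251
import Cfsg.Agent.S0799

/-!
# The groups `PSL(2, q)` of the list have the property
-/

set_option autoImplicit false
set_option linter.unusedSectionVars false
set_option linter.style.haveILetI false

namespace CfsgLib.MinNonCA

open Subgroup Matrix

universe u v

variable {G : Type u} [Group G]

theorem cAOn_of_equiv {H : Subgroup G} {K : Type v} [Group K] (e : H ≃* K) (h : CAOn (⊤ : Subgroup K)) :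
    CAOn H := by
  intro x hx ⟨y, hy, hxy⟩ a ha b hb hax hbx
  have h1 := h.commute (mem_top (e ⟨x, hx⟩)) (mem_top (e ⟨y, hy⟩))
    (fun hc => hxy (congrArg Subtype.val (e.injective
      (show e (⟨x, hx⟩ * ⟨y, hy⟩) = e (⟨y, hy⟩ * ⟨x, hx⟩) by rw [map_mul, map_mul]; exact hc.eq))))
    (mem_top (e ⟨a, ha⟩)) (mem_top (e ⟨b, hb⟩))
    ((show Commute (⟨a, ha⟩ : H) ⟨x, hx⟩ from Subtype.ext hax.eq).map e.toMonoidHom)
    ((show Commute (⟨b, hb⟩ : H) ⟨x, hx⟩ from Subtype.ext hbx.eq).map e.toMonoidHom)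
  exact congrArg Subtype.val (e.injective
    (show e (⟨a, ha⟩ * ⟨b, hb⟩) = e (⟨b, hb⟩ * ⟨a, ha⟩) by rw [map_mul, map_mul]; exact h1.eq))

theorem cAOn_of_comm {H : Subgroup G} (h : ∀ a ∈ H, ∀ b ∈ H, Commute a b) : CAOn H :=
  fun _ _ _ a ha b hb _ _ => h a ha b hb

/-- A group with an abelian subgroup of index at most two. -/
theorem cAOn_of_index_two {A H : Subgroup G} (hA : ∀ a ∈ A, ∀ b ∈ A, Commute a b)
    (h2 : ∀ a ∈ H, a ∉ A → ∀ b ∈ H, b ∉ A → a * b ∈ A) : CAOn H := by
  intro x hx ⟨y, hy, hxy⟩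
  by_cases hxA : x ∈ A
  · have hin : ∀ a ∈ H, Commute a x → a ∈ A := by
      intro a ha hax
      by_contra haA
      refine hxy ?_
      by_cases hyA : y ∈ A
      · exact hA x hxA y hyA
      · have h1 := (hA x hxA _ (h2 y hy hyA a ha haA)).mul_right hax.symm.inv_right
        rwa [mul_inv_cancel_right] at h1
    exact fun a ha b hb hax hbx => hA a (hin a ha hax) b (hin b hb hbx)
  · intro a ha b hb hax hbx
    have key : ∀ a ∈ H, Commute a x → ∃ a' ∈ A, Commute a' x ∧ (a = a' ∨ a = x⁻¹ * a') := by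
      intro a ha hax
      by_cases haA : a ∈ A
      · exact ⟨a, haA, hax, Or.inl rfl⟩
      · exact ⟨x * a, h2 x hx hxA a ha haA, (Commute.refl x).mul_left hax,
          Or.inr (inv_mul_cancel_left x a).symm⟩
    obtain ⟨a', ha', hax', hae⟩ := key a ha hax
    obtain ⟨b', hb', hbx', hbe⟩ := key b hb hbx
    have hab := hA a' ha' b' hb'
    rcases hae with rfl | rfl <;> rcases hbe with rfl | rfl
    · exact hab
    · exact hax'.inv_right.mul_right hab
    · exact hbx'.inv_right.symm.mul_left hab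
    · exact ((Commute.refl x⁻¹).mul_right hbx'.inv_right.symm).mul_left (hax'.inv_right.mul_right hab)

theorem cAOn_dihedral (k : ℕ) : CAOn (⊤ : Subgroup (DihedralGroup k)) := by
  refine cAOn_of_index_two (A := zpowers (DihedralGroup.r 1 : DihedralGroup k)) ?_ ?_
  · intro a ha b hb
    obtain ⟨i, rfl⟩ := mem_zpowers_iff.1 ha
    obtain ⟨j, rfl⟩ := mem_zpowers_iff.1 hb
    exact (Commute.refl _).zpow_zpow i j
  · have hr : ∀ i : ZMod k, (DihedralGroup.r i : DihedralGroup k) ∈ zpowers (DihedralGroup.r 1) := fun i => by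
      refine mem_zpowers_iff.2 ⟨(ZMod.cast i : ℤ), ?_⟩
      rw [DihedralGroup.r_one_zpow, ZMod.intCast_zmod_cast]
    intro a _ ha b _ hb
    cases a with
    | r i => exact absurd (hr i) ha
    | sr i => cases b with
      | r j => exact absurd (hr j) hb
      | sr j => rw [DihedralGroup.sr_mul_sr]; exact hr _

theorem cAOn_alt_four : CAOn (⊤ : Subgroup (alternatingGroup (Fin 4))) := by
  have h : ∀ x a b : alternatingGroup (Fin 4), a * x = x * a → b * x = x * b →
      a * b = b * a ∨ x = 1 := by decide +kernel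
  rintro x - ⟨y, -, hxy⟩ a - b - hax hbx
  rcases h x a b hax.eq hbx.eq with h | h
  · exact h
  · exact absurd (h ▸ Commute.one_left y) hxy

theorem cAOn_alt_five : CAOn (⊤ : Subgroup (alternatingGroup (Fin 5))) := by
  haveI : Fact (Nat.Prime 2) := ⟨Nat.prime_two⟩
  haveI : Fintype (GaloisField 2 2) := Fintype.ofFinite _
  have hK : Fintype.card (GaloisField 2 2) = 4 := by
    rw [← Nat.card_eq_fintype_card, GaloisField.card 2 2 (by norm_num)]; norm_num
  obtain ⟨e⟩ := Cfsg.Agent.S0252.result hK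
  exact cAOn_of_mulEquiv_sl2 (e.symm.trans
    ((QuotientGroup.quotientMulEquivOfEq (CfsgLib.Lie.ShortPres.center_eq_bot_of_two
      (CharTwo.two_eq_zero (R := GaloisField 2 2)))).trans QuotientGroup.quotientBot))

variable {F : Type} [Field F] [Fintype F]

local notation "SL" => Matrix.SpecialLinearGroup (Fin 2) F
local notation "PSL" => Matrix.ProjectiveSpecialLinearGroup (Fin 2) F
local notation "π" => QuotientGroup.mk' (Subgroup.center (Matrix.SpecialLinearGroup (Fin 2) F))
local notation:max "↟" A:max => ((A : Matrix.SpecialLinearGroup (Fin 2) F) : Matrix (Fin 2) (Fin 2) F)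

/-- Subgroups of Sylow normalizers in the natural characteristic. -/
theorem cAOn_borel (hodd : Odd (Fintype.card F)) (p : ℕ) [Fact p.Prime] [CharP F p] (P : Sylow p PSL)
    {K : Subgroup PSL} (hK : K ≤ normalizer ((P : Subgroup PSL) : Set PSL)) : CAOn K := by
  classical
  have h2 := Classical.two_ne_zero_of_odd_card hodd
  let τ : Multiplicative F →* PSL := MonoidHom.mk' (fun t => π (uT (Multiplicative.toAdd t))) fun s t => by
    rw [toAdd_mul, ← map_mul, uT_mul]
  have hτ : Function.Injective τ := fun s t h => Multiplicative.toAdd.injective (pi_uT_inj h)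
  set U := τ.range with hU
  have hUp : IsPGroup p U := by
    rintro ⟨_, t, rfl⟩
    refine ⟨1, Subtype.ext ?_⟩
    rw [pow_one, SubmonoidClass.coe_pow, OneMemClass.coe_one]
    exact pi_uT_pow p _
  have hUi : ¬ p ∣ U.index := by
    intro hd
    have h1 := U.card_mul_index
    have h3 : Nat.card U = Fintype.card F := by
      rw [← Nat.card_congr (MonoidHom.ofInjective hτ).toEquiv, Nat.card_congr Multiplicative.toAdd,
        Nat.card_eq_fintype_card]
    have h4 := Classical.card_psl2 (F := F)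
    rw [← h1, h3, ← mul_assoc, mul_comm (Nat.gcd 2 _), mul_assoc] at h4
    have h5 := Nat.eq_of_mul_eq_mul_left Fintype.card_pos h4
    have h6 : p ∣ (Fintype.card F - 1) * (Fintype.card F + 1) := h5 ▸ dvd_mul_of_dvd_right hd _
    obtain ⟨n, hpp, hn⟩ := FiniteField.card F p
    have hpq : p ∣ Fintype.card F := hn ▸ dvd_pow_self p n.ne_zero
    rcases hpp.dvd_mul.1 h6 with h | h
    · have := Nat.dvd_sub hpq h
      rw [Nat.sub_sub_self Fintype.card_pos] at this
      exact hpp.one_lt.ne' (Nat.dvd_one.1 this)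
    · exact hpp.one_lt.ne' (Nat.dvd_one.1 ((Nat.dvd_add_right hpq).1 h))
  obtain ⟨g, hg⟩ := MulAction.exists_smul_eq PSL P (hUp.toSylow hUi)
  -- elements normalizing `U` are triangular
  have htri : ∀ M : SL, (∀ y ∈ U, π M * y * (π M)⁻¹ ∈ U) → ↟M 1 0 = 0 := by
    intro M hM
    obtain ⟨t, ht⟩ := hM (π (uT 1)) ⟨Multiplicative.ofAdd 1, rfl⟩
    have e : π (M * uT 1) = π (uT (Multiplicative.toAdd t) * M) := by
      rw [map_mul, map_mul, show π (uT (Multiplicative.toAdd t)) = τ t from rfl, ht, inv_mul_cancel_right]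
    rcases pi_eq_cases e with e | e <;> rw [sl2_val_mul, sl2_val_mul] at e
    · have e1 := congrFun₂ e 1 1
      simp [uT, sl2_val_mul, Matrix.mul_apply, Fin.sum_univ_two] at e1
      linear_combination e1
    · have e1 := congrFun₂ e 1 0
      simp [uT, sl2_val_mul, Matrix.mul_apply, Fin.sum_univ_two] at e1
      exact (mul_eq_zero.1 (show (2 : F) * ↟M 1 0 = 0 by linear_combination e1)).resolve_left h2
  have hdiag : ∀ M : SL, ↟M 1 0 = 0 → ↟M 0 0 ≠ 0 := fun M h h0 => by
    have := M.det_coe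
    rw [Matrix.det_fin_two, h, h0] at this
    simp at this
  have hlift : ∀ {a x : PSL}, g * a * g⁻¹ ∈ normalizer ((hUp.toSylow hUi : Subgroup PSL) : Set PSL) →
      g * x * g⁻¹ ∈ normalizer ((hUp.toSylow hUi : Subgroup PSL) : Set PSL) → Commute a x →
      ∀ A X : SL, π A = g * a * g⁻¹ → π X = g * x * g⁻¹ → Commute A X := by
    intro a x ha hx hc A X hA hX
    have hA' := htri A fun y hy => hA.symm ▸ (mem_normalizer_iff.1 ha y).1 hy
    have hX' := htri X fun y hy => hX.symm ▸ (mem_normalizer_iff.1 hx y).1 hy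
    refine (lift_commute ?_).resolve_right fun e => ?_
    · rw [hA, hX]; exact (hc.map (MulAut.conj g).toMonoidHom).eq
    · have e1 := congrFun₂ e 0 0
      simp [Matrix.mul_apply, Fin.sum_univ_two, hA', hX'] at e1
      exact mul_ne_zero (mul_ne_zero h2 (hdiag A hA')) (hdiag X hX') (by linear_combination e1)
  have hN : ∀ a ∈ K, g * a * g⁻¹ ∈ normalizer ((hUp.toSylow hUi : Subgroup PSL) : Set PSL) := by
    intro a ha
    rw [← hg]
    refine mem_normalizer_iff.2 fun y => ?_
    rw [Sylow.coe_subgroup_smul, mem_pointwise_smul_iff_inv_smul_mem,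
      mem_pointwise_smul_iff_inv_smul_mem]
    have := mem_normalizer_iff.1 (hK ha) (g⁻¹ * y * g)
    simpa [MulAut.smul_def, mul_assoc] using this
  intro x hx ⟨y, hy, hxy⟩ a ha b hb hax hbx
  obtain ⟨X, hX⟩ := QuotientGroup.mk'_surjective (Subgroup.center SL) (g * x * g⁻¹)
  obtain ⟨A, hA⟩ := QuotientGroup.mk'_surjective (Subgroup.center SL) (g * a * g⁻¹)
  obtain ⟨B, hB⟩ := QuotientGroup.mk'_surjective (Subgroup.center SL) (g * b * g⁻¹)
  have hXn : ∃ Y, ¬ Commute X Y := exists_not_commute fun hXc => hxy (by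
    have h1 : g * x * g⁻¹ = 1 := hX.symm.trans ((QuotientGroup.eq_one_iff X).2 hXc)
    rw [conj_eq_one_iff] at h1
    rw [h1]; exact Commute.one_left y)
  have hAB := sl2_ca hXn (hlift (hN a ha) (hN x hx) hax A X hA hX) (hlift (hN b hb) (hN x hx) hbx B X hB hX)
  have h3 := congrArg π hAB.eq
  rw [map_mul, map_mul, hA, hB] at h3
  have h4 : (MulAut.conj g) (a * b) = (MulAut.conj g) (b * a) := by
    rw [map_mul, map_mul]; exact h3
  exact (MulAut.conj g).injective h4

theorem goodQ_facts {q : ℕ} (h : GoodQ q) : Odd q ∧ 7 ≤ q ∧ ¬ 16 ∣ q ^ 2 - 1 := by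
  rcases h with ⟨hq, h5, h16⟩ | ⟨p, hp, hp2, h⟩
  · have h2 : q ≠ 2 := by omega
    have hodd := hq.odd_of_ne_two h2
    refine ⟨hodd, ?_, h16⟩
    rcases Nat.lt_or_ge q 7 with h7 | h7
    · have h6 : q = 6 := by omega
      subst h6
      norm_num at hq
    · exact h7
  · obtain ⟨j, hj⟩ := hp.odd_of_ne_two hp2
    have hj1 : 1 ≤ j := by have := hp.two_le; omega
    have key : ∀ b r : ℕ, (b = 3 ∨ b = 5) → q = b ^ p → Odd q ∧ 7 ≤ q ∧ ¬ 16 ∣ q ^ 2 - 1 := by
      intro b _ hb hq
      have e : q = b * (b * b) ^ j := by rw [hq, hj, pow_succ, pow_mul, pow_two, mul_comm]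
      have h8 : (b * b) ^ j % 8 = 1 := by
        rw [Nat.pow_mod]; rcases hb with rfl | rfl <;> norm_num
      have hge : 9 ≤ (b * b) ^ j :=
        le_trans (by rcases hb with rfl | rfl <;> norm_num) (Nat.le_self_pow (by omega) _)
      have h16 : (q % 16 = 3 ∨ q % 16 = 5 ∨ q % 16 = 11 ∨ q % 16 = 13) := by
        rcases hb with rfl | rfl <;> omega
      refine ⟨Nat.odd_iff.2 (by omega), by rcases hb with rfl | rfl <;> omega, fun hd => ?_⟩
      have hsq : q ^ 2 % 16 = 9 := by
        rw [Nat.pow_mod]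
        rcases h16 with h | h | h | h <;> rw [h]
      omega
    rcases h with h | h
    · exact key 3 0 (Or.inl rfl) h
    · exact key 5 0 (Or.inr rfl) h

theorem card_facts (hq : GoodQ (Fintype.card F)) : ¬ 8 ∣ Nat.card PSL := by
  obtain ⟨hodd, h7, h16⟩ := goodQ_facts hq
  have hc := Classical.card_psl2 (F := F)
  obtain ⟨j, hj⟩ := hodd
  rw [show Nat.gcd 2 (Fintype.card F - 1) = 2 from Nat.gcd_eq_left ⟨j, by omega⟩] at hc
  intro h8
  have h' : 2 * 8 ∣ Fintype.card F * ((Fintype.card F - 1) * (Fintype.card F + 1)) := hc ▸ Nat.mul_dvd_mul_left 2 h8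
  have hco : Nat.Coprime (2 * 8) (Fintype.card F) :=
    Nat.Coprime.pow_left 4 ((Nat.prime_two.coprime_iff_not_dvd).2 (by omega) : Nat.Coprime 2 _)
  refine h16 ?_
  have e : Fintype.card F ^ 2 - 1 = (Fintype.card F - 1) * (Fintype.card F + 1) := by
    rw [mul_comm]; simpa using Nat.sq_sub_sq (Fintype.card F) 1
  rw [e]
  exact hco.dvd_of_dvd_mul_left h'

/-- All proper subgroups have the property. -/
theorem subCA_psl (hq : GoodQ (Fintype.card F)) : SubCA PSL := by
  classical
  obtain ⟨hodd, h7, -⟩ := goodQ_facts hq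
  have h8 := card_facts (F := F) hq
  obtain ⟨p, hchar⟩ := CharP.exists F
  haveI := hchar
  haveI : Fact p.Prime := ⟨CharP.char_is_prime F p⟩
  intro H hH
  rcases Cfsg.Agent.S0799.result rfl p H with ⟨k, -, ⟨hcyc, -⟩ | ⟨⟨e⟩⟩⟩ | ⟨P, K, hK, ⟨e⟩⟩ | ⟨⟨e⟩⟩ | ⟨⟨e⟩⟩ | ⟨⟨e⟩⟩ |
    ⟨K, iK, iKf, m, hm, h⟩
  · haveI := hcyc
    exact cAOn_of_comm fun a ha b hb =>
      congrArg Subtype.val (IsCyclic.commGroup.mul_comm (⟨a, ha⟩ : H) ⟨b, hb⟩)
  · exact cAOn_of_equiv e (cAOn_dihedral k)
  · have := cAOn_borel hodd p P hK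
    refine cAOn_of_equiv e ?_
    rintro x - ⟨y, -, hxy⟩ a - b - hax hbx
    exact Subtype.ext (this.commute x.2 y.2 (fun h => hxy (Subtype.ext h.eq)) a.2 b.2
      (hax.map K.subtype) (hbx.map K.subtype)).eq
  · exact cAOn_of_equiv e cAOn_alt_four
  · exfalso
    refine h8 (dvd_trans ?_ (Subgroup.card_subgroup_dvd_card H))
    rw [Nat.card_congr e.toEquiv, Nat.card_perm, Nat.card_fin]
    exact ⟨3, rfl⟩
  · exact cAOn_of_equiv e cAOn_alt_five
  · have hKodd : Odd (Fintype.card K) := by
      rcases Nat.even_or_odd (Fintype.card K) with he | ho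
      · rcases Nat.eq_zero_or_pos m with rfl | hm0
        · simp only [pow_zero] at hm; omega
        · rw [← hm] at hodd
          exact absurd (Nat.even_pow.2 ⟨he, hm0.ne'⟩) (Nat.not_even_iff_odd.2 hodd)
      · exact ho
    have hK3 : 3 ≤ Fintype.card K := by
      have := Fintype.one_lt_card (α := K)
      obtain ⟨j, hj⟩ := hKodd; omega
    rcases h with ⟨⟨e⟩⟩ | ⟨⟨e⟩⟩
    · by_cases hm1 : m = 1
      · rw [hm1, pow_one] at hm
        refine absurd (eq_top_of_card_eq H ?_) hH
        have c1 := Classical.card_psl2 (F := F)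
        have c2 := Classical.card_psl2 (F := K)
        rw [hm] at c2
        rw [Nat.card_congr e.toEquiv]
        exact Nat.eq_of_mul_eq_mul_left (Nat.gcd_pos_of_pos_left _ (by norm_num)) (c2.trans c1.symm)
      · have hm2 : 2 ≤ m := by
          rcases Nat.lt_or_ge m 2 with h | h
          · have : m = 0 := by omega
            rw [this, pow_zero] at hm; omega
          · exact h
        have hK35 : Fintype.card K = 3 ∨ Fintype.card K = 5 := by
          rcases hq with ⟨hpr, -, -⟩ | ⟨l, hl, -, hl'⟩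
          · rw [← hm] at hpr
            exact absurd hpr (Nat.Prime.not_prime_pow hm2)
          · have key : ∀ b : ℕ, b.Prime → Fintype.card F = b ^ l → Fintype.card K = b := by
              intro b hb hbl
              obtain ⟨pK, hcK⟩ := CharP.exists K
              haveI := hcK
              obtain ⟨a, hpa, ha⟩ := FiniteField.card K pK
              rw [hbl, ha, ← pow_mul] at hm
              have hbp : pK = b := (Nat.prime_dvd_prime_iff_eq hpa hb).1 (hpa.dvd_of_dvd_pow
                (hm ▸ dvd_pow_self pK (Nat.mul_ne_zero a.ne_zero (by omega))))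
              subst hbp
              have he := Nat.pow_right_injective hb.two_le hm
              rcases (Nat.dvd_prime hl).1 ⟨m, he.symm⟩ with h1 | h1
              · rw [ha, h1, pow_one]
              · rw [h1] at he
                have := hl.pos
                nlinarith
            exact hl'.imp (key 3 Nat.prime_three) (key 5 Nat.prime_five)
        rcases hK35 with h3 | h5
        · obtain ⟨e'⟩ := Cfsg.Agent.S0251.result h3
          exact cAOn_of_equiv (e.trans e') cAOn_alt_four
        · obtain ⟨e'⟩ := Cfsg.Agent.S0253.result h5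
          exact cAOn_of_equiv (e.trans e') cAOn_alt_five
    · exfalso
      refine h8 (dvd_trans ?_ (Subgroup.card_subgroup_dvd_card H))
      rw [Nat.card_congr e.toEquiv]
      have hc := Perm.Dickson.card_G2 (F := K)
      rw [Nat.card_eq_fintype_card (α := K)] at hc
      obtain ⟨j, hj⟩ := hKodd
      rw [hj, Nat.add_sub_cancel] at hc
      obtain ⟨i, hi⟩ := even_iff_two_dvd.1 (Nat.even_mul_succ_self j)
      refine ⟨(2 * j + 1) * i, hc.trans ?_⟩
      calc (2 * j + 1) * (2 * j) * (2 * j + 1 + 1) = (2 * j + 1) * (4 * (j * (j + 1))) := by ring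
        _ = _ := by rw [hi]; ring

/-- The converse direction. -/
theorem converse [Finite G] (e : G ≃* PSL) (hq : GoodQ (Fintype.card F)) :
    ¬ Group.IsSolvable G ∧ ¬ CAOn (⊤ : Subgroup G) ∧ SubCA G := by
  classical
  obtain ⟨hodd, h7, -⟩ := goodQ_facts hq
  haveI : IsSimpleGroup PSL :=
    Matrix.ProjectiveSpecialLinearGroup.rank_two_simple (by rw [Nat.card_eq_fintype_card]; omega)
  obtain ⟨x, a, b, hx1, -, ha, hb, hab⟩ := psl_exists_nonab hodd h7
  refine ⟨fun hs => ?_, fun hca => ?_, fun H hH => ?_⟩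
  · haveI := hs
    haveI : Group.IsSolvable PSL := solvable_of_surjective (f := e.toMonoidHom) e.surjective
    exact hab (IsSimpleGroup.comm_iff_isSolvable.2 inferInstance a b)
  · obtain ⟨y, hy⟩ := exists_not_commute (x := x) fun hxc => by
      rcases (inferInstance : (center PSL).Normal).eq_bot_or_eq_top with h1 | h1
      · exact hx1 (mem_bot.1 (h1 ▸ hxc))
      · exact hab (commute_of_center (h1 ▸ mem_top a) b).eq
    refine hab ?_
    have h := hca.commute (mem_top (e.symm x)) (mem_top (e.symm y))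
      (fun h => hy (e.symm.injective (by rw [map_mul, map_mul]; exact h.eq))) (mem_top (e.symm a))
      (mem_top (e.symm b)) ((show Commute a x from ha).map e.symm.toMonoidHom)
      ((show Commute b x from hb).map e.symm.toMonoidHom)
    exact e.symm.injective (by rw [map_mul, map_mul]; exact h.eq)
  · refine cAOn_of_equiv (e.subgroupMap H) ?_
    have h1 := subCA_psl hq (H.map e.toMonoidHom) fun ht => hH (eq_top_iff.2 fun g _ => by
      obtain ⟨g', hg', eg⟩ : e g ∈ H.map e.toMonoidHom := ht ▸ mem_top _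
      exact e.injective eg ▸ hg')
    rintro x - ⟨y, -, hxy⟩ a - b - hax hbx
    exact Subtype.ext (h1.commute x.2 y.2 (fun h => hxy (Subtype.ext h.eq)) a.2 b.2
      (hax.map (Subgroup.subtype _)) (hbx.map (Subgroup.subtype _))).eq

end CfsgLib.MinNonCA
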