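import Cfsg.Agent.Lib.MinNonCA.Abelian
import Cfsg.Agent.Lib.MinNonCA.Center
import Cfsg.Agent.Lib.Fusion.Tate
import Cfsg.Agent.Lib.Perm.Dickson.Recog
import Cfsg.Agent.S0483

/-!
# Perfect groups with nonabelian Sylow two-subgroups

The quotient by the centre has dihedral Sylow `2`-subgroups.
-/

set_option autoImplicit false
set_option linter.unusedSectionVars false
set_option linter.style.haveILetI false

namespace CfsgLib.MinNonCA

open Subgroup
open scoped Pointwise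

universe u

variable {G : Type u} [Group G] [Finite G]

/-- An element is the product of a power of odd order and a power of two-power order. -/
theorem exists_odd_mul_two (a : G) : ∃ (o p : G) (k : ℕ), o ∈ zpowers a ∧ p ∈ zpowers a ∧ o * p = a ∧
    Odd (orderOf o) ∧ p ^ 2 ^ k = 1 := by
  obtain ⟨k, m, hm, hkm⟩ := Nat.exists_eq_two_pow_mul_odd (orderOf_pos a).ne'
  have hcop : Nat.Coprime (2 ^ k) m := Nat.Coprime.pow_left k (Nat.coprime_two_left.2 hm)
  have hbez : (1 : ℤ) = (2 ^ k : ℕ) * Nat.gcdA (2 ^ k) m + (m : ℤ) * Nat.gcdB (2 ^ k) m := by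
    rw [← Nat.gcd_eq_gcd_ab, hcop.gcd_eq_one, Nat.cast_one]
  refine ⟨(a ^ (2 ^ k)) ^ Nat.gcdA (2 ^ k) m, (a ^ m) ^ Nat.gcdB (2 ^ k) m, k,
    zpow_mem (pow_mem (mem_zpowers a) _) _, zpow_mem (pow_mem (mem_zpowers a) _) _, ?_, ?_, ?_⟩
  · rw [← zpow_natCast, ← zpow_natCast a m, ← zpow_mul, ← zpow_mul, ← zpow_add, ← hbez, zpow_one]
  · refine hm.of_dvd_nat (orderOf_dvd_of_pow_eq_one ?_)
    rw [← zpow_natCast, ← zpow_natCast a, ← zpow_mul, ← zpow_mul]
    exact orderOf_dvd_iff_zpow_eq_one.1 ⟨Nat.gcdA (2 ^ k) m, by rw [hkm]; push_cast; ring⟩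
  · rw [← zpow_natCast, ← zpow_natCast a, ← zpow_mul, ← zpow_mul]
    exact orderOf_dvd_iff_zpow_eq_one.1 ⟨Nat.gcdB (2 ^ k) m, by rw [hkm]; push_cast; ring⟩

/-- The elements moving `t` by a central element only. -/
def shift (t : G) : Subgroup G :=
  (centralizer ({QuotientGroup.mk' (center G) t} : Set (G ⧸ center G))).comap (QuotientGroup.mk' (center G))

theorem mem_shift {t g : G} : g ∈ shift t ↔ g * t * g⁻¹ * t⁻¹ ∈ center G := by
  rw [shift, mem_comap, mem_cent]
  conv_rhs => rw [← QuotientGroup.ker_mk' (center G), MonoidHom.mem_ker, map_mul, map_mul, map_mul,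
    map_inv, map_inv, mul_inv_eq_one, mul_inv_eq_iff_eq_mul]
  exact Iff.rfl

namespace PerfCtx

variable {S : Sylow 2 G} (c : PerfCtx S)
include c

local notation "π" => QuotientGroup.mk' (center G)
local notation "Z" => center G

theorem pow_card {a : G} (ha : a ∈ (S : Subgroup G)) : ∃ n : ℕ, a ^ 2 ^ n = 1 :=
  haveI : Fact (Nat.Prime 2) := ⟨Nat.prime_two⟩
  let ⟨n, hn⟩ := S.2 ⟨a, ha⟩
  ⟨n, congrArg Subtype.val hn⟩

/-- A conjugate of an element of `S` congruent to one is one. -/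
theorem mem_of_mod {a g s : G} (ha : a ∈ (S : Subgroup G)) (hs : s ∈ (S : Subgroup G))
    (h : π (g * a * g⁻¹) = π s) : g * a * g⁻¹ ∈ (S : Subgroup G) ∧ s⁻¹ * (g * a * g⁻¹) ∈ zS (S : Subgroup G) := by
  haveI : Fact (Nat.Prime 2) := ⟨Nat.prime_two⟩
  have hz : s⁻¹ * (g * a * g⁻¹) ∈ Z := QuotientGroup.eq.1 h.symm
  obtain ⟨n, hn⟩ := S.2.exists_card_eq
  have hpow : ∀ x ∈ (S : Subgroup G), x ^ 2 ^ n = 1 := fun x hx =>
    orderOf_dvd_iff_pow_eq_one.1 (hn ▸ Subgroup.orderOf_dvd_natCard _ hx)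
  have hz2 : (s⁻¹ * (g * a * g⁻¹)) ^ 2 ^ n = 1 := by
    have h1 : (s * (s⁻¹ * (g * a * g⁻¹))) ^ 2 ^ n = 1 := by
      rw [mul_inv_cancel_left, conj_pow, hpow a ha, mul_one, mul_inv_cancel]
    rwa [((commute_of_center hz s).symm).mul_pow, hpow s hs, one_mul] at h1
  have hzS := c.mem_of_central_two hz hz2
  exact ⟨by simpa using mul_mem hs hzS, (c.mem_zS_iff hzS).2 hz⟩

theorem eq_one_iff {a : G} (ha : a ∈ (S : Subgroup G)) : π a = 1 ↔ a ∈ zS (S : Subgroup G) := by
  rw [QuotientGroup.mk'_apply, QuotientGroup.eq_one_iff, c.mem_zS_iff ha]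

theorem perfect_quotient : commutator (G ⧸ Z) = ⊤ := by
  rw [commutator_def, ← map_top_of_surjective π (QuotientGroup.mk'_surjective Z), ← map_commutator,
    ← commutator_def, c.perf]

theorem center_ne_top : Z ≠ ⊤ := fun h => by
  obtain ⟨a, -, b, -, hab⟩ := c.nonab
  exact hab (commute_of_center (h ▸ mem_top a) b)

section IndexTwo

variable {x : G} (f : First (S : Subgroup G) x)
  (hidx : ∀ s ∈ (S : Subgroup G), ∀ s' ∈ (S : Subgroup G), ¬ Commute s x → ¬ Commute s' x →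
    Commute (s * s') x)
include f hidx

theorem exists_outside : ∃ s ∈ (S : Subgroup G), ¬ Commute s x := by
  by_contra h
  push Not at h
  exact f.not_mem (mem_zS.2 ⟨f.mem, fun y hy => (h y hy).symm⟩)

theorem bar_relIndex :
    (((S : Subgroup G) ⊓ centralizer ({x} : Set G)).map π).relIndex ((S : Subgroup G).map π) = 2 := by
  obtain ⟨s₀, hs₀, hsx⟩ := c.exists_outside f hidx
  have hin : ∀ s ∈ (S : Subgroup G), π s ∈ ((S : Subgroup G) ⊓ centralizer ({x} : Set G)).map π →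
      Commute s x := by
    rintro s hs ⟨y, hy, hys⟩
    have hz : y⁻¹ * s ∈ zS (S : Subgroup G) :=
      (c.mem_zS_iff (mul_mem (inv_mem hy.1) hs)).2 (QuotientGroup.eq.1 hys)
    have := (mem_cent.1 hy.2).mul_left ((mem_zS.1 hz).2 x f.mem)
    rwa [mul_inv_cancel_left] at this
  rw [relIndex, index_eq_two_iff]
  refine ⟨⟨π s₀, mem_map_of_mem π hs₀⟩, ?_⟩
  rintro ⟨_, s, hs, rfl⟩
  rw [xor_iff_not_iff, mem_subgroupOf, mem_subgroupOf]
  intro hiff
  push_cast at hiff
  by_cases hc : Commute s x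
  · have h1 : π s ∈ ((S : Subgroup G) ⊓ centralizer ({x} : Set G)).map π :=
      mem_map_of_mem π (mem_inf.2 ⟨hs, mem_cent.2 hc⟩)
    have h2 := hin _ (mul_mem hs hs₀) (by rw [map_mul]; exact hiff.2 h1)
    refine hsx ?_
    have := hc.inv_left.mul_left h2
    rwa [inv_mul_cancel_left] at this
  · refine hc (hin s hs (hiff.1 ?_))
    rw [← map_mul]
    exact mem_map_of_mem π (mem_inf.2 ⟨mul_mem hs hs₀, mem_cent.2 (hidx s hs s₀ hs₀ hc hsx)⟩)

/-- An element outside the centralizer of `x` has a conjugate inside it. -/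
theorem exists_conj_inside {s : G} (hs : s ∈ (S : Subgroup G)) (hsx : ¬ Commute s x) :
    ∃ g : G, g * s * g⁻¹ ∈ (S : Subgroup G) ∧ Commute (g * s * g⁻¹) x := by
  haveI : Fact (Nat.Prime 2) := ⟨Nat.prime_two⟩
  set P := S.mapSurjective (QuotientGroup.mk'_surjective Z) with hP
  set Q := ((S : Subgroup G) ⊓ centralizer ({x} : Set G)).map π with hQ
  by_contra hno
  push Not at hno
  have hu : π s ^ 2 = 1 := by
    rw [pow_two, ← map_mul, c.eq_one_iff (mul_mem hs hs)]
    exact f.sq_mem c.twoCtx hs hsx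
  have hnone : ∀ y, y * π s * y⁻¹ ∉ Q := by
    intro y hy
    obtain ⟨g, rfl⟩ := QuotientGroup.mk'_surjective Z y
    obtain ⟨a, ha, hag⟩ := hy
    obtain ⟨h1, h2⟩ := c.mem_of_mod hs ha.1 (g := g) (by rw [hag, map_mul, map_mul, map_inv])
    refine hno g h1 ?_
    have := (mem_cent.1 ha.2).mul_left ((mem_zS.1 h2).2 x f.mem)
    rwa [mul_inv_cancel_left] at this
  obtain ⟨M, hMn, hM2, -⟩ := Fusion.thompson_transfer P (Q := Q) (map_mono inf_le_left)
    (c.bar_relIndex f hidx) hu hnone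
  haveI := hMn
  have := eq_top_of_not_four c.perfect_quotient M (by rw [hM2]; norm_num)
  rw [this, index_top] at hM2
  norm_num at hM2

theorem first_of_sq {y : G} (hy : y ∈ (S : Subgroup G)) (hyx : Commute y x)
    (hy2 : y * y ∈ zS (S : Subgroup G)) (hyz : y ∉ zS (S : Subgroup G)) : First (S : Subgroup G) y := by
  refine ⟨hy, hyz, hy2, fun s hs => ?_⟩
  by_cases hsx : Commute s x
  · rw [(f.commY c.twoCtx hs hy hsx hyx).eq, mul_inv_cancel_right, mul_inv_cancel]
    exact one_mem _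
  · have h1 := f.inverts c.twoCtx hs hsx hy hyx
    have : s * y * s⁻¹ * y⁻¹ = s * y * s⁻¹ * y * (y * y)⁻¹ := by group
    rw [this]
    exact mul_mem h1 (inv_mem hy2)

/-- There is only one involution of the centralizer of `x` modulo the centre. -/
theorem unique_sq {v₁ v₂ : G} (h₁ : v₁ ∈ (S : Subgroup G)) (h₁x : Commute v₁ x)
    (h₁2 : v₁ * v₁ ∈ zS (S : Subgroup G)) (h₁z : v₁ ∉ zS (S : Subgroup G))
    (h₂ : v₂ ∈ (S : Subgroup G)) (h₂x : Commute v₂ x)
    (h₂2 : v₂ * v₂ ∈ zS (S : Subgroup G)) (h₂z : v₂ ∉ zS (S : Subgroup G)) :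
    v₁ * v₂ ∈ zS (S : Subgroup G) := by
  haveI : Fact (Nat.Prime 2) := ⟨Nat.prime_two⟩
  by_contra h₃z
  have h12 := f.commY c.twoCtx h₁ h₂ h₁x h₂x
  have h₃2 : v₁ * v₂ * (v₁ * v₂) ∈ zS (S : Subgroup G) := by
    rw [← pow_two, h12.mul_pow, pow_two, pow_two]
    exact mul_mem h₁2 h₂2
  obtain ⟨s, hs, hsx⟩ := c.exists_outside f hidx
  obtain ⟨g, hgS, hgx⟩ := c.exists_conj_inside f hidx hs hsx
  set y := g * s * g⁻¹ with hy
  have hy2 : y * y ∈ zS (S : Subgroup G) := by
    refine (c.mem_zS_iff (mul_mem hgS hgS)).2 ?_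
    rw [show y * y = g * (s * s) * g⁻¹ by rw [hy]; group]
    exact (inferInstance : (center G).Normal).conj_mem _ (c.zS_le_center (f.sq_mem c.twoCtx hs hsx)) g
  have hyz : y ∉ zS (S : Subgroup G) := fun h => by
    have hsc := (inferInstance : (center G).Normal).conj_mem _ (c.zS_le_center h) g⁻¹
    rw [show g⁻¹ * y * g⁻¹⁻¹ = s by rw [hy]; group] at hsc
    exact hsx (commute_of_center hsc x)
  have fy := c.first_of_sq f hidx hgS hgx hy2 hyz
  -- the subgroup spanned by `s` and the two elements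
  set X := closure ({s, v₁, v₂} : Set G) with hX
  have hXS : X ≤ (S : Subgroup G) := (closure_le _).2 (by
    rintro a (rfl | rfl | rfl) <;> assumption)
  have hgX : Fusion.conjBy g X ≤ shift y := by
    have hcom : ∀ v ∈ (S : Subgroup G), Commute v x → v * v ∈ zS (S : Subgroup G) →
        g * v * g⁻¹ ∈ shift y := by
      intro v hv hvx hv2
      rw [mem_shift]
      have h1 := f.inverts c.twoCtx hs hsx hv hvx
      have e : g * v * g⁻¹ * y * (g * v * g⁻¹)⁻¹ * y⁻¹ =
          g * ((s * v * s⁻¹ * v) * (v * v)⁻¹)⁻¹ * g⁻¹ := by rw [hy]; group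
      rw [e]
      exact (inferInstance : (center G).Normal).conj_mem _
        (c.zS_le_center (inv_mem (mul_mem h1 (inv_mem hv2)))) g
    rw [Fusion.conjBy_le_iff, hX]
    intro a ha
    induction ha using closure_induction with
    | mem a ha =>
      rcases ha with rfl | rfl | rfl
      · rw [mem_shift, ← hy, mul_inv_cancel_right, mul_inv_cancel]; exact one_mem _
      · exact hcom _ h₁ h₁x h₁2
      · exact hcom _ h₂ h₂x h₂2
    | one => simp
    | mul a b _ _ ha hb => rw [show g * (a * b) * g⁻¹ = (g * a * g⁻¹) * (g * b * g⁻¹) by group]; exact mul_mem ha hb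
    | inv a _ ha => rw [show g * a⁻¹ * g⁻¹ = (g * a * g⁻¹)⁻¹ by group]; exact inv_mem ha
  have hSW : (S : Subgroup G) ≤ shift y := fun a ha => mem_shift.2 (c.zS_le_center (fy.comm a ha))
  have hidx2 : ¬ 2 ∣ (S : Subgroup G).relIndex (shift y) := fun hd => S.not_dvd_index (by
    rw [← relIndex_mul_index hSW]; exact dvd_mul_of_dvd_left hd _)
  obtain ⟨m, hm, hmX⟩ := Fusion.exists_conj_le_of_not_dvd_relIndex S.2 hSW hidx2
    ((S.2.to_le hXS).map _) hgX
  set k := m * g with hk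
  have hkS : ∀ a ∈ X, k * a * k⁻¹ ∈ (S : Subgroup G) := fun a ha => by
    have := Fusion.conjBy_le_iff.1 hmX (g * a * g⁻¹) ⟨a, ha, rfl⟩
    rwa [show m * (g * a * g⁻¹) * m⁻¹ = k * a * k⁻¹ by rw [hk]; group] at this
  have hks : Commute (k * s * k⁻¹) x := by
    have hz : m * y * m⁻¹ * y⁻¹ ∈ zS (S : Subgroup G) := by
      have e : m * y * m⁻¹ = k * s * k⁻¹ := by rw [hk, hy]; group
      refine (c.mem_zS_iff (mul_mem ?_ (inv_mem hgS))).2 (mem_shift.1 hm)
      rw [e]; exact hkS s (subset_closure (by simp))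
    have e : k * s * k⁻¹ = (m * y * m⁻¹ * y⁻¹) * y := by rw [hk, hy]; group
    rw [e]
    exact ((mem_zS.1 hz).2 x f.mem).mul_left hgx
  have hbad : ∀ v ∈ X, Commute v x → v ∉ zS (S : Subgroup G) → ¬ Commute (k * v * k⁻¹) x := by
    intro v hv hvx hvz hkv
    have h1 := f.commY c.twoCtx (hkS s (subset_closure (by simp))) (hkS v hv) hks hkv
    have h2 : Commute s v := by
      have := h1.map (MulAut.conj k⁻¹).toMonoidHom
      simpa [MulAut.conj_apply, mul_assoc] using this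
    exact hsx (f.cent_eq c.twoCtx (hXS hv) hvx hvz hs h2)
  have m₁ : v₁ ∈ X := subset_closure (by simp)
  have m₂ : v₂ ∈ X := subset_closure (by simp)
  refine hbad _ (mul_mem m₁ m₂) (h₁x.mul_left h₂x) h₃z ?_
  rw [show k * (v₁ * v₂) * k⁻¹ = (k * v₁ * k⁻¹) * (k * v₂ * k⁻¹) by group]
  exact hidx _ (hkS v₁ m₁) _ (hkS v₂ m₂) (hbad v₁ m₁ h₁x h₁z) (hbad v₂ m₂ h₂x h₂z)

theorem dihedral_bar : ∃ n, 2 ≤ n ∧ Nonempty (((S : Subgroup G).map π : Subgroup (G ⧸ Z)) ≃* DihedralGroup n) := by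
  classical
  haveI : Fact (Nat.Prime 2) := ⟨Nat.prime_two⟩
  set Sb := (S : Subgroup G).map π with hSb
  set C := (((S : Subgroup G) ⊓ centralizer ({x} : Set G)).map π).subgroupOf Sb with hC
  have hidx2 : C.index = 2 := c.bar_relIndex f hidx
  have hcard : 2 * Nat.card C = Nat.card Sb := by rw [← hidx2, mul_comm, card_mul_index]
  have hout : ∀ g : Sb, g ∉ C → g * g = 1 := by
    rintro ⟨_, s, hs, rfl⟩ hg
    refine Subtype.ext ?_
    show π s * π s = 1
    rw [← map_mul, c.eq_one_iff (mul_mem hs hs)]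
    exact f.sq_mem c.twoCtx hs fun hc =>
      hg (mem_subgroupOf.2 (mem_map_of_mem π (mem_inf.2 ⟨hs, mem_cent.2 hc⟩)))
  have hlift : ∀ z : C, ∃ v ∈ (S : Subgroup G), Commute v x ∧ π v = ((z : Sb) : G ⧸ Z) := by
    intro z
    obtain ⟨v, hv, e⟩ := mem_subgroupOf.1 z.2
    exact ⟨v, hv.1, mem_cent.1 hv.2, e⟩
  haveI : IsMulCommutative C := ⟨⟨fun a b => by
    obtain ⟨v, hv, hvx, ev⟩ := hlift a
    obtain ⟨w, hw, hwx, ew⟩ := hlift b
    refine Subtype.ext (Subtype.ext ?_)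
    push_cast
    rw [← ev, ← ew, ← map_mul, ← map_mul, (f.commY c.twoCtx hv hw hvx hwx).eq]⟩⟩
  have hcyc : IsCyclic C := by
    by_contra hn
    obtain ⟨r, y, z, hr, hy, hz, hz1, hyz⟩ := Coprime.exists_elementary_pair_of_not_cyclic hn
    have hCp : IsPGroup 2 C := (S.2.map π).to_subgroup C
    have hr2 : r = 2 := by
      haveI := Fact.mk hr
      obtain ⟨j, hj⟩ := hCp z
      have h1 : orderOf z = r := orderOf_eq_prime hz hz1
      exact (Nat.prime_dvd_prime_iff_eq hr Nat.prime_two).1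
        (hr.dvd_of_dvd_pow (h1 ▸ orderOf_dvd_of_pow_eq_one hj))
    subst hr2
    obtain ⟨v, hv, hvx, ev⟩ := hlift y
    obtain ⟨w, hw, hwx, ew⟩ := hlift z
    have sqz : ∀ {u : G}, u ∈ (S : Subgroup G) → ∀ {a : C}, π u = ((a : Sb) : G ⧸ Z) → a ^ 2 = 1 →
        u * u ∈ zS (S : Subgroup G) := by
      intro u hu a e ha
      rw [← c.eq_one_iff (mul_mem hu hu), map_mul, e, ← pow_two]
      exact congrArg (fun b : C => ((b : Sb) : G ⧸ Z)) ha
    have hy1 : y ≠ 1 := fun e => hyz (e ▸ one_mem _)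
    have hne : ∀ {u : G}, u ∈ (S : Subgroup G) → ∀ {a : C}, π u = ((a : Sb) : G ⧸ Z) → a ≠ 1 →
        u ∉ zS (S : Subgroup G) := by
      intro u hu a e ha huz
      exact ha (Subtype.ext (Subtype.ext (e.symm.trans ((c.eq_one_iff hu).2 huz))))
    have h := c.unique_sq f hidx hv hvx (sqz hv ev hy) (hne hv ev hy1) hw hwx (sqz hw ew hz) (hne hw ew hz1)
    rw [← c.eq_one_iff (mul_mem hv hw), map_mul, ev, ew] at h
    have h' : y * z = 1 := Subtype.ext (Subtype.ext h)
    exact hyz (by rw [eq_inv_of_mul_eq_one_left h']; exact inv_mem (mem_zpowers z))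
  refine ⟨Nat.card C, ?_, Perm.Dickson.mulEquiv_dihedral hcyc hcard hout⟩
  have hxC : (⟨π x, mem_map_of_mem π f.mem⟩ : Sb) ∈ C :=
    mem_subgroupOf.2 (mem_map_of_mem π (mem_inf.2 ⟨f.mem, mem_cent.2 (Commute.refl x)⟩))
  haveI : Nontrivial C := ⟨⟨⟨_, hxC⟩, 1, fun e => f.not_mem ((c.eq_one_iff f.mem).1
    (congrArg (fun b : C => ((b : Sb) : G ⧸ Z)) e))⟩⟩
  exact Finite.one_lt_card

end IndexTwo

/-- The case of elementary quotient. -/
theorem bar_comm (hB : ∀ x, First (S : Subgroup G) x → ∃ s ∈ (S : Subgroup G), ∃ s' ∈ (S : Subgroup G),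
      ¬ Commute s x ∧ ¬ Commute s' x ∧ ¬ Commute (s * s') x)
    {t : G} (ht : t ∈ (S : Subgroup G)) (htz : t ∉ zS (S : Subgroup G)) {g h : G}
    (hg : g ∈ shift t) (hh : h ∈ shift t) : π g * π h = π h * π g := by
  classical
  haveI : Fact (Nat.Prime 2) := ⟨Nat.prime_two⟩
  have hsq : ∀ a ∈ (S : Subgroup G), a * a ∈ zS (S : Subgroup G) := by
    obtain ⟨x, fx⟩ := c.twoCtx.exists_first'
    obtain ⟨s, hs, s', hs', h1, h2, h3⟩ := hB x fx
    rcases fx.elementary_or_index c.twoCtx with hel | hidx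
    · exact hel
    · exact absurd (hidx s hs s' hs' h1 h2) h3
  have hcomS : ∀ a ∈ (S : Subgroup G), ∀ b ∈ (S : Subgroup G), a * b * a⁻¹ * b⁻¹ ∈ Z := fun a ha b hb =>
    c.zS_le_center (comm_of_sq hsq ha hb)
  have ft : First (S : Subgroup G) t := ⟨ht, htz, hsq t ht, fun s hs => comm_of_sq hsq hs ht⟩
  have htc : t ∉ Z := fun h => htz ((c.mem_zS_iff ht).2 h)
  have hSW : (S : Subgroup G) ≤ shift t := fun a ha => mem_shift.2 (hcomS a ha t ht)
  have hnn : ¬ NonabCent t := fun hn => htz (mem_zS.2 ⟨ht, fun y hy =>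
    (commute_of_shift c.sub hn (cent_not_normal c.perf c.sub hn htc) (mem_shift.1 (hSW hy))
      (by rw [← (commute_of_center (mem_shift.1 (hSW hy)) t).eq]; group)).symm⟩)
  have hAcomm : ∀ {a b : G}, Commute a t → Commute b t → Commute a b := fun {a b} ha hb =>
    by_contra fun hab => hnn ⟨a, b, ha, hb, hab⟩
  have hAn : ∀ w ∈ shift t, ∀ a, Commute a t → Commute (w * a * w⁻¹) t := by
    intro w hw a ha
    obtain ⟨z, hz, e⟩ : ∃ z ∈ Z, w * t * w⁻¹ = z * t := ⟨_, mem_shift.1 hw, by group⟩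
    have h1 : Commute (w * a * w⁻¹) (w * t * w⁻¹) := ha.map (MulAut.conj w).toMonoidHom
    rw [e] at h1
    have h2 := (commute_of_center (inv_mem hz) (w * a * w⁻¹)).symm.mul_right h1
    rwa [inv_mul_cancel_left] at h2
  -- the odd part of the centralizer
  let O : Subgroup G :=
    { carrier := {a | Commute a t ∧ Odd (orderOf a)}
      one_mem' := ⟨Commute.one_left t, by simp⟩
      mul_mem' := fun {a b} ha hb => ⟨ha.1.mul_left hb.1,
        (ha.2.mul hb.2).of_dvd_nat (hAcomm ha.1 hb.1).orderOf_mul_dvd_mul_orderOf⟩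
      inv_mem' := fun {a} ha => ⟨ha.1.inv_left, by rw [orderOf_inv]; exact ha.2⟩ }
  have memO : ∀ {a}, a ∈ O ↔ Commute a t ∧ Odd (orderOf a) := Iff.rfl
  have hOn : shift t ≤ normalizer (O : Set G) := by
    intro w hw
    refine mem_normalizer_iff.2 fun a => ?_
    have ho : orderOf (w * a * w⁻¹) = orderOf a := (orderOf_injective (MulAut.conj w).toMonoidHom
      (MulAut.conj w).injective a)
    rw [memO, memO, ho]
    refine ⟨fun h => ⟨hAn w hw a h.1, h.2⟩, fun h => ⟨?_, h.2⟩⟩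
    have := hAn w⁻¹ (inv_mem hw) _ h.1
    simpa [mul_assoc] using this
  have hOW : O ≤ shift t := fun a ha => mem_shift.2 (by
    rw [(memO.1 ha).1.eq, mul_inv_cancel_right, mul_inv_cancel]; exact one_mem _)
  -- two-elements of the centralizer lie in `S`
  have hA2 : ∀ {a : G} {k : ℕ}, Commute a t → a ^ 2 ^ k = 1 → a ∈ (S : Subgroup G) := by
    intro a k ha hk
    let D : Subgroup G :=
      { carrier := {b | Commute b t ∧ ∃ j : ℕ, b ^ 2 ^ j = 1}
        one_mem' := ⟨Commute.one_left t, 0, one_pow _⟩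
        mul_mem' := fun {a b} ⟨ha, i, hi⟩ ⟨hb, j, hj⟩ => ⟨ha.mul_left hb, i + j, by
          rw [(hAcomm ha hb).mul_pow, pow_add, pow_mul, hi, one_pow, mul_comm, pow_mul, hj, one_pow, one_mul]⟩
        inv_mem' := fun {a} ⟨ha, i, hi⟩ => ⟨ha.inv_left, i, by rw [inv_pow, hi, inv_one]⟩ }
    have hD : IsPGroup 2 D := fun b => by
      obtain ⟨-, j, hj⟩ := b.2
      exact ⟨j, Subtype.ext (by rw [SubmonoidClass.coe_pow, hj, OneMemClass.coe_one])⟩
    have hn : (S : Subgroup G) ≤ normalizer (D : Set G) := by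
      intro w hw
      refine mem_normalizer_iff.2 fun b => ⟨fun ⟨hb, j, hj⟩ => ⟨hAn w (hSW hw) b hb, j, by
        rw [conj_pow, hj, mul_one, mul_inv_cancel]⟩, fun ⟨hb, j, hj⟩ => ⟨?_, j, ?_⟩⟩
      · have := hAn w⁻¹ (hSW (inv_mem hw)) _ hb
        simpa [mul_assoc] using this
      · rw [conj_pow] at hj; exact conj_eq_one_iff.1 hj
    have h1 := S.3 (IsPGroup.to_sup_of_normal_right' S.2 hD hn) le_sup_left
    exact h1.le (mem_sup_right (show a ∈ D from ⟨ha, k, hk⟩))
  -- the shift group is `O S`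
  set X := O ⊔ (S : Subgroup G) with hX
  have hXW : X ≤ shift t := sup_le hOW hSW
  have hWX : shift t ≤ X := by
    have hAX : ∀ a, Commute a t → a ∈ X := by
      intro a ha
      obtain ⟨o, p, k, ho, hp, e, hodd, hk⟩ := exists_odd_mul_two a
      have hza : zpowers a ≤ centralizer ({t} : Set G) := zpowers_le.2 (mem_cent.2 ha)
      rw [← e]
      exact mul_mem (mem_sup_left (memO.2 ⟨mem_cent.1 (hza ho), hodd⟩))
        (mem_sup_right (hA2 (mem_cent.1 (hza hp)) hk))
    set W := shift t with hW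
    set A' := (centralizer ({t} : Set G)).subgroupOf W with hA'
    haveI hA'n : A'.Normal := ⟨fun a ha w => by
      rw [hA', mem_subgroupOf, mem_cent] at ha ⊢
      push_cast
      exact hAn w w.2 a ha⟩
    have hsqt : ∀ v ∈ W, Commute (v * v) t := by
      intro v hv
      obtain ⟨z, hz, e⟩ : ∃ z ∈ Z, v * t * v⁻¹ = z * t := ⟨_, mem_shift.1 hv, by group⟩
      have htt : t * t ∈ Z := c.zS_le_center (hsq t ht)
      have hvz : v * (z * t) = z * (v * t) := by
        rw [← mul_assoc, ← (commute_of_center hz v).eq, mul_assoc]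
      have hz2 : z * z = 1 := by
        have h1 : v * (t * t) * v⁻¹ = t * t := by
          rw [← (commute_of_center htt v).eq, mul_inv_cancel_right]
        rw [show v * (t * t) * v⁻¹ = (v * t * v⁻¹) * (v * t * v⁻¹) by group, e,
          show z * t * (z * t) = z * (t * z) * t by group, ← (commute_of_center hz t).eq,
          show z * (z * t) * t = z * z * (t * t) by group] at h1
        exact mul_eq_right.1 h1
      refine mul_inv_eq_iff_eq_mul.1 ?_
      calc v * v * t * (v * v)⁻¹ = v * (v * t * v⁻¹) * v⁻¹ := by group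
        _ = z * (v * t * v⁻¹) := by rw [e, hvz, ← e]; group
        _ = t := by rw [e, ← mul_assoc, hz2, one_mul]
    have hq : IsPGroup 2 (W ⧸ A') := fun q => by
      obtain ⟨v, rfl⟩ := QuotientGroup.mk'_surjective A' q
      refine ⟨1, ?_⟩
      rw [pow_one, pow_two, ← map_mul]
      exact (QuotientGroup.eq_one_iff _).2 (mem_subgroupOf.2 (mem_cent.2 (hsqt v v.2)))
    obtain ⟨k, hk⟩ := hq.exists_card_eq
    have hSd : (S : Subgroup G).relIndex W ∣ (S : Subgroup G).index := relIndex_dvd_index_of_le hSW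
    have hodd : Nat.Coprime (2 ^ k) ((S : Subgroup G).relIndex W) :=
      Nat.Coprime.pow_left k ((Nat.prime_two.coprime_iff_not_dvd).2 fun hd => S.not_dvd_index (hd.trans hSd))
    have h1 : X.relIndex W = 1 := by
      refine Nat.eq_one_of_dvd_coprimes hodd ?_ (relIndex_dvd_of_le_left W le_sup_right)
      rw [← hk, ← Subgroup.index_eq_card, hA']
      exact relIndex_dvd_of_le_left W (fun a ha => hAX a (mem_cent.1 ha))
    exact relIndex_eq_one.1 h1
  -- elements of `O` fixed outside the centralizer of `t` are fixed by `S`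
  have hfix : ∀ o ∈ O, ∀ u ∈ (S : Subgroup G), ¬ Commute u t → Commute o u →
      ∀ y ∈ (S : Subgroup G), Commute o y := by
    intro o ho u hu hut hou
    by_cases hoc : o ∈ Z
    · exact fun y _ => commute_of_center hoc y
    have hot := (memO.1 ho).1
    -- a largest two-subgroup centralizing `o` and containing `t` and `u`
    obtain ⟨P, ⟨hP2, hPc, htP, huP⟩, hPmax⟩ := Set.exists_max_image
      {P : Subgroup G | IsPGroup 2 P ∧ P ≤ centralizer ({o} : Set G) ∧ t ∈ P ∧ u ∈ P}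
      (fun P => Nat.card P) (Set.toFinite _)
      ⟨(S : Subgroup G) ⊓ centralizer ({o} : Set G), S.2.to_le inf_le_left, inf_le_right,
        mem_inf.2 ⟨ht, mem_cent.2 hot.symm⟩, mem_inf.2 ⟨hu, mem_cent.2 hou.symm⟩⟩
    obtain ⟨T, hPT⟩ := hP2.exists_le_sylow
    have hPT' : P = (T : Subgroup G) := by
      refine le_antisymm hPT ?_
      by_contra hle
      obtain ⟨q, hqT, hqN, hqP⟩ := Invol.exists_mem_normalizer_notMem T.2 hPT hle
      have hH : normalizer (P : Set G) ≠ ⊤ := fun h => by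
        haveI : P.Normal := normalizer_eq_top_iff.1 h
        haveI : Group.IsNilpotent P := hP2.isNilpotent
        exact htc (c.solvable_central P htP)
      have hoN : o ∈ normalizer (P : Set G) := by
        refine mem_normalizer_iff.2 fun a => ⟨fun ha => ?_, fun ha => ?_⟩
        · rw [← (mem_cent.1 (hPc ha)).eq, mul_inv_cancel_right]; exact ha
        · have h1 : Commute a o := by
            have := (mem_cent.1 (hPc ha)).map (MulAut.conj o⁻¹).toMonoidHom
            simpa [MulAut.conj_apply, mul_assoc] using this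
          rwa [← h1.eq, mul_inv_cancel_right] at ha
      have hqo := (c.sub _ hH).central hoN (le_normalizer htP) (le_normalizer huP) hot.symm hou.symm
        (fun h => hut h.symm) hqN
      have hbig := hPmax (P ⊔ zpowers q) ⟨T.2.to_le (sup_le hPT (zpowers_le.2 hqT)),
        sup_le hPc (zpowers_le.2 (mem_cent.2 hqo.symm)), mem_sup_left htP, mem_sup_left huP⟩
      exact hqP ((eq_of_le_of_card_ge (le_sup_left : P ≤ P ⊔ zpowers q) hbig).symm ▸
        mem_sup_right (mem_zpowers q))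
    obtain ⟨g, hg⟩ := MulAction.exists_smul_eq G S T
    have hTS : ∀ a ∈ (T : Subgroup G), ∃ a' ∈ (S : Subgroup G), a = g * a' * g⁻¹ := by
      intro a ha
      rw [← hg, Sylow.coe_subgroup_smul] at ha
      obtain ⟨a', ha', e⟩ := ha
      exact ⟨a', ha', e.symm⟩
    have hTW : (T : Subgroup G) ≤ shift t := by
      intro a ha
      obtain ⟨a', ha', rfl⟩ := hTS a ha
      obtain ⟨t', ht', et⟩ := hTS t (hPT' ▸ htP)
      rw [mem_shift, et, show g * a' * g⁻¹ * (g * t' * g⁻¹) * (g * a' * g⁻¹)⁻¹ * (g * t' * g⁻¹)⁻¹ =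
        g * (a' * t' * a'⁻¹ * t'⁻¹) * g⁻¹ by group]
      exact (inferInstance : (center G).Normal).conj_mem _ (hcomS a' ha' t' ht') g
    have hidx2 : ¬ 2 ∣ (S : Subgroup G).relIndex (shift t) := fun hd =>
      S.not_dvd_index (hd.trans (relIndex_dvd_index_of_le hSW))
    obtain ⟨m, hm, hmT⟩ := Fusion.exists_conj_le_of_not_dvd_relIndex S.2 hSW hidx2 T.2 hTW
    have hmX : m⁻¹ ∈ (↑X : Set G) := hWX (inv_mem hm)
    rw [hX, coe_mul_of_right_le_normalizer_left O _ (hSW.trans hOn)] at hmX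
    obtain ⟨o', ho', s', hs', hm'⟩ := hmX
    have hm'' : o' * s' = m⁻¹ := hm'
    have hle : Fusion.conjBy m (T : Subgroup G) = (S : Subgroup G) :=
      eq_of_le_of_card_ge hmT (le_of_eq (by
        rw [Fusion.card_conjBy, ← hg, Sylow.coe_subgroup_smul]
        exact Nat.card_congr (Subgroup.equivSMul (MulAut.conj g) (S : Subgroup G)).toEquiv))
    intro y hy
    have hy' : s'⁻¹ * y * s' ∈ (S : Subgroup G) := mul_mem (mul_mem (inv_mem hs') hy) hs'
    rw [← hle] at hy'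
    obtain ⟨a, ha, e⟩ := hy'
    have e' : a = o' * y * o'⁻¹ := by
      have e1 : m * a * m⁻¹ = s'⁻¹ * y * s' := e
      calc a = m⁻¹ * (m * a * m⁻¹) * m := by group
        _ = (o' * s') * (s'⁻¹ * y * s') * (o' * s')⁻¹ := by rw [e1, hm'', inv_inv]
        _ = _ := by group
    have h1 : Commute a o := mem_cent.1 (hPc (hPT'.symm ▸ ha))
    have h2 : Commute o' o := hAcomm (memO.1 ho').1 hot
    rw [e'] at h1
    have h3 := h1.symm.map (MulAut.conj o'⁻¹).toMonoidHom
    simp only [MulEquiv.coe_toMonoidHom, MulAut.conj_apply] at h3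
    rw [show o'⁻¹ * o * o'⁻¹⁻¹ = o by rw [inv_inv, mul_assoc, ← h2.eq, inv_mul_cancel_left],
      show o'⁻¹ * (o' * y * o'⁻¹) * o'⁻¹⁻¹ = y by group] at h3
    exact h3
  -- `S` centralizes `O`
  have hSO : ∀ o ∈ O, ∀ y ∈ (S : Subgroup G), Commute o y := by
    obtain ⟨u₁, hu₁, u₂, hu₂, h₁, h₂, h₃⟩ := hB t ft
    intro o ho y hy
    have hconj : ∀ u ∈ (S : Subgroup G), ∀ a ∈ O, u * a * u⁻¹ ∈ O := fun u hu a ha =>
      (mem_normalizer_iff.1 (hOn (hSW hu)) a).1 ha
    have hfx : ∀ u ∈ (S : Subgroup G), ¬ Commute u t → ∀ a ∈ O, ∀ y ∈ (S : Subgroup G),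
        Commute (a * (u * a * u⁻¹)) y := by
      intro u hu hut a ha
      have hb : u * a * u⁻¹ ∈ O := hconj u hu a ha
      refine hfix _ (mul_mem ha hb) u hu hut ?_
      have hu2 : Commute (u * u) a := commute_of_center (c.zS_le_center (hsq u hu)) a
      refine (mul_inv_eq_iff_eq_mul.1 (show u * (a * (u * a * u⁻¹)) * u⁻¹ = a * (u * a * u⁻¹) from ?_)).symm
      calc u * (a * (u * a * u⁻¹)) * u⁻¹ = (u * a * u⁻¹) * ((u * u) * a * (u * u)⁻¹) := by group
        _ = (u * a * u⁻¹) * a := by rw [hu2.eq, mul_inv_cancel_right]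
        _ = _ := (hAcomm (memO.1 hb).1 (memO.1 ha).1).eq
    set o₁ := u₁ * o * u₁⁻¹ with ho₁
    set o₂ := u₂ * o * u₂⁻¹ with ho₂
    have k₁ := hfx u₁ hu₁ h₁ o ho
    have k₂ := hfx u₂ hu₂ h₂ o ho
    have k₃ := hfx _ (mul_mem hu₁ hu₂) h₃ o ho
    have hm₁ := hconj u₁ hu₁ o ho
    have hm₂ := hconj u₂ hu₂ o ho
    -- the product with the third conjugate
    have e₃ : u₁ * u₂ * o * (u₁ * u₂)⁻¹ = (o * o₂) * o₁⁻¹ := by
      have hc : Commute o o₂ := hAcomm (memO.1 ho).1 (memO.1 hm₂).1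
      calc u₁ * u₂ * o * (u₁ * u₂)⁻¹ = u₁ * o₂ * u₁⁻¹ := by rw [ho₂]; group
        _ = u₁ * (o⁻¹ * (o * o₂)) * u₁⁻¹ := by rw [inv_mul_cancel_left]
        _ = o₁⁻¹ * (u₁ * (o * o₂) * u₁⁻¹) := by rw [ho₁]; group
        _ = o₁⁻¹ * (o * o₂) := by rw [← (k₂ u₁ hu₁).eq, mul_inv_cancel_right]
        _ = _ := (hAcomm ((memO.1 hm₁).1.inv_left) ((memO.1 ho).1.mul_left (memO.1 hm₂).1)).eq
    have h4 := k₃ y hy
    rw [e₃] at h4
    -- the square is centralized
    have hc1 : Commute o o₁ := hAcomm (memO.1 ho).1 (memO.1 hm₁).1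
    have hc2 : Commute o (o * o₂) := hAcomm (memO.1 ho).1 ((memO.1 ho).1.mul_left (memO.1 hm₂).1)
    have e : o * o = o * (o * o₂ * o₁⁻¹) * (o * o₂)⁻¹ * (o * o₁) := by
      have hc3 : Commute o₁⁻¹ (o * o₂)⁻¹ :=
        hAcomm ((memO.1 hm₁).1.inv_left) ((memO.1 ho).1.mul_left (memO.1 hm₂).1).inv_left
      calc o * o = o * (o₁⁻¹ * (o * o₁)) := by rw [hc1.eq, inv_mul_cancel_left]
        _ = o * (o * o₂ * (o₁⁻¹ * (o * o₂)⁻¹)) * (o * o₁) := by rw [hc3.eq]; group
        _ = _ := by group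
    have h5 : Commute (o * o) y := by
      rw [e]
      exact (h4.mul_left (k₂ y hy).inv_left).mul_left (k₁ y hy)
    exact CfsgLib.AbCent.commute_of_sq (memO.1 ho).2 (by rwa [pow_two])
  -- conclusion
  have hgen : X.map π = closure (π '' ((O : Set G) ∪ (S : Subgroup G))) := by
    rw [hX, ← MonoidHom.map_closure, Subgroup.closure_union, Subgroup.closure_eq, Subgroup.closure_eq]
  haveI hcomm : IsMulCommutative (X.map π) := by
    rw [hgen]
    refine Subgroup.isMulCommutative_closure ?_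
    rintro _ ⟨a, ha, rfl⟩ _ ⟨b, hb, rfl⟩
    rw [← map_mul, ← map_mul]
    rcases ha with ha | ha <;> rcases hb with hb | hb
    · rw [(hAcomm (memO.1 ha).1 (memO.1 hb).1).eq]
    · rw [(hSO a ha b hb).eq]
    · rw [(hSO b hb a ha).eq]
    · refine (QuotientGroup.eq).2 ?_
      have := hcomS b⁻¹ (inv_mem hb) a⁻¹ (inv_mem ha)
      rwa [show b⁻¹ * a⁻¹ * b⁻¹⁻¹ * a⁻¹⁻¹ = (a * b)⁻¹ * (b * a) by group] at this
  exact congrArg Subtype.val (mul_comm' (⟨_, mem_map_of_mem π (hWX hg)⟩ : X.map π) ⟨_, mem_map_of_mem π (hWX hh)⟩)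

/-- The centralizer of some first involution has index two. -/
theorem exists_index_two : ∃ x, First (S : Subgroup G) x ∧ ∀ s ∈ (S : Subgroup G), ∀ s' ∈ (S : Subgroup G),
      ¬ Commute s x → ¬ Commute s' x → Commute (s * s') x := by
  classical
  haveI : Fact (Nat.Prime 2) := ⟨Nat.prime_two⟩
  set P := S.mapSurjective (QuotientGroup.mk'_surjective Z) with hP
  haveI : Group.IsPerfect (G ⧸ Z) := ⟨c.perfect_quotient⟩
  by_contra hA
  push Not at hA
  have hB : ∀ x, First (S : Subgroup G) x → ∃ s ∈ (S : Subgroup G), ∃ s' ∈ (S : Subgroup G),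
      ¬ Commute s x ∧ ¬ Commute s' x ∧ ¬ Commute (s * s') x := hA
  obtain ⟨x, fx⟩ := c.twoCtx.exists_first'
  obtain ⟨s, hs, s', hs', hsx, hsx', hss⟩ := hB x fx
  have hsq : ∀ a ∈ (S : Subgroup G), a * a ∈ zS (S : Subgroup G) := by
    rcases fx.elementary_or_index c.twoCtx with hel | hidx
    · exact hel
    · exact absurd (hidx s hs s' hs' hsx hsx') hss
  -- the three involutions
  have hPS : ∀ {a}, a ∈ (P : Subgroup (G ⧸ Z)) ↔ ∃ v ∈ (S : Subgroup G), π v = a := fun {a} => Iff.rfl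
  have hne : ∀ {a b : G}, a ∈ (S : Subgroup G) → b ∈ (S : Subgroup G) → π a = π b →
      (Commute a x ↔ Commute b x) := by
    intro a b ha hb e
    have hz := c.zS_le_center ((c.mem_zS_iff (mul_mem (inv_mem ha) hb)).2 (QuotientGroup.eq.1 e))
    have hb' : b = a * (a⁻¹ * b) := (mul_inv_cancel_left a b).symm
    refine ⟨fun h => ?_, fun h => ?_⟩
    · rw [hb']; exact h.mul_left (commute_of_center hz x)
    · have := h.mul_left (commute_of_center (inv_mem hz) x)
      rwa [show b * (a⁻¹ * b)⁻¹ = a by group] at this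
  have hsqP : ∀ a ∈ (P : Subgroup (G ⧸ Z)), a ^ 2 = 1 := by
    rintro _ ⟨v, hv, rfl⟩
    rw [pow_two, ← map_mul, c.eq_one_iff (mul_mem hv hv)]
    exact hsq v hv
  have hncyc : ¬ IsCyclic (P : Subgroup (G ⧸ Z)) := by
    intro hcy
    obtain ⟨g, hg⟩ := hcy.exists_generator
    have hall : ∀ b : (P : Subgroup (G ⧸ Z)), b = 1 ∨ b = g := by
      intro b
      obtain ⟨i, rfl⟩ := mem_zpowers_iff.1 (hg b)
      have hg2 : g * g = 1 := Subtype.ext (by simpa [pow_two] using hsqP g g.2)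
      rcases Int.even_or_odd' i with ⟨j, rfl | rfl⟩
      · left; rw [zpow_mul, zpow_two, hg2, one_zpow]
      · right; rw [zpow_add, zpow_mul, zpow_two, hg2, one_zpow, one_mul, zpow_one]
    have hx1 : π x ≠ 1 := fun e => fx.not_mem ((c.eq_one_iff fx.mem).1 e)
    have hs1 : π s ≠ 1 := fun e => hsx (commute_of_center ((QuotientGroup.eq_one_iff s).1 e) x)
    have hxs : π x ≠ π s := fun e => hsx ((hne fx.mem hs e).1 (Commute.refl x))
    have h1 := hall ⟨π x, hPS.2 ⟨x, fx.mem, rfl⟩⟩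
    have h2 := hall ⟨π s, hPS.2 ⟨s, hs, rfl⟩⟩
    simp only [Subtype.ext_iff, OneMemClass.coe_one] at h1 h2
    exact hxs ((h1.resolve_left hx1).trans (h2.resolve_left hs1).symm)
  have hab : ∀ a ∈ (P : Subgroup (G ⧸ Z)), ∀ b ∈ (P : Subgroup (G ⧸ Z)), a * b = b * a := by
    intro a ha b hb
    have h1 := hsqP _ (mul_mem ha hb)
    have ha' := inv_eq_of_mul_eq_one_right (show a * a = 1 by rw [← pow_two]; exact hsqP a ha)
    have hb' := inv_eq_of_mul_eq_one_right (show b * b = 1 by rw [← pow_two]; exact hsqP b hb)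
    rw [pow_two] at h1
    rw [← inv_eq_of_mul_eq_one_right h1, _root_.mul_inv_rev, ha', hb']
  have hnn : ¬ (P : Subgroup (G ⧸ Z)).Normal := by
    intro hn
    haveI := hn
    have htop := eq_top_of_sylow_le c.perfect_quotient P _ le_rfl
    refine hncyc ?_
    haveI : Subsingleton (G ⧸ Z) := ⟨fun a b => by
      have h : ∀ q : G ⧸ Z, q = 1 := eq_one_of_perfect_comm c.perfect_quotient fun a b =>
        hab a (htop ▸ mem_top a) b (htop ▸ mem_top b)
      rw [h a, h b]⟩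
    exact inferInstance
  have hd : CfsgLib.AbCent.Data P := by
    refine ⟨hncyc, hnn, fun y hy => ?_⟩
    have hp : IsPGroup 2 (zpowers y) := IsPGroup.of_card (n := 1) (by rw [Nat.card_zpowers, hy, pow_one])
    obtain ⟨k, hk⟩ := Invol.exists_conj_le_sylow hp P
    obtain ⟨t, ht, et⟩ := hPS.1 (hk y (mem_zpowers y))
    have htz : t ∉ zS (S : Subgroup G) := fun h => by
      rw [(c.eq_one_iff ht).2 h, eq_comm, conj_eq_one_iff] at et
      rw [et, orderOf_one] at hy
      norm_num at hy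
    refine ⟨⟨fun a b => Subtype.ext ?_⟩⟩
    have hmem : ∀ a : centralizer ({y} : Set (G ⧸ Z)), ∃ g ∈ shift t, π g = k * a * k⁻¹ := by
      intro a
      obtain ⟨g, hg⟩ := QuotientGroup.mk'_surjective Z (k * a * k⁻¹)
      refine ⟨g, ?_, hg⟩
      rw [shift, mem_comap, mem_cent, hg, et]
      exact (mem_cent.1 a.2).map (MulAut.conj k).toMonoidHom
    obtain ⟨g, hg, ea⟩ := hmem a
    obtain ⟨h, hh, eb⟩ := hmem b
    have h1 := c.bar_comm hB ht htz hg hh
    rw [ea, eb] at h1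
    push_cast
    have h2 := congrArg (fun z => k⁻¹ * z * k) h1
    simpa [mul_assoc] using h2
  obtain ⟨-, F, iF, iFf, hchar, φ, hφ, hker, -⟩ := CfsgLib.AbCent.target (Nat.card (G ⧸ Z)) (G ⧸ Z) rfl P hd
  have hinj : Function.Injective φ := by
    rw [← MonoidHom.ker_eq_bot_iff, eq_bot_iff]
    exact hker.trans (center_quotient_eq_bot c.perf).le
  -- the Sylow subgroup has at least eight elements
  have h8 : 8 ∣ Nat.card (Matrix.SpecialLinearGroup (Fin 2) F) := by
    rw [← Nat.card_congr (Equiv.ofBijective φ ⟨hinj, hφ⟩)]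
    refine dvd_trans ?_ (Subgroup.card_subgroup_dvd_card (P : Subgroup (G ⧸ Z)))
    obtain ⟨m, hm⟩ := P.2.exists_card_eq
    rw [hm, show 8 = 2 ^ 3 from rfl]
    refine Nat.pow_dvd_pow 2 ?_
    by_contra hlt
    have h4 : Nat.card (P : Subgroup (G ⧸ Z)) ≤ 4 := by
      rw [hm]; calc 2 ^ m ≤ 2 ^ 2 := Nat.pow_le_pow_right (by norm_num) (by omega)
        _ = 4 := rfl
    have hsub : ({1, π x, π s, π s', π (s * s')} : Set (G ⧸ Z)) ⊆ ((P : Subgroup (G ⧸ Z)) : Set (G ⧸ Z)) := by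
      rintro a (rfl | rfl | rfl | rfl | rfl)
      exacts [one_mem _, hPS.2 ⟨x, fx.mem, rfl⟩, hPS.2 ⟨s, hs, rfl⟩, hPS.2 ⟨s', hs', rfl⟩,
        hPS.2 ⟨_, mul_mem hs hs', rfl⟩]
    have hone : ∀ {v : G}, v ∈ (S : Subgroup G) → ¬ Commute v x → π v ≠ 1 ∧ π v ≠ π x := fun hv hvx =>
      ⟨fun e => hvx (commute_of_center ((QuotientGroup.eq_one_iff _).1 e) x),
        fun e => hvx ((hne hv fx.mem e).2 (Commute.refl x))⟩
    have hx1 : π x ≠ 1 := fun e => fx.not_mem ((c.eq_one_iff fx.mem).1 e)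
    have hss' : π s ≠ π s' := fun e => hss ((hne (mul_mem hs hs) (mul_mem hs hs')
      (by rw [map_mul, map_mul, e])).1 (fx.sq_commute hs))
    have ha : π s ≠ π (s * s') := fun e => (hone hs' hsx').1 (by
      rwa [map_mul, eq_comm, mul_eq_left] at e)
    have hb : π s' ≠ π (s * s') := fun e => (hone hs hsx).1 (by
      rwa [map_mul, eq_comm, mul_eq_right] at e)
    have hcard : ({1, π x, π s, π s', π (s * s')} : Set (G ⧸ Z)).ncard = 5 := by
      rw [Set.ncard_insert_of_notMem, Set.ncard_insert_of_notMem, Set.ncard_insert_of_notMem,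
        Set.ncard_insert_of_notMem, Set.ncard_singleton]
      · simpa using hb
      · simp only [Set.mem_insert_iff, Set.mem_singleton_iff, not_or]; exact ⟨hss', ha⟩
      · simp only [Set.mem_insert_iff, Set.mem_singleton_iff, not_or]
        exact ⟨(hone hs hsx).2.symm, (hone hs' hsx').2.symm, (hone (mul_mem hs hs') hss).2.symm⟩
      · simp only [Set.mem_insert_iff, Set.mem_singleton_iff, not_or]
        exact ⟨hx1.symm, (hone hs hsx).1.symm, (hone hs' hsx').1.symm, (hone (mul_mem hs hs') hss).1.symm⟩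
    have := Set.ncard_le_ncard hsub
    rw [hcard, ← Nat.card_coe_set_eq] at this
    exact absurd (this.trans h4) (by norm_num)
  have hq : ∀ n, n = Fintype.card F → 8 ∣ n * ((n - 1) * (n + 1)) := fun n hn => by
    subst hn; rwa [← Classical.card_sl2]
  have h3 : 3 < Fintype.card F := by
    by_contra h
    obtain ⟨m, -, hm⟩ := FiniteField.card F 2
    have h2 : Fintype.card F = 2 := by
      rw [hm] at h ⊢
      rcases Nat.lt_or_ge (m : ℕ) 2 with h' | h'
      · rw [show (m : ℕ) = 1 by have := m.pos; omega, pow_one]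
      · exact absurd (Nat.pow_le_pow_right (show 0 < 2 by norm_num) h') (by omega)
    exact absurd (hq 2 h2.symm) (by norm_num)
  have hq4 : Fintype.card F ≠ 4 := fun h => absurd (hq 4 h.symm) (by norm_num)
  have hq9 : Fintype.card F ≠ 9 := fun h => by
    obtain ⟨m, -, hm⟩ := FiniteField.card F 2
    rw [h] at hm
    have := Nat.Prime.dvd_of_dvd_pow Nat.prime_three (show 3 ∣ 2 ^ (m : ℕ) by rw [← hm]; norm_num)
    norm_num at this
  let e : Matrix.SpecialLinearGroup (Fin 2) F ≃* Matrix.ProjectiveSpecialLinearGroup (Fin 2) F :=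
    ((QuotientGroup.quotientMulEquivOfEq
      (CfsgLib.Lie.ShortPres.center_eq_bot_of_two (CharTwo.two_eq_zero (R := F)))).trans
      QuotientGroup.quotientBot).symm
  set ψ := e.toMonoidHom.comp (φ.comp π) with hψ
  have hψker : ψ.ker = Z := by
    ext g
    rw [hψ, MonoidHom.mem_ker, MonoidHom.comp_apply, MulEquiv.coe_toMonoidHom, MulEquiv.map_eq_one_iff,
      MonoidHom.comp_apply, map_eq_one_iff φ hinj, QuotientGroup.mk'_apply, QuotientGroup.eq_one_iff]
  have hdvd := kernel_dvd c.perf ψ (e.surjective.comp (hφ.comp (QuotientGroup.mk'_surjective Z)))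
    hψker.le h3 hq4 hq9
  have hg1 : Nat.gcd 2 (Fintype.card F - 1) = 1 := by
    obtain ⟨m, -, hm⟩ := FiniteField.card F 2
    have h2 : 2 ∣ Fintype.card F := hm ▸ dvd_pow_self 2 m.ne_zero
    refine (Nat.prime_two.coprime_iff_not_dvd).2 ?_
    omega
  rw [hg1, Nat.dvd_one, hψker] at hdvd
  have hZ : Z = ⊥ := card_eq_one.1 hdvd
  have hsq1 : ∀ a ∈ (S : Subgroup G), a * a = 1 := fun a ha => by
    have := c.zS_le_center (hsq a ha)
    rwa [hZ, mem_bot] at this
  obtain ⟨a, ha, b, hb, hab'⟩ := c.nonab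
  refine hab' (show a * b = b * a from ?_)
  rw [← inv_eq_of_mul_eq_one_right (hsq1 _ (mul_mem ha hb)), _root_.mul_inv_rev,
    inv_eq_of_mul_eq_one_right (hsq1 a ha), inv_eq_of_mul_eq_one_right (hsq1 b hb)]

/-- The quotient by the centre. -/
theorem classify :
    (∃ (F : Type) (_ : Field F) (_ : Fintype F), Odd (Fintype.card F) ∧ 3 < Fintype.card F ∧
      ∃ φ : G →* Matrix.ProjectiveSpecialLinearGroup (Fin 2) F, Function.Surjective φ ∧ φ.ker = center G) ∨
    (∃ φ : G →* alternatingGroup (Fin 7), Function.Surjective φ ∧ φ.ker = center G) := by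
  classical
  haveI : Fact (Nat.Prime 2) := ⟨Nat.prime_two⟩
  set P := S.mapSurjective (QuotientGroup.mk'_surjective Z) with hP
  haveI : Group.IsPerfect (G ⧸ Z) := ⟨c.perfect_quotient⟩
  obtain ⟨x, f, hidx⟩ := c.exists_index_two
  obtain ⟨n, hn, he⟩ := c.dihedral_bar f hidx
  have hbot : Cfsg.oddCore (G ⧸ Z) = ⊥ := c.oddCore_quotient
  let e0 : (G ⧸ Z) ⧸ Cfsg.oddCore (G ⧸ Z) ≃* G ⧸ Z :=
    (QuotientGroup.quotientMulEquivOfEq hbot).trans QuotientGroup.quotientBot
  have hker : ∀ {Q : Type} [Group Q] (e : (G ⧸ Z) ⧸ Cfsg.oddCore (G ⧸ Z) ≃* Q),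
      (((e0.symm.trans e).toMonoidHom).comp π).ker = Z := fun {Q} _ e => by
    ext g
    rw [MonoidHom.mem_ker, MonoidHom.comp_apply, MulEquiv.coe_toMonoidHom, MulEquiv.map_eq_one_iff,
      QuotientGroup.mk'_apply, QuotientGroup.eq_one_iff]
  rcases Cfsg.Agent.S0483.result P n hn he with ⟨F, iF, iFf, ho, h3, ⟨e⟩⟩ | ⟨⟨e⟩⟩
  · exact Or.inl ⟨F, iF, iFf, ho, h3, _, (e0.symm.trans e).surjective.comp (QuotientGroup.mk'_surjective Z),
      hker e⟩
  · exact Or.inr ⟨_, (e0.symm.trans e).surjective.comp (QuotientGroup.mk'_surjective Z), hker e⟩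

end PerfCtx

end CfsgLib.MinNonCA
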