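import Cfsg.Agent.Lib.MinNonCA.Action

/-!
# Nonsolvable minimal groups without abelian centralizers are `PSL(2, q)`
-/

set_option autoImplicit false
set_option linter.unusedSectionVars false
set_option linter.style.haveILetI false

namespace CfsgLib.MinNonCA

open Subgroup

universe u

variable {G : Type u} [Group G] [Finite G]

theorem exists_perfect_core (hsolv : ¬ Group.IsSolvable G) :
    ∃ K : Subgroup G, K.Normal ∧ commutator K = ⊤ ∧ (∃ g : K, g ≠ 1) ∧ (K = ⊤ → commutator G = ⊤) := by
  classical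
  obtain ⟨n, hn⟩ : ∃ n, ∀ m, Nat.card (derivedSeries G n) ≤ Nat.card (derivedSeries G m) := by
    have hex : ∃ k, ∃ n, Nat.card (derivedSeries G n) = k := ⟨_, 0, rfl⟩
    obtain ⟨n, hn⟩ := Nat.find_spec hex
    exact ⟨n, fun m => hn.symm ▸ Nat.find_min' hex ⟨m, rfl⟩⟩
  set K := derivedSeries G n with hK
  have hle : derivedSeries G (n + 1) ≤ K := derivedSeries_antitone G (Nat.le_succ n)
  have he : ⁅K, K⁆ = K := by
    rw [hK, ← derivedSeries_succ]
    exact eq_of_le_of_card_ge hle (hn (n + 1))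
  refine ⟨K, derivedSeries_normal G n, ?_, ?_, fun h => ?_⟩
  · refine Subgroup.map_injective K.subtype_injective ?_
    rw [← MonoidHom.range_eq_map, range_subtype, Subgroup.map_subtype_commutator]
    exact he
  · by_contra hone
    push Not at hone
    exact hsolv ((Group.isSolvable_def G).2 ⟨n, (eq_bot_iff_forall _).2 fun g hg =>
      congrArg Subtype.val (hone ⟨g, hg⟩)⟩)
  · rw [commutator_def, ← h]
    exact he

/-- The forward direction. -/
theorem forward (hsolv : ¬ Group.IsSolvable G) (hp : SubCA G) (hn : ¬ CAOn (⊤ : Subgroup G)) :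
    ∃ (F : Type) (_ : Field F) (_ : Fintype F),
      Nonempty (G ≃* Matrix.ProjectiveSpecialLinearGroup (Fin 2) F) ∧ GoodQ (Fintype.card F) := by
  classical
  obtain ⟨K, hKn, hKp, hK1, hKtop⟩ := exists_perfect_core hsolv
  by_cases hG : commutator G = ⊤
  · exact perfect_nonCA hG hp hn
  exfalso
  have c : OuterCtx K := ⟨hp, hKn, hKp, fun h => hG (hKtop h), hK1⟩
  obtain ⟨x, r, hr, hxr, hxN, hnx⟩ := c.exists_outer hn
  rcases perfect_type hKp c.subK hK1 with ⟨F, iF, iFf, hodd, h3, φ, hφ, hker⟩ | ⟨F, iF, iFf, hchar, h4, ⟨e⟩⟩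
  · obtain ⟨p, hchar⟩ := CharP.exists F
    haveI := hchar
    obtain ⟨m, hpp, hm⟩ := FiniteField.card F p
    haveI : Fact p.Prime := ⟨hpp⟩
    refine c.no_outer hφ hker p ?_ hr hxr hxN hnx
    by_cases h9 : Fintype.card F = 9
    · exact Or.inr h9
    left
    have hdvd := kernel_dvd hKp φ hφ hker.le h3
      (fun h => by rw [h] at hodd; exact absurd hodd (by decide)) h9
    rw [hker] at hdvd
    intro hd
    have hp2 : p = 2 := (Nat.prime_dvd_prime_iff_eq hpp Nat.prime_two).1
      (hd.trans (hdvd.trans (Nat.gcd_dvd_left _ _)))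
    subst hp2
    exact Nat.not_even_iff_odd.2 hodd (hm ▸ Nat.even_pow.2 ⟨even_two, m.ne_zero⟩)
  · haveI : Fact (Nat.Prime 2) := ⟨Nat.prime_two⟩
    haveI := hchar
    haveI : IsSimpleGroup (Matrix.ProjectiveSpecialLinearGroup (Fin 2) F) :=
      Matrix.ProjectiveSpecialLinearGroup.rank_two_simple (by rw [Nat.card_eq_fintype_card]; omega)
    let e' := e.trans (((QuotientGroup.quotientMulEquivOfEq
      (CfsgLib.Lie.ShortPres.center_eq_bot_of_two (CharTwo.two_eq_zero (R := F)))).trans
        QuotientGroup.quotientBot).symm)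
    have hker : e'.toMonoidHom.ker = center K := by
      refine le_antisymm ?_ (center_le_ker hKp _ e'.surjective)
      rw [(MonoidHom.ker_eq_bot_iff _).2 e'.injective]
      exact bot_le
    refine c.no_outer (φ := e'.toMonoidHom) e'.surjective hker 2 (Or.inl ?_) hr hxr hxN hnx
    rw [← hker, (MonoidHom.ker_eq_bot_iff _).2 e'.injective, card_bot]
    norm_num

end CfsgLib.MinNonCA
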