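import Cfsg.Agent.Lib.MinNonCA.Basic
import Cfsg.Agent.Lib.Lie.SLUniv.Main
import Cfsg.Agent.Lib.Classical.SLBasic
import Cfsg.Agent.Lib.Classical.ProjLine
import Cfsg.Prelude.Def_KGroupFacts
import Mathlib.Logic.Small.Defs
import Mathlib.LinearAlgebra.Matrix.Notation

/-!
# The model groups

`SL(2, F)` has abelian centralizers; perfect central extensions of `PSL(2, q)`.
-/

set_option autoImplicit false
set_option linter.unusedSectionVars false

namespace CfsgLib.MinNonCA

open Subgroup Matrix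

universe u

variable {F : Type} [Field F]

/-- In `SL(2, F)` elements commuting with a noncentral element commute. -/
theorem sl2_ca {x a b : Matrix.SpecialLinearGroup (Fin 2) F} (hx : ∃ y, ¬ Commute x y)
    (ha : Commute a x) (hb : Commute b x) : Commute a b := by
  obtain ⟨y, hy⟩ := hx
  have hxA : ¬ ((x : Matrix (Fin 2) (Fin 2) F) 0 1 = 0 ∧ (x : Matrix (Fin 2) (Fin 2) F) 1 0 = 0 ∧
      (x : Matrix (Fin 2) (Fin 2) F) 0 0 = (x : Matrix (Fin 2) (Fin 2) F) 1 1) := by
    rintro ⟨h1, h2, h3⟩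
    refine hy (Subtype.ext ?_)
    show (x : Matrix (Fin 2) (Fin 2) F) * (y : Matrix (Fin 2) (Fin 2) F) =
      (y : Matrix (Fin 2) (Fin 2) F) * (x : Matrix (Fin 2) (Fin 2) F)
    ext i j
    fin_cases i <;> fin_cases j <;> simp [Matrix.mul_apply, Fin.sum_univ_two, h1, h2, h3] <;> ring
  have ha' : (a : Matrix (Fin 2) (Fin 2) F) * (x : Matrix (Fin 2) (Fin 2) F) =
      (x : Matrix (Fin 2) (Fin 2) F) * (a : Matrix (Fin 2) (Fin 2) F) := congrArg Subtype.val ha
  have hb' : (b : Matrix (Fin 2) (Fin 2) F) * (x : Matrix (Fin 2) (Fin 2) F) =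
      (x : Matrix (Fin 2) (Fin 2) F) * (b : Matrix (Fin 2) (Fin 2) F) := congrArg Subtype.val hb
  refine Subtype.ext ?_
  show (a : Matrix (Fin 2) (Fin 2) F) * (b : Matrix (Fin 2) (Fin 2) F) =
    (b : Matrix (Fin 2) (Fin 2) F) * (a : Matrix (Fin 2) (Fin 2) F)
  generalize (x : Matrix (Fin 2) (Fin 2) F) = X at hxA ha' hb' ⊢
  generalize (a : Matrix (Fin 2) (Fin 2) F) = A at ha' ⊢
  generalize (b : Matrix (Fin 2) (Fin 2) F) = B at hb' ⊢
  have a00 := congrFun₂ ha' 0 0
  have a01 := congrFun₂ ha' 0 1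
  have a10 := congrFun₂ ha' 1 0
  have b00 := congrFun₂ hb' 0 0
  have b01 := congrFun₂ hb' 0 1
  have b10 := congrFun₂ hb' 1 0
  simp only [Matrix.mul_apply, Fin.sum_univ_two] at a00 a01 a10 b00 b01 b10
  have key : A 0 1 * B 1 0 = B 0 1 * A 1 0 ∧ A 0 1 * (B 0 0 - B 1 1) = B 0 1 * (A 0 0 - A 1 1) ∧
      A 1 0 * (B 0 0 - B 1 1) = B 1 0 * (A 0 0 - A 1 1) := by
    by_cases h1 : X 0 1 = 0
    · by_cases h2 : X 1 0 = 0
      · have h3 : X 0 0 - X 1 1 ≠ 0 := fun h => hxA ⟨h1, h2, sub_eq_zero.1 h⟩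
        simp only [h1, h2, mul_zero, zero_mul, add_zero, zero_add] at a01 a10 b01 b10
        have e1 : A 0 1 = 0 := (mul_eq_zero.1 (show (X 0 0 - X 1 1) * A 0 1 = 0 by linear_combination -a01)).resolve_left h3
        have e2 : A 1 0 = 0 := (mul_eq_zero.1 (show (X 0 0 - X 1 1) * A 1 0 = 0 by linear_combination a10)).resolve_left h3
        have e3 : B 0 1 = 0 := (mul_eq_zero.1 (show (X 0 0 - X 1 1) * B 0 1 = 0 by linear_combination -b01)).resolve_left h3
        have e4 : B 1 0 = 0 := (mul_eq_zero.1 (show (X 0 0 - X 1 1) * B 1 0 = 0 by linear_combination b10)).resolve_left h3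
        simp [e1, e2, e3, e4]
      · simp only [h1, zero_mul, mul_zero, add_zero] at a00 b00
        have e1 : A 0 1 = 0 := (mul_eq_zero.1 (show X 1 0 * A 0 1 = 0 by linear_combination a00)).resolve_left h2
        have e2 : B 0 1 = 0 := (mul_eq_zero.1 (show X 1 0 * B 0 1 = 0 by linear_combination b00)).resolve_left h2
        refine ⟨by simp [e1, e2], by simp [e1, e2], mul_right_cancel₀ h2 ?_⟩
        linear_combination B 1 0 * a10 - A 1 0 * b10
    · have k : A 0 1 * B 1 0 = B 0 1 * A 1 0 :=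
        mul_right_cancel₀ h1 (by linear_combination B 0 1 * a00 - A 0 1 * b00)
      refine ⟨k, mul_right_cancel₀ h1 ?_, mul_right_cancel₀ h1 ?_⟩
      · linear_combination A 0 1 * b01 - B 0 1 * a01
      · linear_combination A 1 0 * b01 - B 1 0 * a01 - (X 0 0 - X 1 1) * k
  obtain ⟨k1, k2, k3⟩ := key
  ext i j
  fin_cases i <;> fin_cases j <;> simp [Matrix.mul_apply, Fin.sum_univ_two]
  · linear_combination k1
  · linear_combination -k2
  · linear_combination k3
  · linear_combination -k1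

theorem cAOn_of_mulEquiv_sl2 {G : Type u} [Group G] (e : G ≃* Matrix.SpecialLinearGroup (Fin 2) F) :
    CAOn (⊤ : Subgroup G) := by
  rintro x - ⟨y, -, hxy⟩ a - b - hax hbx
  have h := sl2_ca (x := e x) ⟨e y, fun h => hxy (e.injective (by rw [map_mul, map_mul, h.eq]))⟩
    (hax.map e.toMonoidHom) (hbx.map e.toMonoidHom)
  exact e.injective (by rw [map_mul, map_mul]; exact h.eq)

variable [Fintype F] {G : Type u} [Group G] [Finite G]

/-- The kernel of a perfect central extension of `PSL(2, F)`. -/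
theorem kernel_dvd (hperf : commutator G = ⊤) (φ : G →* Matrix.ProjectiveSpecialLinearGroup (Fin 2) F)
    (hsur : Function.Surjective φ) (hker : φ.ker ≤ center G) (hq : 3 < Fintype.card F)
    (h4 : Fintype.card F ≠ 4) (h9 : Fintype.card F ≠ 9) :
    Nat.card φ.ker ∣ Nat.gcd 2 (Fintype.card F - 1) := by
  classical
  set e : Shrink.{0} G ≃* G := Shrink.mulEquiv with he
  set σ := φ.comp e.toMonoidHom with hσ
  have hst : Cfsg.IsStemExtension σ := by
    refine ⟨hsur.comp e.surjective, fun z hz => mem_center_iff.2 fun g => ?_, fun z _ => ?_⟩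
    · have hc := mem_center_iff.1 (hker (show e z ∈ φ.ker from hz)) (e g)
      exact e.injective (by rw [map_mul, map_mul]; exact hc)
    · have h : (commutator (Shrink.{0} G)).map e.toMonoidHom = ⊤ := by
        rw [commutator_def, map_commutator, map_top_of_surjective _ e.surjective, ← commutator_def, hperf]
      obtain ⟨w, hw, hwz⟩ : e z ∈ (commutator (Shrink.{0} G)).map e.toMonoidHom := h ▸ mem_top _
      rwa [← e.injective (show e w = e z from hwz)]
  have hexc : (2, Fintype.card F) ∉ ({(2, 4), (2, 9), (3, 2), (3, 4), (4, 2)} : Set (ℕ × ℕ)) := by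
    simp [h4, h9]
  obtain ⟨π, hπ⟩ := (Lie.SLUniv.psl_multiplier (F := F) le_rfl (fun _ => hq) hexc).2 _ σ hst
  have hc : Nat.card σ.ker = Nat.card φ.ker :=
    Nat.card_congr (e.toEquiv.subtypeEquiv fun z => Iff.rfl)
  have := Subgroup.card_dvd_of_surjective π hπ
  rwa [hc, Nat.card_congr Multiplicative.toAdd, Nat.card_zmod] at this

end CfsgLib.MinNonCA
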