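import Cfsg.Agent.Lib.MinNonCA.Burnside

/-!
# A proper perfect normal subgroup
-/

set_option autoImplicit false
set_option linter.unusedSectionVars false
set_option linter.style.haveILetI false

namespace CfsgLib.MinNonCA

open Subgroup

universe u

variable {G : Type u} [Group G] [Finite G]

/-- A proper perfect normal subgroup. -/
structure OuterCtx (K : Subgroup G) : Prop where
  sub : SubCA G
  normal : K.Normal
  perf : commutator K = ⊤
  ne_top : K ≠ ⊤
  nontriv : ∃ g : K, g ≠ 1

namespace OuterCtx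

variable {K : Subgroup G} (c : OuterCtx K)
include c

theorem caK : CAOn (⊤ : Subgroup K) := by
  rintro x - ⟨y, -, hxy⟩ a - b - hax hbx
  have := (c.sub K c.ne_top).commute x.2 y.2 (fun h => hxy (Subtype.ext h.eq)) a.2 b.2
    (hax.map K.subtype) (hbx.map K.subtype)
  exact Subtype.ext this.eq

theorem subK : SubCA K := fun H _ => c.caK.mono le_top

/-- Conjugation on `K`. -/
def cj (y : G) : K →* K :=
  MonoidHom.mk' (fun k => ⟨y * k * y⁻¹, c.normal.conj_mem _ k.2 y⟩) fun a b => Subtype.ext (by
    show y * (a * b : G) * y⁻¹ = (y * a * y⁻¹) * (y * b * y⁻¹)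
    group)

theorem cj_val (y : G) (k : K) : ((c.cj y k : K) : G) = y * k * y⁻¹ := rfl

theorem cj_mul (y z : G) (k : K) : c.cj (y * z) k = c.cj y (c.cj z k) :=
  Subtype.ext (by simp only [cj_val]; group)

theorem cj_one (k : K) : c.cj 1 k = k := Subtype.ext (by simp [cj_val])

/-- The centralizer of `K` is central. -/
theorem centralizer_le : centralizer (K : Set G) ≤ center G := by
  classical
  haveI := c.normal
  haveI : Fact (Nat.Prime 2) := ⟨Nat.prime_two⟩
  obtain ⟨S⟩ : Nonempty (Sylow 2 K) := inferInstance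
  obtain ⟨hne, a, ha, b, hb, hab⟩ := normalizer_sylow_facts c.perf c.subK c.nontriv S
  set X := normalizer (((S : Subgroup K).map K.subtype : Subgroup G) : Set G) with hX
  have hin : ∀ {v : K}, v ∈ normalizer ((S : Subgroup K) : Set K) ↔ (v : G) ∈ X := by
    intro v
    rw [hX, mem_normalizer_iff, mem_normalizer_iff]
    constructor
    · intro h w
      constructor
      · rintro ⟨s, hs, rfl⟩
        exact ⟨v * s * v⁻¹, (h s).1 hs, by simp⟩
      · rintro ⟨s, hs, e⟩
        refine ⟨v⁻¹ * s * v, (h _).2 (show v * (v⁻¹ * s * v) * v⁻¹ ∈ (S : Subgroup K) by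
          rw [show v * (v⁻¹ * s * v) * v⁻¹ = s by group]; exact hs), ?_⟩
        have e' : (s : G) = v * w * v⁻¹ := e
        simp [e', mul_assoc]
    · intro h s
      constructor
      · intro hs
        obtain ⟨s', hs', e⟩ := (h s).1 ⟨s, hs, rfl⟩
        rwa [show v * s * v⁻¹ = s' from Subtype.ext (by simpa using e.symm)]
      · intro hs
        obtain ⟨s', hs', e⟩ := (h s).2 ⟨_, hs, by simp⟩
        rwa [← show s' = s from Subtype.ext e]
  have hXtop : X ≠ ⊤ := fun h => hne (eq_top_iff.2 fun v _ => hin.2 (h ▸ mem_top _))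
  have hsup : X ⊔ K = ⊤ := Sylow.normalizer_sup_eq_top S
  intro z hz
  have hzX : z ∈ X := by
    rw [hX, mem_normalizer_iff]
    intro w
    have hc : ∀ s ∈ (S : Subgroup K), (z : G) * s * z⁻¹ = s := fun s _ => by
      rw [← mem_centralizer_iff.1 hz s s.2, mul_inv_cancel_right]
    constructor
    · rintro ⟨s, hs, rfl⟩
      exact ⟨s, hs, (hc s hs).symm⟩
    · rintro ⟨s, hs, e⟩
      refine ⟨s, hs, ?_⟩
      have e' : (s : G) = z * w * z⁻¹ := e
      have e'' : z * (s : G) * z⁻¹ = z * w * z⁻¹ := (hc s hs).trans e'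
      exact mul_left_cancel (mul_right_cancel e'')
  have hzw : ∀ {v : G}, v ∈ K → Commute v z := fun hv => mem_centralizer_iff.1 hz _ hv
  have h1 : ∀ v ∈ X, Commute z v := fun v hv =>
    (c.sub X hXtop).central hzX (hin.1 ha) (hin.1 hb) (hzw a.2) (hzw b.2)
      (fun h => hab (Subtype.ext h.eq)) hv
  rw [mem_center_iff_commute]
  intro g
  have hg : g ∈ X ⊔ K := hsup ▸ mem_top g
  have hle : X ⊔ K ≤ centralizer ({z} : Set G) :=
    sup_le (fun v hv => mem_cent.2 (h1 v hv).symm) (fun v hv => mem_cent.2 (hzw hv))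
  exact (mem_cent.1 (hle hg)).symm

theorem centralK {z : K} (hz : z ∈ center K) : (z : G) ∈ center G :=
  c.centralizer_le (mem_centralizer_iff.2 fun k hk => congrArg Subtype.val (mem_center_iff.1 hz ⟨k, hk⟩))

theorem mem_centerK {z : K} (hz : (z : G) ∈ center G) : z ∈ center K :=
  mem_center_iff.2 fun k => Subtype.ext (mem_center_iff.1 hz k)

/-- Elements acting trivially on `K` modulo its centre are central. -/
theorem trivial_action {y : G} (h : ∀ k : K, c.cj y k * k⁻¹ ∈ center K) : y ∈ center G := by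
  refine c.centralizer_le (mem_centralizer_iff.2 fun k hk => ?_)
  haveI : Group.IsSolvable (center K) :=
    Group.isSolvable_of_comm fun a b => Subtype.ext (commute_of_center a.2 b).eq
  let f : K →* center K := MonoidHom.mk' (fun k => ⟨c.cj y k * k⁻¹, h k⟩) fun a b => Subtype.ext (by
    show c.cj y (a * b) * (a * b)⁻¹ = (c.cj y a * a⁻¹) * (c.cj y b * b⁻¹)
    rw [map_mul, ← (commute_of_center (h b) (c.cj y a * a⁻¹)).eq]
    calc c.cj y a * c.cj y b * (a * b)⁻¹ = c.cj y a * (c.cj y b * b⁻¹) * a⁻¹ := by group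
      _ = (c.cj y b * b⁻¹) * c.cj y a * a⁻¹ := by rw [(commute_of_center (h b) (c.cj y a)).eq]
      _ = _ := by group)
  have h1 := congrArg Subtype.val (DFunLike.congr_fun (hom_eq_one c.perf f) ⟨k, hk⟩)
  have h2 : c.cj y ⟨k, hk⟩ = ⟨k, hk⟩ := mul_inv_eq_one.1 h1
  exact (mul_inv_eq_iff_eq_mul.1 (congrArg Subtype.val h2)).symm

/-- Noncentral elements of `K` have abelian centralizers. -/
theorem cent_comm {k : K} (hk : k ∉ center K) : ¬ NonabCent (k : G) := by
  intro hn
  set A := centralizer ({k} : Set K) with hA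
  set A' := A.map K.subtype with hA'
  haveI := c.normal
  obtain ⟨y, hy⟩ := exists_not_commute hk
  have hAab : ∀ a ∈ A, ∀ b ∈ A, Commute a b := fun a ha b hb =>
    c.caK.commute (mem_top k) (mem_top y) hy (mem_top a) (mem_top b) (mem_cent.1 ha) (mem_cent.1 hb)
  have hle : centralizer ({(k : G)} : Set G) ≤ normalizer (A' : Set G) := by
    intro m hm
    have key : ∀ m ∈ centralizer ({(k : G)} : Set G), ∀ w ∈ A', m * w * m⁻¹ ∈ A' := by
      rintro m hm _ ⟨a, ha, rfl⟩
      refine ⟨c.cj m a, mem_cent.2 ?_, rfl⟩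
      have h1 := (mem_cent.1 ha).map (c.cj m)
      rwa [show c.cj m k = k from Subtype.ext (by
        rw [cj_val, (mem_cent.1 hm).eq, mul_inv_cancel_right])] at h1
    exact mem_normalizer_iff.2 fun w => ⟨key m hm w, fun h => by
      simpa [mul_assoc] using key m⁻¹ (inv_mem hm) _ h⟩
  by_cases htop : normalizer (A' : Set G) = ⊤
  · -- a normal abelian subgroup of `K` is central
    haveI : A'.Normal := normalizer_eq_top_iff.1 htop
    haveI hAn : A.Normal := ⟨fun a ha g => by
      obtain ⟨a', ha', e⟩ := (inferInstance : A'.Normal).conj_mem _ (mem_map_of_mem K.subtype ha) (g : G)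
      rwa [show g * a * g⁻¹ = a' from Subtype.ext (by simpa using e.symm)]⟩
    exact not_self_normalizing c.perf c.caK hk (fun v _ => by
      have hkA : k ∈ A := mem_cent.2 (Commute.refl k)
      by_contra hv
      rcases perfect_type c.perf c.subK c.nontriv with ⟨F, iF, iFf, -, h3, φ, hφ, hker⟩ |
        ⟨F, iF, iFf, hchar, h4, ⟨e⟩⟩
      · haveI : IsSimpleGroup (Matrix.ProjectiveSpecialLinearGroup (Fin 2) F) :=
          Matrix.ProjectiveSpecialLinearGroup.rank_two_simple (by rw [Nat.card_eq_fintype_card]; omega)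
        rcases (Subgroup.Normal.map hAn φ hφ).eq_bot_or_eq_top with h | h
        · exact hk (hker ▸ (mem_bot.1 (h ▸ mem_map_of_mem φ hkA) : φ k = 1))
        · obtain ⟨w, hw, e⟩ : φ v ∈ A.map φ := h ▸ mem_top _
          have : w⁻¹ * v ∈ center K := by rw [← hker, MonoidHom.mem_ker, map_mul, map_inv, e, inv_mul_cancel]
          exact hv (mem_cent.2 (by
            have := (mem_cent.1 hw).mul_left (commute_of_center this k)
            rwa [mul_inv_cancel_left] at this))
      · let e' := e.trans (((QuotientGroup.quotientMulEquivOfEq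
          (CfsgLib.Lie.ShortPres.center_eq_bot_of_two (CharTwo.two_eq_zero (R := F)))).trans
            QuotientGroup.quotientBot).symm)
        haveI : IsSimpleGroup (Matrix.ProjectiveSpecialLinearGroup (Fin 2) F) :=
          Matrix.ProjectiveSpecialLinearGroup.rank_two_simple (by rw [Nat.card_eq_fintype_card]; omega)
        rcases (Subgroup.Normal.map hAn e'.toMonoidHom e'.surjective).eq_bot_or_eq_top with h | h
        · refine hk ?_
          have h1 : e' k = 1 := mem_bot.1 (h ▸ mem_map_of_mem e'.toMonoidHom hkA)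
          rw [MulEquiv.map_eq_one_iff] at h1
          rw [h1]; exact one_mem _
        · obtain ⟨w, hw, e1⟩ : e'.toMonoidHom v ∈ A.map e'.toMonoidHom := h ▸ mem_top _
          exact hv ((e'.injective e1) ▸ hw))
  · have hM := cent_maximal c.sub hn hle htop
    refine not_self_normalizing c.perf c.caK hk fun v hv => mem_cent.2 ?_
    have h1 : (v : G) ∈ normalizer (A' : Set G) := by
      rw [mem_normalizer_iff]
      intro w
      constructor
      · rintro ⟨a, ha, rfl⟩
        exact ⟨v * a * v⁻¹, (mem_normalizer_iff.1 hv a).1 ha, by simp⟩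
      · rintro ⟨a, ha, e⟩
        refine ⟨v⁻¹ * a * v, (mem_normalizer_iff.1 hv _).2 (by simpa [mul_assoc] using ha), ?_⟩
        have e' : (a : G) = v * w * v⁻¹ := e
        simp [e', mul_assoc]
    exact Subtype.ext (mem_cent.1 (hM h1)).eq

theorem commute_of_mem {k : K} (hk : k ∉ center K) {a b : G} (ha : Commute a k) (hb : Commute b k) :
    Commute a b := by
  by_contra h
  exact c.cent_comm hk ⟨a, b, ha, hb, h⟩

/-- An element moving `x` only by a central element commutes with it. -/
theorem shift_exact {x y : G} (hx : x ∉ center G) (hn : NonabCent x)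
    (hy : y * x * y⁻¹ * x⁻¹ ∈ center G) : Commute y x := by
  set H := (centralizer ({QuotientGroup.mk' (center G) x} : Set (G ⧸ center G))).comap
    (QuotientGroup.mk' (center G)) with hH
  have hmem : ∀ g, g ∈ H ↔ g * x * g⁻¹ * x⁻¹ ∈ center G := fun g => by
    rw [hH, mem_comap, mem_cent]
    conv_rhs => rw [← QuotientGroup.ker_mk' (center G), MonoidHom.mem_ker, map_mul, map_mul, map_mul,
      map_inv, map_inv, mul_inv_eq_one, mul_inv_eq_iff_eq_mul]
    exact Iff.rfl
  have hle : centralizer ({x} : Set G) ≤ H := fun g hg => (hmem g).2 (by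
    rw [(mem_cent.1 hg).eq, mul_inv_cancel_right, mul_inv_cancel]; exact one_mem _)
  have hne : H ≠ ⊤ := fun h => hx (c.trivial_action (y := x) fun k => c.mem_centerK (by
    have := inv_mem ((hmem (k : G)).1 (h ▸ mem_top _))
    rw [show ((k : G) * x * (k : G)⁻¹ * x⁻¹)⁻¹ = x * k * x⁻¹ * (k : G)⁻¹ by group] at this
    exact this))
  exact mem_cent.1 (cent_maximal c.sub hn hle hne ((hmem y).2 hy))

/-- An element of prime order modulo the centre with nonabelian centralizer, outside `K`. -/
theorem exists_outer (hn : ¬ CAOn (⊤ : Subgroup G)) :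
    ∃ (x : G) (r : ℕ), r.Prime ∧ x ^ r ∈ center G ∧ x ∉ K ⊔ center G ∧ NonabCent x := by
  haveI := c.normal
  obtain ⟨x, hx, hnx⟩ : ∃ x, x ∉ center G ∧ NonabCent x := by
    by_contra h
    push Not at h
    refine hn fun x _ ⟨y, _, hxy⟩ a _ b _ hax hbx => ?_
    by_contra hab
    exact h x (fun hc => hxy (commute_of_center hc y)) ⟨a, b, hax, hbx, hab⟩
  have hKZ : ∀ {w : G}, w ∈ K ⊔ center G → NonabCent w → w ∈ center G := by
    intro w hw hnw
    obtain ⟨k, hk, z, hz, rfl⟩ := mem_sup_of_normal_right.1 hw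
    refine mul_mem ?_ hz
    by_contra hkc
    refine c.cent_comm (k := ⟨k, hk⟩) (fun h => hkc (c.centralK h)) ?_
    have := hnw.mul_center (inv_mem hz)
    rwa [mul_inv_cancel_right] at this
  set N := K ⊔ center G
  have hxN : x ∉ N := fun h => hx (hKZ h hnx)
  set n := orderOf (QuotientGroup.mk' N x) with hnd
  obtain ⟨r, hr, m, hm⟩ := Nat.exists_prime_and_dvd (n := n)
    (mt orderOf_eq_one_iff.1 fun e => hxN ((QuotientGroup.eq_one_iff x).1 e))
  have hnx' : ∀ j, NonabCent (x ^ j) := fun j => by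
    obtain ⟨a, b, ha, hb, hab⟩ := hnx
    exact ⟨a, b, ha.pow_right j, hb.pow_right j, hab⟩
  refine ⟨x ^ m, r, hr, ?_, ?_, hnx' m⟩
  · rw [← pow_mul, mul_comm, ← hm]
    exact hKZ ((QuotientGroup.eq_one_iff _).1 (show QuotientGroup.mk' N (x ^ n) = 1 by
      rw [map_pow, hnd, pow_orderOf_eq_one])) (hnx' n)
  · intro h
    have h1 : QuotientGroup.mk' N x ^ m = 1 := by rw [← map_pow]; exact (QuotientGroup.eq_one_iff _).2 h
    have hpos : 0 < n := orderOf_pos _
    have hm0 : 0 < m := Nat.pos_of_ne_zero fun e => by rw [e, mul_zero] at hm; omega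
    have := Nat.le_of_dvd hm0 (orderOf_dvd_of_pow_eq_one h1)
    rw [← hnd, hm] at this
    nlinarith [hr.two_le]

end OuterCtx

end CfsgLib.MinNonCA
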