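import Cfsg.Agent.Lib.MinNonCA.Model
import Cfsg.Agent.Lib.Classical.SL2Sylow
import Cfsg.Agent.Lib.Perm.Dickson.Bridge
import Mathlib.LinearAlgebra.Matrix.Charpoly.Coeff

/-!
# Centralizers in `PSL(2, q)` and subfield subgroups
-/

set_option autoImplicit false
set_option linter.unusedSectionVars false

namespace CfsgLib.MinNonCA

open Subgroup Matrix

universe u

variable {F : Type} [Field F]

local notation "SL" => Matrix.SpecialLinearGroup (Fin 2) F
local notation "PSL" => Matrix.ProjectiveSpecialLinearGroup (Fin 2) F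
local notation "π" => QuotientGroup.mk' (Subgroup.center (Matrix.SpecialLinearGroup (Fin 2) F))
local notation:max "↟" A:max => ((A : Matrix.SpecialLinearGroup (Fin 2) F) : Matrix (Fin 2) (Fin 2) F)

theorem sl2_val_mul (A B : SL) : ↟(A * B) = ↟A * ↟B := rfl

/-- A central element of `SL(2)` is a sign. -/
theorem sl2_center {z : SL} (hz : z ∈ Subgroup.center SL) : ↟z = 1 ∨ ↟z = -1 := by
  obtain ⟨r, hr, e⟩ := Matrix.SpecialLinearGroup.mem_center_iff.1 hz
  rw [Fintype.card_fin] at hr
  rw [← e]
  rcases mul_self_eq_one_iff.1 ((pow_two r).symm.trans hr) with rfl | rfl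
  · left; ext i j; by_cases h : i = j <;> simp [h, Matrix.one_apply]
  · right; ext i j; by_cases h : i = j <;> simp [h, Matrix.one_apply]

theorem lift_commute {A X : SL} (h : π A * π X = π X * π A) :
    Commute A X ∨ ↟A * ↟X = -(↟X * ↟A) := by
  rw [← map_mul, ← map_mul] at h
  have hz : (A * X)⁻¹ * (X * A) ∈ Subgroup.center SL := QuotientGroup.eq.1 h
  have e : X * A = A * X * ((A * X)⁻¹ * (X * A)) := (mul_inv_cancel_left _ _).symm
  have e' : ↟X * ↟A = ↟A * ↟X * ↟((A * X)⁻¹ * (X * A)) := congrArg (fun M : SL => ↟M) e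
  rcases sl2_center hz with h1 | h1 <;> rw [h1] at e'
  · left
    refine Subtype.ext ?_
    show ↟A * ↟X = ↟X * ↟A
    rw [e', mul_one]
  · right
    rw [e', Matrix.mul_neg, Matrix.mul_one, neg_neg]

theorem neg_one_mem_center (h : ∃ Z : SL, ↟Z = -1) : ∃ Z : SL, Z ∈ Subgroup.center SL ∧ ↟Z = -1 := by
  obtain ⟨Z, hZ⟩ := h
  refine ⟨Z, Subgroup.mem_center_iff.2 fun M => Subtype.ext ?_, hZ⟩
  show ↟M * ↟Z = ↟Z * ↟M
  rw [hZ, Matrix.mul_neg, Matrix.neg_mul, mul_one, one_mul]

/-- A matrix of trace zero gives an involution of `PSL(2)`. -/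
theorem sq_eq_one_of_trace (X : SL) (h : (↟X).trace = 0) : π X * π X = 1 := by
  have hdet : ↟X 0 0 * ↟X 1 1 - ↟X 0 1 * ↟X 1 0 = 1 := by
    have := X.det_coe; rwa [Matrix.det_fin_two] at this
  rw [Matrix.trace_fin_two] at h
  rw [← map_mul, QuotientGroup.mk'_apply, QuotientGroup.eq_one_iff]
  refine Matrix.SpecialLinearGroup.mem_center_iff.2 ⟨-1, by simp, ?_⟩
  rw [sl2_val_mul]
  ext i j
  fin_cases i <;> fin_cases j <;> simp [Matrix.mul_apply, Fin.sum_univ_two]
  · linear_combination hdet - ↟X 0 0 * h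
  · linear_combination -↟X 0 1 * h
  · linear_combination -↟X 1 0 * h
  · linear_combination hdet - ↟X 1 1 * h

/-- Outside involutions centralizers in `PSL(2, q)` are commutative, `q` odd. -/
theorem psl_cent_comm (h2 : (2 : F) ≠ 0) {x a b : PSL} (hx : x * x ≠ 1) (ha : a * x = x * a)
    (hb : b * x = x * b) : a * b = b * a := by
  obtain ⟨X, rfl⟩ := QuotientGroup.mk'_surjective (Subgroup.center SL) x
  have key : ∀ {A : SL}, π A * π X = π X * π A → Commute A X := by
    intro A h
    refine (lift_commute h).resolve_right fun hn => hx (sq_eq_one_of_trace X ?_)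
    have h1 : ↟A * ↟X * ↟A⁻¹ = -↟X := by
      rw [hn, Matrix.neg_mul, Matrix.mul_assoc, ← sl2_val_mul, mul_inv_cancel,
        Matrix.SpecialLinearGroup.coe_one, mul_one]
    have h3 : (↟A * ↟X * ↟A⁻¹).trace = (↟X).trace := by
      rw [Matrix.trace_mul_cycle, ← sl2_val_mul, inv_mul_cancel, Matrix.SpecialLinearGroup.coe_one, one_mul]
    rw [h1, Matrix.trace_neg] at h3
    exact (mul_eq_zero.1 (show (2 : F) * (↟X).trace = 0 by linear_combination -h3)).resolve_left h2
  obtain ⟨A, rfl⟩ := QuotientGroup.mk'_surjective (Subgroup.center SL) a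
  obtain ⟨B, rfl⟩ := QuotientGroup.mk'_surjective (Subgroup.center SL) b
  have hX : ∃ Y, ¬ Commute X Y := by
    by_contra h
    push Not at h
    refine hx ?_
    rw [show π X = 1 from (QuotientGroup.eq_one_iff X).2 (Subgroup.mem_center_iff.2 fun Y => (h Y).eq.symm),
      one_mul]
  rw [← map_mul, ← map_mul, (sl2_ca hX (key ha) (key hb)).eq]

variable [Fintype F]

/-- The involutions of `PSL(2, q)`, `q ≥ 7` odd, have nonabelian centralizers. -/
theorem psl_exists_nonab (hodd : Odd (Fintype.card F)) (h7 : 7 ≤ Fintype.card F) :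
    ∃ x a b : PSL, x ≠ 1 ∧ x * x = 1 ∧ a * x = x * a ∧ b * x = x * b ∧ a * b ≠ b * a := by
  classical
  have h2 := Classical.two_ne_zero_of_odd_card hodd
  obtain ⟨t, ht⟩ : ∃ t : F, t * (t * t - 1) * (t * t + 1) ≠ 0 := by
    by_contra hall
    push Not at hall
    let p : Polynomial F := Polynomial.X * (Polynomial.X * Polynomial.X - 1) * (Polynomial.X * Polynomial.X + 1)
    have hp : p = Polynomial.X ^ 5 - Polynomial.X := by simp only [p]; ring
    have hp0 : p ≠ 0 := by
      rw [hp]
      intro h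
      have := congrArg (fun q : Polynomial F => q.coeff 5) h
      simp [Polynomial.coeff_X] at this
    have hcard : Fintype.card F ≤ p.natDegree := by
      refine le_trans ?_ (Polynomial.card_roots' p)
      rw [← Finset.card_univ]
      refine (Finset.card_le_card fun a _ => ?_).trans (Multiset.toFinset_card_le _)
      rw [Multiset.mem_toFinset, Polynomial.mem_roots hp0]
      simp [Polynomial.IsRoot, p, hall a]
    have hdeg : p.natDegree ≤ 5 := by
      rw [hp]; refine (Polynomial.natDegree_sub_le _ _).trans ?_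
      simp [Polynomial.natDegree_X_pow]
    omega
  simp only [mul_ne_zero_iff] at ht
  obtain ⟨⟨ht0, htm⟩, htp⟩ := ht
  have hden : 1 + t * t ≠ 0 := by rwa [add_comm]
  set a := (1 - t * t) / (1 + t * t) with ha
  set b := 2 * t / (1 + t * t) with hb
  have hab : a * a + b * b = 1 := by
    rw [ha, hb, div_mul_div_comm, div_mul_div_comm, ← add_div, div_eq_one_iff_eq (mul_ne_zero hden hden)]
    ring
  have ha0 : a ≠ 0 := div_ne_zero (fun h => htm (by linear_combination -h)) hden
  have hb0 : b ≠ 0 := div_ne_zero (mul_ne_zero h2 ht0) hden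
  obtain ⟨p, hchar⟩ := CharP.exists F
  haveI : Fact p.Prime := ⟨CharP.char_is_prime F p⟩
  haveI : NeZero p := ⟨(Fact.out : p.Prime).ne_zero⟩
  obtain ⟨c, d, hcd⟩ := CharP.sq_add_sq F p (-1)
  let J : SL := ⟨!![0, 1; -1, 0], by simp [Matrix.det_fin_two]⟩
  let A : SL := ⟨!![a, b; -b, a], by simp [Matrix.det_fin_two]; linear_combination hab⟩
  let B : SL := ⟨!![(c : F), (d : F); (d : F), -(c : F)], by
    simp [Matrix.det_fin_two]; push_cast at hcd; linear_combination -hcd⟩
  obtain ⟨Z, hZc, hZ⟩ := neg_one_mem_center (F := F) ⟨⟨-1, by simp [Matrix.det_neg]⟩, rfl⟩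
  have hsign : ∀ M N : SL, ↟M = -↟N → π M = π N := by
    intro M N h
    have : M = N * Z := Subtype.ext (by
      show ↟M = ↟N * ↟Z
      rw [h, hZ, Matrix.mul_neg, mul_one])
    rw [this, map_mul, show π Z = 1 from (QuotientGroup.eq_one_iff Z).2 hZc, mul_one]
  have hJ1 : π J ≠ 1 := fun e => by
    rcases sl2_center ((QuotientGroup.eq_one_iff J).1 e) with h | h <;>
    · have := congrFun₂ h 0 1
      simp [J] at this
  refine ⟨π J, π A, π B, hJ1, sq_eq_one_of_trace J (by simp [J, Matrix.trace_fin_two]), ?_, ?_, fun hc => ?_⟩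
  · rw [← map_mul, ← map_mul]
    congr 1
    refine Subtype.ext ?_
    show ↟A * ↟J = ↟J * ↟A
    ext i j
    fin_cases i <;> fin_cases j <;> simp [A, J, Matrix.mul_apply, Fin.sum_univ_two]
  · rw [← map_mul, ← map_mul]
    refine hsign _ _ ?_
    show ↟B * ↟J = -(↟J * ↟B)
    ext i j
    fin_cases i <;> fin_cases j <;> simp [B, J, Matrix.mul_apply, Fin.sum_univ_two]
  · rcases lift_commute hc with h | h
    · have h0 : ↟A * ↟B = ↟B * ↟A := congrArg Subtype.val h
      have e1 := congrFun₂ h0 0 0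
      have e2 := congrFun₂ h0 0 1
      simp [A, B, Matrix.mul_apply, Fin.sum_univ_two] at e1 e2
      have hd0 : (d : F) = 0 := (mul_eq_zero.1 (show (2 * b) * (d : F) = 0 by linear_combination e1)).resolve_left
        (mul_ne_zero h2 hb0)
      have hc0 : (c : F) = 0 := (mul_eq_zero.1 (show (2 * b) * (c : F) = 0 by linear_combination -e2)).resolve_left
        (mul_ne_zero h2 hb0)
      push_cast at hcd
      rw [hc0, hd0] at hcd
      norm_num at hcd
    · have e1 := congrFun₂ h 0 0
      have e2 := congrFun₂ h 0 1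
      simp [A, B, Matrix.mul_apply, Fin.sum_univ_two] at e1 e2
      have hc0 : (c : F) = 0 := (mul_eq_zero.1 (show (2 * a) * (c : F) = 0 by linear_combination e1)).resolve_left
        (mul_ne_zero h2 ha0)
      have hd0 : (d : F) = 0 := (mul_eq_zero.1 (show (2 * a) * (d : F) = 0 by linear_combination e2)).resolve_left
        (mul_ne_zero h2 ha0)
      push_cast at hcd
      rw [hc0, hd0] at hcd
      norm_num at hcd

/-- The subgroup over a proper subfield. -/
theorem exists_sub_psl {K : Type} [Field K] [Fintype K] (p : ℕ) [Fact p.Prime] [CharP F p] {m : ℕ}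
    (hm : 2 ≤ m) (h : Fintype.card K ^ m = Fintype.card F) (h3 : 3 < Fintype.card K) :
    ∃ ι : Matrix.ProjectiveSpecialLinearGroup (Fin 2) K →* PSL,
      Function.Injective ι ∧ ι.range ≠ ⊤ := by
  classical
  obtain ⟨f⟩ := Perm.Dickson.exists_embedding (F := F) (K := K) p (m := m) (by omega)
    (by simpa [Nat.card_eq_fintype_card] using h)
  set φ : Matrix.SpecialLinearGroup (Fin 2) K →* PSL := (π).comp (Matrix.SpecialLinearGroup.map f)
  have hiff : ∀ M, φ M = 1 ↔ M ∈ Subgroup.center (Matrix.SpecialLinearGroup (Fin 2) K) := by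
    intro M
    show π (Matrix.SpecialLinearGroup.map f M) = 1 ↔ _
    rw [QuotientGroup.mk'_apply, QuotientGroup.eq_one_iff]
    constructor
    · intro hM
      refine Subgroup.mem_center_iff.2 fun N => ?_
      have h1 := Subgroup.mem_center_iff.1 hM (Matrix.SpecialLinearGroup.map f N)
      rw [← map_mul, ← map_mul] at h1
      refine Subtype.ext ?_
      ext i j
      exact f.injective (congrFun₂ (congrArg Subtype.val h1) i j)
    · intro hM
      obtain ⟨r, hr, e⟩ := Matrix.SpecialLinearGroup.mem_center_iff.1 hM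
      refine Matrix.SpecialLinearGroup.mem_center_iff.2 ⟨f r, by rw [← map_pow, hr, map_one], ?_⟩
      ext i j
      show _ = f ((M : Matrix (Fin 2) (Fin 2) K) i j)
      rw [← e]
      by_cases hij : i = j <;> simp [hij, Matrix.diagonal]
  refine ⟨QuotientGroup.lift _ φ fun M hM => (hiff M).2 hM, ?_, fun htop => ?_⟩
  · refine (injective_iff_map_eq_one _).2 fun y hy => ?_
    obtain ⟨M, rfl⟩ := QuotientGroup.mk_surjective y
    exact (QuotientGroup.eq_one_iff M).2 ((hiff M).1 hy)
  · set ψ := QuotientGroup.lift _ φ fun M hM => (hiff M).2 hM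
    have hle : Nat.card PSL ≤ Nat.card (Matrix.ProjectiveSpecialLinearGroup (Fin 2) K) :=
      Nat.card_le_card_of_surjective ψ (MonoidHom.range_eq_top.1 htop)
    have hK := Classical.card_psl2 (F := K)
    have hF := Classical.card_psl2 (F := F)
    have hlt : Fintype.card K * Fintype.card K ≤ Fintype.card F := by
      rw [← h, ← pow_two]; exact Nat.pow_le_pow_right (by omega) hm
    have hg2 : Nat.gcd 2 (Fintype.card F - 1) ≤ 2 := Nat.gcd_le_left _ (by norm_num)
    have hg1 : 0 < Nat.gcd 2 (Fintype.card K - 1) := Nat.gcd_pos_of_pos_left _ (by norm_num)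
    have h1 : Nat.card (Matrix.ProjectiveSpecialLinearGroup (Fin 2) K) ≤
        Fintype.card K * ((Fintype.card K - 1) * (Fintype.card K + 1)) := by
      rw [← hK]; exact Nat.le_mul_of_pos_left _ hg1
    have h2 : Fintype.card F * ((Fintype.card F - 1) * (Fintype.card F + 1)) ≤
        2 * (Fintype.card K * ((Fintype.card K - 1) * (Fintype.card K + 1))) := by
      rw [← hF]; exact Nat.mul_le_mul hg2 (hle.trans h1)
    have h4 := (Nat.mul_le_mul hlt (Nat.mul_le_mul (Nat.sub_le_sub_right hlt 1)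
      (Nat.add_le_add_right hlt 1))).trans h2
    obtain ⟨j, hj⟩ : ∃ j, Fintype.card K = j + 4 := ⟨Fintype.card K - 4, by omega⟩
    rw [hj, show (j + 4) * (j + 4) = (j * j + 8 * j + 15) + 1 by ring,
      Nat.add_sub_cancel, show j + 4 - 1 = j + 3 from rfl] at h4
    ring_nf at h4
    linarith [Nat.zero_le (j ^ 2), Nat.zero_le (j ^ 3), Nat.zero_le (j ^ 4), Nat.zero_le (j ^ 5), Nat.zero_le (j ^ 6)]

end CfsgLib.MinNonCA
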