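import Cfsg.Agent.Lib.MinNonCA.Dihedral
import Cfsg.Agent.Lib.MinNonCA.PslFacts
import Cfsg.Agent.S0252
import Cfsg.Agent.S0253
import Mathlib.FieldTheory.Finite.GaloisField

/-!
# Perfect groups with all proper subgroups of the given kind
-/

set_option autoImplicit false
set_option linter.unusedSectionVars false
set_option linter.style.haveILetI false

namespace CfsgLib.MinNonCA

open Subgroup
open scoped Pointwise

universe u

variable {G : Type u} [Group G] [Finite G]

theorem NonabCent.mul_center {x z : G} (h : NonabCent x) (hz : z ∈ center G) : NonabCent (x * z) := by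
  obtain ⟨a, b, ha, hb, hab⟩ := h
  exact ⟨a, b, ha.mul_right (commute_of_center hz a).symm, hb.mul_right (commute_of_center hz b).symm, hab⟩

namespace PerfCtx

variable {S : Sylow 2 G} (c : PerfCtx S)
include c

theorem first_not_nonab {y : G} (f : First (S : Subgroup G) y) : ¬ NonabCent y := fun hn => by
  have hyc : y ∉ center G := fun h => f.not_mem ((c.mem_zS_iff f.mem).2 h)
  refine f.not_mem (mem_zS.2 ⟨f.mem, fun s hs => (commute_of_shift c.sub hn
    (cent_not_normal c.perf c.sub hn hyc) (c.zS_le_center (f.comm s hs)) ?_).symm⟩)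
  rw [← (commute_of_center (c.zS_le_center (f.comm s hs)) y).eq]
  group

/-- Involutions modulo the centre have abelian centralizers. -/
theorem not_nonab_invol {t : G} (ht : t ∉ center G) (ht2 : t * t ∈ center G) : ¬ NonabCent t := by
  classical
  haveI : Fact (Nat.Prime 2) := ⟨Nat.prime_two⟩
  intro hn
  set π := QuotientGroup.mk' (center G) with hπ
  have hord : orderOf (π t) = 2 := orderOf_eq_prime
    (by rw [pow_two, ← map_mul]; exact (QuotientGroup.eq_one_iff _).2 ht2)
    (fun e => ht ((QuotientGroup.eq_one_iff t).1 e))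
  have hp : IsPGroup 2 (zpowers (π t)) := IsPGroup.of_card (n := 1) (by rw [Nat.card_zpowers, hord, pow_one])
  obtain ⟨k, hk⟩ := Invol.exists_conj_le_sylow hp (S.mapSurjective (QuotientGroup.mk'_surjective (center G)))
  obtain ⟨k, rfl⟩ := QuotientGroup.mk'_surjective (center G) k
  obtain ⟨s, hs, est⟩ := hk _ (mem_zpowers (π t))
  have hz : (k * t * k⁻¹)⁻¹ * s ∈ center G := by
    refine QuotientGroup.eq.1 ?_
    exact est.symm
  have hsn : NonabCent s := by
    have := (hn.conj k).mul_center hz
    rwa [mul_inv_cancel_left] at this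
  have hsc : s ∉ center G := fun h => by
    have h1 := mul_mem h (inv_mem hz)
    rw [_root_.mul_inv_rev, inv_inv, mul_inv_cancel_left] at h1
    have h2 := (inferInstance : (center G).Normal).conj_mem _ h1 k⁻¹
    rw [show k⁻¹ * (k * t * k⁻¹) * k⁻¹⁻¹ = t by group] at h2
    exact ht h2
  have hs2 : s * s ∈ zS (S : Subgroup G) := by
    rw [← c.eq_one_iff (mul_mem hs hs), map_mul, est]
    show π k * π t * (π k)⁻¹ * (π k * π t * (π k)⁻¹) = 1
    rw [show π k * π t * (π k)⁻¹ * (π k * π t * (π k)⁻¹) = π k * (π t * π t) * (π k)⁻¹ by group,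
      ← map_mul π t t, show π (t * t) = 1 from (QuotientGroup.eq_one_iff _).2 ht2, mul_one, mul_inv_cancel]
  obtain ⟨x, f, hidx⟩ := c.exists_index_two
  have hsz : s ∉ zS (S : Subgroup G) := fun h => hsc (c.zS_le_center h)
  by_cases hsx : Commute s x
  · exact c.first_not_nonab (c.first_of_sq f hidx hs hsx hs2 hsz) hsn
  · obtain ⟨g, hgS, hgx⟩ := c.exists_conj_inside f hidx hs hsx
    refine c.first_not_nonab (c.first_of_sq f hidx hgS hgx ((c.mem_zS_iff (mul_mem hgS hgS)).2 ?_)
      fun h => hsc ?_) (hsn.conj g)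
    · rw [show g * s * g⁻¹ * (g * s * g⁻¹) = g * (s * s) * g⁻¹ by group]
      exact (inferInstance : (center G).Normal).conj_mem _ (c.zS_le_center hs2) g
    · have := (inferInstance : (center G).Normal).conj_mem _ (c.zS_le_center h) g⁻¹
      rwa [show g⁻¹ * (g * s * g⁻¹) * g⁻¹⁻¹ = s by group] at this

end PerfCtx

/-- A noncentral element with nonabelian centralizer: the image of that centralizer modulo the centre
is not abelian. -/
theorem not_abelian_cent (hperf : commutator G = ⊤) (hp : SubCA G) {x : G} (hx : x ∉ center G)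
    (hn : NonabCent x)
    (hab : ∀ a b : G, Commute a x → Commute b x → a * b * a⁻¹ * b⁻¹ ∈ center G) : False := by
  classical
  set π := QuotientGroup.mk' (center G) with hπ
  have hπs := QuotientGroup.mk'_surjective (center G)
  set M := centralizer ({x} : Set G) with hM
  have hnn := cent_not_normal hperf hp hn hx
  set B := M.map π with hB
  have hBc : ∀ a ∈ B, ∀ b ∈ B, Commute a b := by
    rintro _ ⟨a, ha, rfl⟩ _ ⟨b, hb, rfl⟩
    show π a * π b = π b * π a
    rw [← map_mul, ← map_mul]
    refine (QuotientGroup.eq).2 ?_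
    have := hab b⁻¹ a⁻¹ (inv_mem (s := centralizer ({x} : Set G)) hb |> mem_cent.1)
      (inv_mem (s := centralizer ({x} : Set G)) ha |> mem_cent.1)
    rwa [show b⁻¹ * a⁻¹ * b⁻¹⁻¹ * a⁻¹⁻¹ = (a * b)⁻¹ * (b * a) by group] at this
  have hxB : π x ∈ B := mem_map_of_mem π (mem_cent.2 (Commute.refl x))
  have hx1 : π x ≠ 1 := fun e => hx ((QuotientGroup.eq_one_iff x).1 e)
  obtain ⟨r, hr, hrd⟩ := Nat.exists_prime_and_dvd (n := orderOf (π x)) (mt orderOf_eq_one_iff.1 hx1)
  haveI := Fact.mk hr
  obtain ⟨P⟩ : Nonempty (Sylow r B) := inferInstance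
  set P' := (P : Subgroup B).map B.subtype with hP'
  have hP'B : P' ≤ B := map_subtype_le _
  have hP'2 : IsPGroup r P' := P.2.map _
  have hP'ne : P' ≠ ⊥ := by
    rw [hP', Ne, map_eq_bot_iff_of_injective _ B.subtype_injective]
    intro e
    have h1 := P.not_dvd_index
    rw [e, index_bot] at h1
    exact h1 (hrd.trans ((Subgroup.orderOf_dvd_natCard B hxB)))
  have hperfQ : commutator (G ⧸ center G) = ⊤ := by
    rw [commutator_def, ← map_top_of_surjective π hπs, ← map_commutator, ← commutator_def, hperf]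
  -- the normalizer of `P'` is `B`
  have hNB : normalizer (P' : Set (G ⧸ center G)) ≤ B := by
    have hMle : M ≤ (normalizer (P' : Set (G ⧸ center G))).comap π := fun a ha => by
      rw [mem_comap, mem_normalizer_iff]
      intro y
      constructor
      · intro hy
        rw [(hBc _ (mem_map_of_mem π ha) _ (hP'B hy)).eq, mul_inv_cancel_right]; exact hy
      · intro hy
        have h2 : π a * y * (π a)⁻¹ = y := by
          have := (hBc _ (mem_map_of_mem π (inv_mem ha)) _ (hP'B hy)).eq
          rw [map_inv] at this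
          calc π a * y * (π a)⁻¹ = π a * y * (π a)⁻¹ * (π a)⁻¹ * π a := by group
            _ = (π a)⁻¹ * (π a * y * (π a)⁻¹) * π a := by rw [← this]
            _ = y := by group
        rwa [h2] at hy
    have hne : (normalizer (P' : Set (G ⧸ center G))).comap π ≠ ⊤ := by
      intro e
      haveI : P'.Normal := normalizer_eq_top_iff.1
        (comap_injective hπs (e.trans (comap_top π).symm))
      haveI : Group.IsNilpotent P' := hP'2.isNilpotent
      have hcen : P' ≤ center (G ⧸ center G) := by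
        intro y hy
        refine mem_center_iff.2 fun g => ?_
        have hsub : M ≤ (centralizer (P' : Set (G ⧸ center G))).comap π := fun a ha =>
          mem_centralizer_iff.2 fun v hv => (hBc _ (hP'B hv) _ (mem_map_of_mem π ha)).eq
        rcases eq_or_ne ((centralizer (P' : Set (G ⧸ center G))).comap π) ⊤ with h | h
        · obtain ⟨g', rfl⟩ := hπs g
          exact (mem_centralizer_iff.1 (mem_comap.1 (h ▸ mem_top g')) y hy).symm
        · exact absurd (le_antisymm (cent_maximal hp hn hsub h) hsub ▸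
            (inferInstance : ((centralizer (P' : Set (G ⧸ center G))).comap π).Normal)) hnn
      exact hP'ne (eq_bot_iff.2 (hcen.trans (center_quotient_eq_bot hperf).le))
    intro y hy
    obtain ⟨g, rfl⟩ := hπs y
    exact mem_map_of_mem π (cent_maximal hp hn hMle hne hy)
  have hSyl : ¬ r ∣ P'.index := by
    intro hd
    obtain ⟨T, hT⟩ := hP'2.exists_le_sylow
    by_cases hle : (T : Subgroup (G ⧸ center G)) ≤ P'
    · exact T.not_dvd_index (hd.trans (index_dvd_of_le hle))
    · obtain ⟨y, hyT, hyN, hyP⟩ := Invol.exists_mem_normalizer_notMem T.2 hT hle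
      have hyB := hNB hyN
      have hmax : IsPGroup r ↥((T : Subgroup (G ⧸ center G)).subgroupOf B) :=
        T.2.comap_subtype
      have hle2 : (P : Subgroup B) ≤ (T : Subgroup (G ⧸ center G)).subgroupOf B := fun v hv =>
        mem_subgroupOf.2 (hT ⟨v, hv, rfl⟩)
      have he := P.3 hmax hle2
      exact hyP ⟨⟨y, hyB⟩, he.le (show (⟨y, hyB⟩ : B) ∈ (T : Subgroup (G ⧸ center G)).subgroupOf B from mem_subgroupOf.2 hyT), rfl⟩
  set T : Sylow r (G ⧸ center G) := hP'2.toSylow hSyl with hT
  have hburn : normalizer ((T : Subgroup (G ⧸ center G)) : Set (G ⧸ center G)) ≤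
      centralizer ((T : Subgroup (G ⧸ center G)) : Set (G ⧸ center G)) := fun y hy =>
    mem_centralizer_iff.2 fun v hv => (hBc v (hP'B hv) y (hNB hy)).eq
  obtain ⟨T', N, hNn, hN⟩ := Fusion.hasNormalPComplement_of_normalizer_le_centralizer T hburn
  haveI := hNn
  haveI : Group.IsSolvable ((G ⧸ center G) ⧸ N) := by
    have hq : IsPGroup r ((G ⧸ center G) ⧸ N) := by
      obtain ⟨n, hn⟩ := T'.2.exists_card_eq
      exact IsPGroup.of_card (n := n) (by rw [← Subgroup.index_eq_card, hN.symm.index_eq_card, hn])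
    haveI := hq.isNilpotent
    infer_instance
  have hNt := eq_top_of_solvable_quotient hperfQ N
  have h1 : Nat.card (T' : Subgroup (G ⧸ center G)) = 1 := by
    rw [← hN.symm.index_eq_card, hNt, index_top]
  have h2 : Nat.card (T : Subgroup (G ⧸ center G)) = 1 := by
    rw [Nat.card_congr (Sylow.equiv T T').toEquiv, h1]
  exact hP'ne (card_eq_one.1 h2)

/-- The alternating group of degree seven does not occur. -/
theorem no_alt_seven (hperf : commutator G = ⊤) (hp : SubCA G) (φ : G →* alternatingGroup (Fin 7))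
    (hφ : Function.Surjective φ) (hker : φ.ker = center G) : False := by
  classical
  let C : alternatingGroup (Fin 7) := ⟨Equiv.swap 0 1 * Equiv.swap 1 2,
    Equiv.Perm.mem_alternatingGroup.2 (by decide +kernel)⟩
  let W : alternatingGroup (Fin 7) := ⟨Equiv.swap 0 1 * (Equiv.swap 3 5 * Equiv.swap 5 4 * Equiv.swap 4 6),
    Equiv.Perm.mem_alternatingGroup.2 (by decide +kernel)⟩
  let D : alternatingGroup (Fin 7) := ⟨Equiv.swap 3 4 * Equiv.swap 4 5,
    Equiv.Perm.mem_alternatingGroup.2 (by decide +kernel)⟩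
  let T : Subgroup (alternatingGroup (Fin 7)) :=
    { carrier := {σ | ∀ i : Fin 7, ((σ.1 i : ℕ) < 3 ↔ (i : ℕ) < 3)}
      one_mem' := fun i => Iff.rfl
      mul_mem' := fun {a b} ha hb i => (ha (b.1 i)).trans (hb i)
      inv_mem' := fun {a} ha i => by
        have := ha (a.1⁻¹ i)
        rw [show a.1 (a.1⁻¹ i) = i from a.1.apply_symm_apply i] at this
        exact this.symm }
  have hCT : C ∈ T := fun i => by revert i; decide +kernel
  have hWT : W ∈ T := fun i => by revert i; decide +kernel
  have hDT : D ∈ T := fun i => by revert i; decide +kernel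
  have hTtop : T ≠ ⊤ := fun h => by
    have hm : (⟨Equiv.swap 0 3 * Equiv.swap 1 2, Equiv.Perm.mem_alternatingGroup.2 (by decide +kernel)⟩ :
        alternatingGroup (Fin 7)) ∈ T := h ▸ mem_top _
    exact absurd (hm 0) (by decide +kernel)
  have hWC : W * C * W⁻¹ ≠ C := fun h => absurd (congrArg Subtype.val h) (by decide +kernel)
  have hAC : (W * W) * C = C * (W * W) := Subtype.ext (by decide +kernel)
  have hAA : (W * W) * (W * W) = 1 := Subtype.ext (by decide +kernel)
  have hC3 : C * C * C = 1 := Subtype.ext (by decide +kernel)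
  have hAD : (W * W) * D ≠ D * (W * W) := fun h => absurd (congrArg Subtype.val h) (by decide +kernel)
  obtain ⟨c, hc⟩ := hφ C
  obtain ⟨w, hw⟩ := hφ W
  obtain ⟨d, hd⟩ := hφ D
  set a := w * w with ha
  have hz : a * c * a⁻¹ * c⁻¹ ∈ center G := by
    rw [← hker, MonoidHom.mem_ker, map_mul, map_mul, map_mul, map_inv, map_inv, ha, map_mul, hw, hc, hAC,
      mul_inv_cancel_right, mul_inv_cancel]
  have ha2 : a * a ∈ center G := by
    rw [← hker, MonoidHom.mem_ker, map_mul, ha, map_mul, hw, hAA]
  have hc3 : c * c * c ∈ center G := by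
    rw [← hker, MonoidHom.mem_ker, map_mul, map_mul, hc, hC3]
  have hac : Commute a c := by
    set z := a * c * a⁻¹ * c⁻¹ with hzdef
    have e1 : a * c * a⁻¹ = z * c := by rw [hzdef]; group
    have e2 : z * z = 1 := by
      have h2 : a * a * c * (a * a)⁻¹ = c := by
        rw [(commute_of_center ha2 c).eq, mul_inv_cancel_right]
      rw [show a * a * c * (a * a)⁻¹ = a * (a * c * a⁻¹) * a⁻¹ by group, e1,
        show a * (z * c) * a⁻¹ = (a * z) * c * a⁻¹ by group, ← (commute_of_center hz a).eq,
        show z * a * c * a⁻¹ = z * (a * c * a⁻¹) by group, e1, ← mul_assoc] at h2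
      exact mul_eq_right.1 h2
    have e3 : z * z * z = 1 := by
      have h3 : a * (c * c * c) * a⁻¹ = c * c * c := by
        rw [← (commute_of_center hc3 a).eq, mul_inv_cancel_right]
      rw [show a * (c * c * c) * a⁻¹ = (a * c * a⁻¹) * (a * c * a⁻¹) * (a * c * a⁻¹) by group, e1] at h3
      have k := fun y => (commute_of_center hz y).eq
      rw [show z * c * (z * c) * (z * c) = z * (c * z) * c * (z * c) by group, ← k c,
        show z * (z * c) * c * (z * c) = z * z * ((c * c) * z) * c by group, ← k (c * c),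
        show z * z * (z * (c * c)) * c = z * z * z * (c * c * c) by group] at h3
      exact mul_eq_right.1 h3
    have hz1 : z = 1 := by rwa [e2, one_mul] at e3
    rw [hz1, one_mul] at e1
    exact mul_inv_eq_iff_eq_mul.1 e1
  set H := T.comap φ with hH
  have hHt : H ≠ ⊤ := fun e => hTtop (comap_injective hφ (e.trans (comap_top φ).symm))
  have hcH : c ∈ H := by rw [hH, mem_comap, hc]; exact hCT
  have hwH : w ∈ H := by rw [hH, mem_comap, hw]; exact hWT
  have hdH : d ∈ H := by rw [hH, mem_comap, hd]; exact hDT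
  have hwc : ¬ Commute w c := fun h => hWC (by
    rw [← hw, ← hc, ← map_inv, ← map_mul, ← map_mul, h.eq, mul_inv_cancel_right])
  have had := (hp H hHt).central (mul_mem hwH hwH) hwH hcH ((Commute.refl w).mul_right (Commute.refl w))
    hac.symm hwc hdH
  exact hAD (by rw [← hw, ← hd, ← map_mul, ← map_mul, ← map_mul, had.eq])

/-- The perfect groups. -/
theorem perfect_type (hperf : commutator G = ⊤) (hp : SubCA G) (hne : ∃ g : G, g ≠ 1) :
    (∃ (F : Type) (_ : Field F) (_ : Fintype F), Odd (Fintype.card F) ∧ 3 < Fintype.card F ∧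
      ∃ φ : G →* Matrix.ProjectiveSpecialLinearGroup (Fin 2) F, Function.Surjective φ ∧ φ.ker = center G) ∨
    (∃ (F : Type) (_ : Field F) (_ : Fintype F), CharP F 2 ∧ 4 ≤ Fintype.card F ∧
      Nonempty (G ≃* Matrix.SpecialLinearGroup (Fin 2) F)) := by
  classical
  obtain ⟨S⟩ : Nonempty (Sylow 2 G) := inferInstance
  by_cases hab : ∀ a ∈ (S : Subgroup G), ∀ b ∈ (S : Subgroup G), Commute a b
  · rcases (AbCtx.classify (⟨hperf, hp, hab, hne⟩ : AbCtx S)) with
      ⟨F, iF, iFf, ho, h3, -, ⟨e⟩⟩ | h
    · refine Or.inl ⟨F, iF, iFf, ho, h3, e.toMonoidHom, e.surjective, ?_⟩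
      haveI : IsSimpleGroup (Matrix.ProjectiveSpecialLinearGroup (Fin 2) F) :=
        Matrix.ProjectiveSpecialLinearGroup.rank_two_simple (by rw [Nat.card_eq_fintype_card]; omega)
      refine le_antisymm ?_ (center_le_ker hperf _ e.surjective)
      rw [(MonoidHom.ker_eq_bot_iff _).2 e.injective]
      exact bot_le
    · exact Or.inr h
  · push Not at hab
    have c : PerfCtx S := ⟨hperf, hp, hab⟩
    rcases c.classify with h | ⟨φ, hφ, hker⟩
    · exact Or.inl h
    · exact (no_alt_seven hperf hp φ hφ hker).elim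

/-- The side conditions on `q`. -/
def GoodQ (q : ℕ) : Prop :=
  (q.Prime ∧ 5 < q ∧ ¬ 16 ∣ q ^ 2 - 1) ∨ (∃ p : ℕ, p.Prime ∧ p ≠ 2 ∧ (q = 3 ^ p ∨ q = 5 ^ p))

theorem not_nonCA_sub (hp : SubCA G) {K : Type} [Field K] [Fintype K]
    (hodd : Odd (Fintype.card K)) (h7 : 7 ≤ Fintype.card K)
    (ι : Matrix.ProjectiveSpecialLinearGroup (Fin 2) K →* G) (hι : Function.Injective ι)
    (hne : ι.range ≠ ⊤) : False := by
  haveI : IsSimpleGroup (Matrix.ProjectiveSpecialLinearGroup (Fin 2) K) :=
    Matrix.ProjectiveSpecialLinearGroup.rank_two_simple (by rw [Nat.card_eq_fintype_card]; omega)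
  obtain ⟨x, a, b, hx1, -, ha, hb, hab⟩ := psl_exists_nonab hodd h7
  obtain ⟨y, hy⟩ := exists_not_commute (x := x) fun hxc => by
    rcases (inferInstance : (center (Matrix.ProjectiveSpecialLinearGroup (Fin 2) K)).Normal).eq_bot_or_eq_top
      with h1 | h1
    · exact hx1 (mem_bot.1 (h1 ▸ hxc))
    · exact hab (commute_of_center (h1 ▸ mem_top a) b)
  have hc := (hp ι.range hne).central ⟨x, rfl⟩ ⟨a, rfl⟩ ⟨b, rfl⟩ ((show Commute a x from ha).map ι)
    ((show Commute b x from hb).map ι) (fun h => hab (hι (by rw [map_mul, map_mul]; exact h.eq)))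
    (⟨y, rfl⟩ : ι y ∈ ι.range)
  exact hy (hι (by rw [map_mul, map_mul]; exact hc.eq))

/-- `q` satisfies the conditions when the Sylow `2`-subgroup has order four and subfield groups are excluded. -/
theorem goodQ_of (hp : SubCA G) {F : Type} [Field F] [Fintype F]
    (e : G ≃* Matrix.ProjectiveSpecialLinearGroup (Fin 2) F) (hodd : Odd (Fintype.card F))
    (h3 : 3 < Fintype.card F) (h8 : ¬ 8 ∣ Nat.card G) (hn : ¬ CAOn (⊤ : Subgroup G)) :
    GoodQ (Fintype.card F) := by
  classical
  set q := Fintype.card F with hq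
  have hcard := Classical.card_psl2 (F := F)
  rw [← Nat.card_congr e.toEquiv] at hcard
  have hg : Nat.gcd 2 (q - 1) = 2 := by
    obtain ⟨j, hj⟩ := hodd
    exact Nat.gcd_eq_left ⟨j, by omega⟩
  rw [← hq, hg] at hcard
  have hsq : q ^ 2 - 1 = (q - 1) * (q + 1) := by
    rw [mul_comm]; have := Nat.sq_sub_sq q 1; simpa using this
  have h16 : ¬ 16 ∣ q ^ 2 - 1 := by
    intro h16
    rw [hsq] at h16
    have h16' : 2 * 8 ∣ 2 * Nat.card G := by rw [hcard]; exact h16.mul_left q
    exact h8 (Nat.dvd_of_mul_dvd_mul_left two_pos h16')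
  obtain ⟨p, hchar⟩ := CharP.exists F
  haveI := hchar
  obtain ⟨f, hpp, hf⟩ := FiniteField.card F p
  haveI : Fact p.Prime := ⟨hpp⟩
  rw [← hq] at hf
  have hp2 : p ≠ 2 := by
    rintro rfl
    exact Nat.not_even_iff_odd.2 hodd (hf ▸ (Nat.even_pow.2 ⟨even_two, f.ne_zero⟩))
  -- no subfield with at least seven elements
  have hsub : ∀ d, d ∣ (f : ℕ) → d < f → p ^ d < 7 := by
    intro d hd hdf
    by_contra h7
    push Not at h7
    haveI : Fintype (GaloisField p d) := Fintype.ofFinite _
    have hd0 : d ≠ 0 := fun h => by rw [h, pow_zero] at h7; omega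
    have hK : Fintype.card (GaloisField p d) = p ^ d := by
      rw [← Nat.card_eq_fintype_card]; exact GaloisField.card p d hd0
    obtain ⟨m, hm⟩ := hd
    have hm2 : 2 ≤ m := by
      by_contra h
      interval_cases m <;> simp_all
    obtain ⟨ι, hι, hne⟩ := exists_sub_psl (F := F) (K := GaloisField p d) p hm2
      (by rw [hK, ← pow_mul, ← hm, ← hq, hf]) (by omega)
    refine not_nonCA_sub hp (by rw [hK]; exact (hpp.odd_of_ne_two hp2).pow) (by omega)
      (e.symm.toMonoidHom.comp ι) (e.symm.injective.comp hι) fun h => hne (eq_top_iff.2 fun y _ => ?_)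
    obtain ⟨k, hk⟩ : e.symm y ∈ (e.symm.toMonoidHom.comp ι).range := h ▸ mem_top _
    exact ⟨k, e.symm.injective hk⟩
  by_cases hf1 : (f : ℕ) = 1
  · rw [hf1, pow_one] at hf
    refine Or.inl ⟨hf.symm ▸ hpp, ?_, h16⟩
    by_contra h5
    have hq5 : q = 5 := by
      rcases Nat.lt_or_ge q 5 with h | h
      · rw [show q = 4 by omega] at hodd; exact absurd hodd (by decide)
      · omega
    haveI : Fintype (GaloisField 2 2) := Fintype.ofFinite _
    have hK : Fintype.card (GaloisField 2 2) = 4 := by
      rw [← Nat.card_eq_fintype_card, GaloisField.card 2 2 (by norm_num)]; norm_num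
    obtain ⟨e1⟩ := Cfsg.Agent.S0252.result hK
    obtain ⟨e2⟩ := Cfsg.Agent.S0253.result (F := F) hq5
    exact hn (cAOn_of_mulEquiv_sl2 ((e.trans (e2.trans e1.symm)).trans
      ((QuotientGroup.quotientMulEquivOfEq (CfsgLib.Lie.ShortPres.center_eq_bot_of_two
        (CharTwo.two_eq_zero (R := GaloisField 2 2)))).trans QuotientGroup.quotientBot)))
  · right
    have hf2 : 2 ≤ (f : ℕ) := by have := f.pos; omega
    have hp35 : p = 3 ∨ p = 5 := by
      have h := hsub 1 (one_dvd _) (by omega)
      rw [pow_one] at h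
      have := hpp.two_le
      interval_cases p <;> simp_all (config := { decide := true })
    have hfodd : ¬ 2 ∣ (f : ℕ) := by
      rintro ⟨j, hj⟩
      refine h16 ?_
      rw [hsq, hf, hj, pow_mul']
      obtain ⟨i, hi⟩ := (hpp.odd_of_ne_two hp2).pow (n := j)
      rw [hi]
      have e1 : (2 * i + 1) ^ 2 - 1 = 4 * (i * (i + 1)) := by
        have : (2 * i + 1) ^ 2 = 4 * (i * (i + 1)) + 1 := by ring
        omega
      have e2 : (2 * i + 1) ^ 2 + 1 = 2 * (2 * (i * (i + 1)) + 1) := by ring
      rw [e1, e2]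
      obtain ⟨k, hk⟩ := even_iff_two_dvd.1 (Nat.even_mul_succ_self i)
      rw [hk]
      exact ⟨k * (2 * (2 * k) + 1), by ring⟩
    have hfp : (f : ℕ).Prime := by
      by_contra hnp
      obtain ⟨d, hd, hd1, hdf⟩ := Nat.exists_dvd_of_not_prime2 hf2 hnp
      have hd2 : d ≠ 2 := fun h => hfodd (h ▸ hd)
      have h := hsub d hd hdf
      have : p ^ 3 ≤ p ^ d := Nat.pow_le_pow_right hpp.pos (by omega)
      rcases hp35 with rfl | rfl <;> omega
    exact ⟨f, hfp, fun h => hfodd (by rw [h]), hp35.imp (fun h => by rw [hf, h]) fun h => by rw [hf, h]⟩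

/-- Perfect groups not of the given kind with all proper subgroups of the given kind. -/
theorem perfect_nonCA (hperf : commutator G = ⊤) (hp : SubCA G) (hn : ¬ CAOn (⊤ : Subgroup G)) :
    ∃ (F : Type) (_ : Field F) (_ : Fintype F),
      Nonempty (G ≃* Matrix.ProjectiveSpecialLinearGroup (Fin 2) F) ∧ GoodQ (Fintype.card F) := by
  classical
  haveI : Fact (Nat.Prime 2) := ⟨Nat.prime_two⟩
  obtain ⟨x, hx', a, hax, b, hbx, hab⟩ : ∃ x, x ∉ center G ∧ ∃ a, Commute a x ∧ ∃ b, Commute b x ∧
      ¬ Commute a b := by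
    by_contra h
    push Not at h
    exact hn fun x _ ⟨y, _, hxy⟩ a _ b _ hax hbx =>
      h x (fun hc => hxy (commute_of_center hc y)) a hax b hbx
  have hnx : NonabCent x := ⟨a, b, hax, hbx, hab⟩
  obtain ⟨S⟩ : Nonempty (Sylow 2 G) := inferInstance
  by_cases hS : ∀ a ∈ (S : Subgroup G), ∀ b ∈ (S : Subgroup G), Commute a b
  · have c : AbCtx S := ⟨hperf, hp, hS, ⟨a, fun h => hab (h ▸ Commute.one_left b)⟩⟩
    rcases c.classify with ⟨F, iF, iFf, ho, h3, -, ⟨e⟩⟩ | ⟨F, iF, iFf, -, -, ⟨e⟩⟩
    · refine ⟨F, iF, iFf, ⟨e⟩, goodQ_of hp e ho h3 ?_ hn⟩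
      -- the Sylow subgroup has order four
      have hinv : ∃ t : G, orderOf t = 2 ∧ NonabCent t := by
        by_contra hno
        push Not at hno
        have hx1 : x * x = 1 := by
          by_contra hxx
          have hxx' : e x * e x ≠ 1 := fun h => hxx (e.injective (by rw [map_mul, map_one, h]))
          refine hab (e.injective ?_)
          rw [map_mul, map_mul]
          exact psl_cent_comm (Classical.two_ne_zero_of_odd_card ho) hxx' (by rw [← map_mul, ← map_mul, hax.eq])
            (by rw [← map_mul, ← map_mul, hbx.eq])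
        exact hno x (orderOf_eq_prime (by rw [pow_two, hx1]) fun h => hx' (h ▸ one_mem _)) hnx
      obtain ⟨t, hto, ht⟩ := hinv
      obtain ⟨k, hk⟩ := Invol.exists_conj_le_sylow
        (IsPGroup.of_card (p := 2) (n := 1) (by rw [Nat.card_zpowers, hto, pow_one]) : IsPGroup 2 (zpowers t)) S
      obtain ⟨h4, -⟩ := c.card_four (hk t (mem_zpowers t))
        (by rw [show k * t * k⁻¹ * (k * t * k⁻¹) = k * (t * t) * k⁻¹ by group, ← pow_two,
          ← hto, pow_orderOf_eq_one, mul_one, mul_inv_cancel])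
        (fun h => by rw [conj_eq_one_iff] at h; rw [h, orderOf_one] at hto; norm_num at hto) (ht.conj k)
      intro h8
      rw [← (S : Subgroup G).card_mul_index, h4] at h8
      exact S.not_dvd_index (Nat.dvd_of_mul_dvd_mul_left (show 0 < 4 by norm_num) h8)
    · exact absurd (cAOn_of_mulEquiv_sl2 e) hn
  · exfalso
    push Not at hS
    have c : PerfCtx S := ⟨hperf, hp, hS⟩
    rcases c.classify with ⟨F, iF, iFf, ho, h3, φ, hφ, hker⟩ | ⟨φ, hφ, hker⟩
    · have hxx : x * x ∉ center G := fun h => c.not_nonab_invol hx' h hnx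
      refine not_abelian_cent hperf hp hx' hnx fun u v hu hv => ?_
      rw [← hker, MonoidHom.mem_ker, map_mul, map_mul, map_mul, map_inv, map_inv]
      rw [psl_cent_comm (Classical.two_ne_zero_of_odd_card ho)
        (fun h => hxx (by rw [← hker, MonoidHom.mem_ker, map_mul, h]))
        (show φ u * φ x = φ x * φ u by rw [← map_mul, ← map_mul, hu.eq])
        (show φ v * φ x = φ x * φ v by rw [← map_mul, ← map_mul, hv.eq]),
        mul_inv_cancel_right, mul_inv_cancel]
    · exact no_alt_seven hperf hp φ hφ hker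

end CfsgLib.MinNonCA
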