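import Cfsg.Agent.Lib.MinNonCA.Basic
import Cfsg.Agent.Lib.Coprime.Solvable

/-!
# Nonabelian two-groups with abelian centralizers of noncentral elements
-/

set_option autoImplicit false
set_option linter.unusedSectionVars false
set_option linter.style.haveILetI false

namespace CfsgLib.MinNonCA

open Subgroup

universe u

variable {G : Type u} [Group G] [Finite G]

/-- A nonabelian two-subgroup with abelian centralizers of noncentral elements. -/
structure TwoCtx (S : Subgroup G) : Prop where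
  two : IsPGroup 2 S
  ca : CAOn S
  nonab : ∃ a ∈ S, ∃ b ∈ S, ¬ Commute a b

/-- The centre of a subgroup, inside the group. -/
def zS (S : Subgroup G) : Subgroup G := S ⊓ centralizer (S : Set G)

theorem mem_zS {S : Subgroup G} {z : G} : z ∈ zS S ↔ z ∈ S ∧ ∀ y ∈ S, Commute z y := by
  simp only [zS, mem_inf, mem_centralizer_iff, SetLike.mem_coe]
  exact and_congr_right fun _ => ⟨fun h y hy => (h y hy).symm, fun h y hy => (h y hy).eq.symm⟩

/-- An involution of the centre of `S` modulo its centre. -/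
structure First (S : Subgroup G) (x : G) : Prop where
  mem : x ∈ S
  not_mem : x ∉ zS S
  sq : x * x ∈ zS S
  comm : ∀ s ∈ S, s * x * s⁻¹ * x⁻¹ ∈ zS S

variable {S : Subgroup G}

theorem TwoCtx.exists_first (h : TwoCtx S) (N : Subgroup G) (hNS : N ≤ S)
    (hn : ∀ s ∈ S, ∀ a ∈ N, s * a * s⁻¹ ∈ N) (hN : ¬ N ≤ zS S) : ∃ x ∈ N, First S x := by
  classical
  haveI : Fact (Nat.Prime 2) := ⟨Nat.prime_two⟩
  let π := QuotientGroup.mk' (center S)
  have h2 : IsPGroup 2 (S ⧸ center S) := h.two.to_quotient _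
  haveI : Group.IsNilpotent (S ⧸ center S) := h2.isNilpotent
  set M := (N.subgroupOf S).map π with hM
  haveI : (N.subgroupOf S).Normal := ⟨fun a ha s => mem_subgroupOf.2 (by
    push_cast; exact hn s s.2 a (mem_subgroupOf.1 ha))⟩
  haveI : M.Normal := Subgroup.Normal.map inferInstance π (QuotientGroup.mk'_surjective _)
  have hc : ∀ a : S, (a : G) ∈ zS S ↔ π a = 1 := fun a => by
    rw [QuotientGroup.mk'_apply, QuotientGroup.eq_one_iff, mem_zS, mem_center_iff]
    exact ⟨fun hh y => Subtype.ext (hh.2 y y.2).eq.symm, fun hh => ⟨a.2, fun y hy =>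
      (congrArg Subtype.val (hh ⟨y, hy⟩)).symm⟩⟩
  have hMne : M ≠ ⊥ := fun e => hN fun a ha => (hc ⟨a, hNS ha⟩).2 (mem_bot.1 (by
    rw [← e]; exact mem_map_of_mem π (mem_subgroupOf.2 ha)))
  have hI := Coprime.nilpotent_inf_center_ne_bot M hMne
  haveI : Nontrivial (M ⊓ center (S ⧸ center S) : Subgroup _) :=
    (nontrivial_iff_ne_bot _).2 hI
  have hp := (h2.to_subgroup (M ⊓ center (S ⧸ center S)))
  obtain ⟨y, hy⟩ := exists_prime_orderOf_dvd_card' (G := (M ⊓ center (S ⧸ center S) : Subgroup _)) 2 (by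
    obtain ⟨j, hj0, hj⟩ := hp.nontrivial_iff_card.1 inferInstance
    rw [hj]; exact dvd_pow_self 2 hj0.ne')
  obtain ⟨x, hxN, hxy⟩ : ∃ x ∈ N.subgroupOf S, π x = (y : S ⧸ center S) := y.2.1
  have hyc : (y : S ⧸ center S) ∈ center (S ⧸ center S) := y.2.2
  refine ⟨x, mem_subgroupOf.1 hxN, x.2, fun e => ?_, ?_, fun s hs => ?_⟩
  · have : y = 1 := Subtype.ext (hxy.symm.trans ((hc x).1 e))
    rw [this, orderOf_one] at hy
    norm_num at hy
  · refine (hc (x * x)).2 ?_
    have := pow_orderOf_eq_one y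
    rw [hy, pow_two] at this
    rw [map_mul, hxy]
    exact congrArg Subtype.val this
  · refine (hc (⟨s, hs⟩ * x * ⟨s, hs⟩⁻¹ * x⁻¹)).2 ?_
    rw [map_mul, map_mul, map_mul, map_inv, map_inv, hxy, mem_center_iff.1 hyc]
    group

theorem TwoCtx.exists_first' (h : TwoCtx S) : ∃ x, First S x := by
  obtain ⟨x, -, hx⟩ := h.exists_first S le_rfl (fun s hs a ha => mul_mem (mul_mem hs ha) (inv_mem hs))
    fun hle => by
      obtain ⟨a, ha, b, hb, hab⟩ := h.nonab
      exact hab ((mem_zS.1 (hle ha)).2 b hb)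
  exact ⟨x, hx⟩

namespace First

variable {x : G} (f : First S x)
include f

/-- Elements of `S` centralizing `x` commute. -/
theorem commY (h : TwoCtx S) {a b : G} (ha : a ∈ S) (hb : b ∈ S) (hax : Commute a x)
    (hbx : Commute b x) : Commute a b := by
  by_cases hc : ∀ y ∈ S, Commute x y
  · exact absurd (mem_zS.2 ⟨f.mem, hc⟩) f.not_mem
  · push Not at hc
    obtain ⟨y, hy, hxy⟩ := hc
    exact h.ca.commute f.mem hy hxy ha hb hax hbx

theorem cent_eq (h : TwoCtx S) {u s : G} (hu : u ∈ S) (hux : Commute u x) (huz : u ∉ zS S)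
    (hs : s ∈ S) (hsu : Commute s u) : Commute s x := by
  have hne : ∃ y ∈ S, ¬ Commute u y := by
    by_contra hc
    push Not at hc
    exact huz (mem_zS.2 ⟨hu, hc⟩)
  obtain ⟨y, hy, huy⟩ := hne
  exact h.ca.commute hu hy huy hs f.mem hsu hux.symm

/-- Squares of `S` centralize `x`. -/
theorem sq_commute {s : G} (hs : s ∈ S) : Commute (s * s) x := by
  set c := s * x * s⁻¹ * x⁻¹ with hc
  have hcz := mem_zS.1 (f.comm s hs)
  have h1 : s * x * s⁻¹ = c * x := by rw [hc]; group
  have hxx : s * (x * x) * s⁻¹ = x * x := by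
    rw [← ((mem_zS.1 f.sq).2 s hs).eq, mul_inv_cancel_right]
  have hc2 : c * c = 1 := by
    have h2 : s * (x * x) * s⁻¹ = c * c * (x * x) := by
      calc s * (x * x) * s⁻¹ = (s * x * s⁻¹) * (s * x * s⁻¹) := by group
        _ = c * (x * c) * x := by rw [h1]; group
        _ = c * (c * x) * x := by rw [(hcz.2 x f.mem).eq]
        _ = c * c * (x * x) := by group
    rw [hxx] at h2
    exact right_eq_mul.1 h2
  have h3 : s * s * x * (s * s)⁻¹ = x := by
    calc s * s * x * (s * s)⁻¹ = s * (s * x * s⁻¹) * s⁻¹ := by group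
      _ = s * c * x * s⁻¹ := by rw [h1]; group
      _ = c * (s * x * s⁻¹) := by rw [show s * c = c * s from (hcz.2 s hs).eq.symm]; group
      _ = x := by rw [h1, ← mul_assoc, hc2, one_mul]
  exact mul_inv_eq_iff_eq_mul.1 h3

/-- Outside the centralizer of `x` squares are central. -/
theorem sq_mem (h : TwoCtx S) {s : G} (hs : s ∈ S) (hsx : ¬ Commute s x) : s * s ∈ zS S := by
  by_contra hz
  exact hsx (f.cent_eq h (mul_mem hs hs) (f.sq_commute hs) hz hs
    ((Commute.refl s).mul_right (Commute.refl s)))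

/-- Elements outside invert the centralizer of `x` modulo the centre. -/
theorem inverts (h : TwoCtx S) {s y : G} (hs : s ∈ S) (hsx : ¬ Commute s x) (hy : y ∈ S)
    (hyx : Commute y x) : s * y * s⁻¹ * y ∈ zS S := by
  have hsy : ¬ Commute (s * y) x := fun hc => hsx (by
    have := hc.mul_left hyx.inv_left
    rwa [mul_inv_cancel_right] at this)
  have h1 := f.sq_mem h (mul_mem hs hy) hsy
  have h2 := f.sq_mem h hs hsx
  have e : s * y * s⁻¹ * y = (s * y * (s * y)) * (s * s)⁻¹ := by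
    have hc : Commute (s * s) y := (mem_zS.1 h2).2 y hy
    rw [show s * y * (s * y) = (s * y * s⁻¹) * (s * s * y) by group, hc.eq]
    group
  rw [e]
  exact mul_mem h1 (inv_mem h2)

/-- Either all squares are central, or the centralizer of `x` has index two. -/
theorem elementary_or_index (h : TwoCtx S) : (∀ a ∈ S, a * a ∈ zS S) ∨
    ∀ s ∈ S, ∀ s' ∈ S, ¬ Commute s x → ¬ Commute s' x → Commute (s * s') x := by
  by_cases hall : ∀ s ∈ S, ∀ s' ∈ S, ¬ Commute s x → ¬ Commute s' x → Commute (s * s') x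
  · exact Or.inr hall
  · left
    push Not at hall
    obtain ⟨s, hs, s', hs', hsx, hsx', hss⟩ := hall
    intro a ha
    by_cases hax : Commute a x
    · have h1 := f.inverts h hs' hsx' ha hax
      have h2 := f.inverts h (mul_mem hs hs') hss ha hax
      have hz : s' * a * s'⁻¹ ∈ S := mul_mem (mul_mem hs' ha) (inv_mem hs')
      have hzx : Commute (s' * a * s'⁻¹) x := by
        have : s' * a * s'⁻¹ = (s' * a * s'⁻¹ * a) * a⁻¹ := by group
        rw [this]
        exact ((mem_zS.1 h1).2 x f.mem).mul_left hax.inv_left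
      have h3 := f.inverts h hs hsx hz hzx
      rw [show s * s' * a * (s * s')⁻¹ = s * (s' * a * s'⁻¹) * s⁻¹ by group] at h2
      generalize s * (s' * a * s'⁻¹) * s⁻¹ = P at h2 h3
      generalize s' * a * s'⁻¹ = Q at h1 h3
      have c1 : Commute (Q * a) a⁻¹ := ((mem_zS.1 h1).2 a ha).inv_right
      have e3 : P * Q = P * a * (Q * a) * (a * a)⁻¹ := by
        calc P * Q = P * a * (a⁻¹ * (Q * a)) * a⁻¹ := by group
          _ = _ := by rw [← c1.eq]; group
      have e : a * a = (P * Q)⁻¹ * (P * a * (Q * a)) := by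
        rw [e3, mul_inv_rev, inv_inv, inv_mul_cancel_right]
      rw [e]
      exact mul_mem (inv_mem h3) (mul_mem h2 h1)
    · exact f.sq_mem h ha hax

end First

/-- If all squares are central, so are all commutators. -/
theorem comm_of_sq {a b : G} (hsq : ∀ c ∈ S, c * c ∈ zS S) (ha : a ∈ S) (hb : b ∈ S) :
    a * b * a⁻¹ * b⁻¹ ∈ zS S := by
  have e : a * b * a⁻¹ * b⁻¹ = (a * b * (a * b)) * (a * a)⁻¹ * (b * b)⁻¹ := by
    have h1 : Commute (a * a)⁻¹ (a * b * (a * b)) :=
      (((mem_zS.1 (hsq a ha)).2 _ (mem_zS.1 (hsq _ (mul_mem ha hb))).1)).inv_left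
    have h2 : Commute (a * a)⁻¹ b := ((mem_zS.1 (hsq a ha)).2 b hb).inv_left
    calc a * b * a⁻¹ * b⁻¹ = a * b * a * ((a * a)⁻¹ * b) * (b * b)⁻¹ := by group
      _ = a * b * (a * b) * (a * a)⁻¹ * (b * b)⁻¹ := by rw [h2.eq]; group
  rw [e]
  exact mul_mem (mul_mem (hsq _ (mul_mem ha hb)) (inv_mem (hsq a ha))) (inv_mem (hsq b hb))

end CfsgLib.MinNonCA
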